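import Mathlib
import Groth.Prelude.Def_DualLC
import Groth.Agent.H9.RG.ColimRep

/-!
# Elements of `H_T(X) = colim_{V(J) ⊆ T} Hom_{D(A)}(A/J, X)`  (helper2)

Basic element API for the colimits defining `Dual2.HDT`: representatives, vanishing at a finite
stage, functoriality in `X`, annihilation by `J`.
-/

set_option autoImplicit false
set_option maxHeartbeats 400000
set_option linter.unusedSectionVars false
set_option linter.style.haveILetI false

universe u v

open CategoryTheory CategoryTheory.Limits Opposite

attribute [local instance] HasDerivedCategory.standard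

namespace Groth.Agent.H2.HT

section General

theorem forget_pres (A : Type u) [Ring A] :
    PreservesFilteredColimitsOfSize.{max v u, max v u} (forget (ModuleCat.{max v u} A)) := by
  have h1 : PreservesFilteredColimitsOfSize.{max v u, max v u}
      (forget₂ (ModuleCat.{max v u} A) AddCommGrpCat.{max v u}) :=
    { preserves_filtered_colimits := fun J _ _ =>
      { preservesColimit := fun {F} =>
          preservesColimit_of_preserves_colimit_cocone
            (ModuleCat.FilteredColimits.colimitCoconeIsColimit.{max v u, u} F)
            (AddCommGrpCat.FilteredColimits.colimitCoconeIsColimit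
              (F ⋙ forget₂ (ModuleCat.{max v u} A) AddCommGrpCat.{max v u})) } }
  exact Limits.comp_preservesFilteredColimits (forget₂ (ModuleCat A) AddCommGrpCat)
    (forget AddCommGrpCat)

theorem forget_pres_small (A : Type u) [Ring A] :
    PreservesFilteredColimitsOfSize.{u, u} (forget (ModuleCat.{u + 1} A)) := by
  have := forget_pres.{u, u + 1} A
  exact preservesFilteredColimitsOfSize_shrink.{u, u + 1, u, u + 1} _

variable {A : Type u} [Ring A] {J : Type u} [SmallCategory J] [IsFiltered J]

/-- an element dying in a (small) filtered colimit of big modules dies at a finite stage -/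
theorem colimit_ι_eq_zero (F : J ⥤ ModuleCat.{u + 1} A) {j : J} (y : F.obj j)
    (hy : (colimit.ι F j).hom y = 0) : ∃ (k : J) (f : j ⟶ k), (F.map f).hom y = 0 := by
  have := forget_pres_small A
  have h0 : (colimit.ι F j).hom y = (colimit.ι F j).hom (0 : F.obj j) := by
    rw [hy, map_zero]
  obtain ⟨k, f, g, hfg⟩ := (Concrete.colimit_rep_eq_iff_exists (F := F) y (0 : F.obj j)).mp h0
  refine ⟨k, f, ?_⟩
  have h1 : (F.map g).hom (0 : F.obj j) = 0 := map_zero _
  exact hfg.trans h1

end General

end Groth.Agent.H2.HT
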