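import Mathlib
import Groth.Prelude.Def_DualLC
import Groth.Agent.H2.HT.Colim

/-!
# `H_T(X) = colim_{V(J) ⊆ T} Hom_{D(A)}(A/J, X)`: elements  (helper2)
-/

set_option autoImplicit false
set_option maxHeartbeats 400000
set_option linter.unusedSectionVars false
set_option linter.style.haveILetI false

universe u

open CategoryTheory CategoryTheory.Limits Opposite

attribute [local instance] HasDerivedCategory.standard

namespace Groth.Agent.H2.HT

variable {A : Type u} [CommRing A]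

/-- `A/J` in degree `0` -/
noncomputable abbrev sQ (J : Ideal A) : Dual.D A :=
  (DerivedCategory.singleFunctor (ModuleCat.{u} A) 0).obj (ModuleCat.of A (A ⧸ J))

/-- `A/J' → A/J` for `J' ≤ J` -/
def qmap {J' J : Ideal A} (h : J' ≤ J) : ModuleCat.of A (A ⧸ J') ⟶ ModuleCat.of A (A ⧸ J) :=
  ModuleCat.ofHom (Submodule.mapQ _ _ LinearMap.id h)

theorem qmap_comp {J'' J' J : Ideal A} (h : J'' ≤ J') (h' : J' ≤ J) :
    qmap h ≫ qmap h' = qmap (h.trans h') := by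
  apply ModuleCat.hom_ext
  apply LinearMap.ext
  intro x
  obtain ⟨x, rfl⟩ := Submodule.Quotient.mk_surjective _ x
  rfl

theorem qmap_refl (J : Ideal A) : qmap (le_refl J) = 𝟙 _ := by
  apply ModuleCat.hom_ext
  apply LinearMap.ext
  intro x
  obtain ⟨x, rfl⟩ := Submodule.Quotient.mk_surjective _ x
  rfl

/-- `A/J' → A/J` in `D(A)` -/
noncomputable abbrev sqmap {J' J : Ideal A} (h : J' ≤ J) : sQ J' ⟶ sQ J :=
  (DerivedCategory.singleFunctor (ModuleCat.{u} A) 0).map (qmap h)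

theorem sqmap_comp {J'' J' J : Ideal A} (h : J'' ≤ J') (h' : J' ≤ J) :
    sqmap h ≫ sqmap h' = sqmap (h.trans h') := by
  rw [← Functor.map_comp, qmap_comp]

theorem sqmap_refl (J : Ideal A) : sqmap (le_refl J) = 𝟙 _ := by
  show (DerivedCategory.singleFunctor (ModuleCat.{u} A) 0).map (qmap (le_refl J)) = 𝟙 _
  rw [qmap_refl]
  exact (DerivedCategory.singleFunctor (ModuleCat.{u} A) 0).map_id _

/-- elements of `J` act by zero on `A/J` in `D(A)` -/
theorem smul_id_sQ (J : Ideal A) (a : A) (ha : a ∈ J) : a • 𝟙 (sQ J) = 0 := by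
  have h1 : a • 𝟙 (ModuleCat.of A (A ⧸ J)) = 0 := by
    apply ModuleCat.hom_ext
    apply LinearMap.ext
    intro x
    obtain ⟨x, rfl⟩ := Submodule.Quotient.mk_surjective _ x
    show a • (Submodule.Quotient.mk x : A ⧸ J) = 0
    rw [← Submodule.Quotient.mk_smul, Submodule.Quotient.mk_eq_zero]
    exact J.mul_mem_right x ha
  have h2 := Functor.map_smul (DerivedCategory.singleFunctor (ModuleCat.{u} A) 0) a
    (𝟙 (ModuleCat.of A (A ⧸ J)))
  rw [h1, Functor.map_zero, CategoryTheory.Functor.map_id] at h2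
  exact h2.symm

theorem smul_hom_sQ (J : Ideal A) (a : A) (ha : a ∈ J) {X : Dual.D A} (α : sQ J ⟶ X) :
    a • α = 0 := by
  have : a • α = (a • 𝟙 (sQ J)) ≫ α := by
    rw [Linear.smul_comp, Category.id_comp]
  rw [this, smul_id_sQ J a ha, zero_comp]

variable (T : Set (PrimeSpectrum A))

/-- constructor for objects of `IdealsIn T` -/
def mkI (J : Ideal A) (h : PrimeSpectrum.zeroLocus (J : Set A) ⊆ T) : Dual2.IdealsIn T := ⟨J, h⟩

variable {T}

/-- morphisms of `IdealsIn T` from inequalities -/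
def homI {J' J : Dual2.IdealsIn T} (h : J'.obj ≤ J.obj) : J' ⟶ J :=
  ObjectProperty.homMk (homOfLE h)

theorem leI {J' J : Dual2.IdealsIn T} (f : J' ⟶ J) : J'.obj ≤ J.obj := leOfHom f.hom

instance (J' J : Dual2.IdealsIn T) : Subsingleton (J' ⟶ J) :=
  ⟨fun f g => ObjectProperty.hom_ext _ (Subsingleton.elim _ _)⟩

variable (T)

theorem zeroLocus_inf_subset {J J' : Ideal A} (h : PrimeSpectrum.zeroLocus (J : Set A) ⊆ T)
    (h' : PrimeSpectrum.zeroLocus (J' : Set A) ⊆ T) :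
    PrimeSpectrum.zeroLocus ((J ⊓ J' : Ideal A) : Set A) ⊆ T := by
  rw [PrimeSpectrum.zeroLocus_inf]
  exact Set.union_subset h h'

theorem zeroLocus_pow_subset {J : Ideal A} (h : PrimeSpectrum.zeroLocus (J : Set A) ⊆ T)
    {n : ℕ} (hn : n ≠ 0) : PrimeSpectrum.zeroLocus ((J ^ n : Ideal A) : Set A) ⊆ T := by
  rw [PrimeSpectrum.zeroLocus_pow _ hn]
  exact h

theorem zeroLocus_mul_subset {J J' : Ideal A} (h : PrimeSpectrum.zeroLocus (J : Set A) ⊆ T)
    (h' : PrimeSpectrum.zeroLocus (J' : Set A) ⊆ T) :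
    PrimeSpectrum.zeroLocus ((J * J' : Ideal A) : Set A) ⊆ T := by
  rw [PrimeSpectrum.zeroLocus_mul]
  exact Set.union_subset h h'

instance : IsCofiltered (Dual2.IdealsIn T) where
  cone_objs J J' := ⟨mkI T (J.obj ⊓ J'.obj) (zeroLocus_inf_subset T J.property J'.property),
    homI inf_le_left, homI inf_le_right, trivial⟩
  cone_maps J _ _ _ := ⟨J, 𝟙 J, Subsingleton.elim _ _⟩
  nonempty := ⟨mkI T ⊤ (by
    intro x hx
    simp at hx)⟩

instance : IsFiltered (Dual2.IdealsIn T)ᵒᵖ := inferInstance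

/-- the diagram defining `H_T(X)` -/
noncomputable abbrev FD (X : Dual.D A) : (Dual2.IdealsIn T)ᵒᵖ ⥤ ModuleCat.{u + 1} A :=
  (localCohomology.ringModIdeals (Dual2.idealsInDiagram T) ⋙
      DerivedCategory.singleFunctor (ModuleCat.{u} A) 0).op ⋙ (linearYoneda A (Dual.D A)).obj X

/-- `H_T(X)`; `Dual2.HDT A T K i = HX T (K⟦i⟧)` -/
noncomputable abbrev HX (X : Dual.D A) : ModuleCat.{u + 1} A := colimit (FD T X)

example (K : Dual.D A) (i : ℤ) : Dual2.HDT A T K i = HX T (K⟦i⟧) := rfl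

variable {T}

/-- the class of `α : A/J → X` in `H_T(X)` -/
noncomputable def ιD (J : Dual2.IdealsIn T) (X : Dual.D A) : (sQ J.obj ⟶ X) →ₗ[A] HX T X :=
  (colimit.ι (FD T X) (op J)).hom

theorem FD_map {J' J : Dual2.IdealsIn T} (f : J' ⟶ J) (X : Dual.D A) (α : sQ J.obj ⟶ X) :
    ((FD T X).map f.op).hom α = sqmap (leI f) ≫ α := rfl

theorem ιD_res {J' J : Dual2.IdealsIn T} (h : J'.obj ≤ J.obj) (X : Dual.D A)
    (α : sQ J.obj ⟶ X) : ιD J' X (sqmap h ≫ α) = ιD J X α := by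
  have h1 := congrArg (fun g => g.hom α) (colimit.w (FD T X) (homI h).op)
  exact h1

theorem exists_rep (X : Dual.D A) (x : HX T X) :
    ∃ (J : Dual2.IdealsIn T) (α : sQ J.obj ⟶ X), ιD J X α = x := by
  obtain ⟨j, α, h⟩ := Groth.Agent.H9.RG.colimit_exists_rep' (FD T X) x
  exact ⟨j.unop, α, h⟩

theorem ιD_eq_zero {J : Dual2.IdealsIn T} {X : Dual.D A} (α : sQ J.obj ⟶ X)
    (h : ιD J X α = 0) : ∃ (J' : Dual2.IdealsIn T) (h' : J'.obj ≤ J.obj), sqmap h' ≫ α = 0 := by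
  obtain ⟨k, f, hf⟩ := colimit_ι_eq_zero (FD T X) (j := op J) α h
  exact ⟨k.unop, leI f.unop, hf⟩

theorem ιD_eq_zero_iff {J : Dual2.IdealsIn T} {X : Dual.D A} (α : sQ J.obj ⟶ X) :
    ιD J X α = 0 ↔ ∃ (J' : Dual2.IdealsIn T) (h' : J'.obj ≤ J.obj), sqmap h' ≫ α = 0 := by
  refine ⟨ιD_eq_zero α, ?_⟩
  rintro ⟨J', h', h0⟩
  rw [← ιD_res h', h0, map_zero]

/-- two representatives can be brought to a common index -/
theorem exists_rep₂ (X : Dual.D A) (x y : HX T X) :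
    ∃ (J : Dual2.IdealsIn T) (α β : sQ J.obj ⟶ X), ιD J X α = x ∧ ιD J X β = y := by
  obtain ⟨J₁, α, rfl⟩ := exists_rep X x
  obtain ⟨J₂, β, rfl⟩ := exists_rep X y
  refine ⟨mkI T (J₁.obj ⊓ J₂.obj) (zeroLocus_inf_subset T J₁.property J₂.property),
    sqmap inf_le_left ≫ α, sqmap inf_le_right ≫ β, ?_, ?_⟩
  · exact ιD_res (J' := mkI T (J₁.obj ⊓ J₂.obj) _) (J := J₁) inf_le_left X α
  · exact ιD_res (J' := mkI T (J₁.obj ⊓ J₂.obj) _) (J := J₂) inf_le_right X β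

/-- `J` kills the classes coming from `A/J` -/
theorem smul_ιD {J : Dual2.IdealsIn T} {X : Dual.D A} (a : A) (ha : a ∈ J.obj)
    (α : sQ J.obj ⟶ X) : a • ιD J X α = 0 := by
  rw [← map_smul, smul_hom_sQ J.obj a ha, map_zero]

/-- every element of `H_T(X)` is killed by some `J` with `V(J) ⊆ T` -/
theorem exists_ideal_smul_eq_zero (X : Dual.D A) (x : HX T X) :
    ∃ J : Dual2.IdealsIn T, ∀ a ∈ J.obj, a • x = 0 := by
  obtain ⟨J, α, rfl⟩ := exists_rep X x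
  exact ⟨J, fun a ha => smul_ιD a ha α⟩


/-! ### ideal-level API (avoids the category `IdealsIn T`) -/

/-- the class of `α : A/J → X` in `H_T(X)`, for an ideal `J` with `V(J) ⊆ T` -/
noncomputable def ιI (J : Ideal A) (hJ : PrimeSpectrum.zeroLocus (J : Set A) ⊆ T) (X : Dual.D A) :
    (sQ J ⟶ X) →ₗ[A] HX T X :=
  ιD (mkI T J hJ) X

theorem ιI_res {J' J : Ideal A} (hJ' : PrimeSpectrum.zeroLocus (J' : Set A) ⊆ T)
    (hJ : PrimeSpectrum.zeroLocus (J : Set A) ⊆ T) (h : J' ≤ J) (X : Dual.D A) (α : sQ J ⟶ X) :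
    ιI J' hJ' X (sqmap h ≫ α) = ιI J hJ X α :=
  ιD_res (J' := mkI T J' hJ') (J := mkI T J hJ) h X α

theorem exists_repI (X : Dual.D A) (x : HX T X) :
    ∃ (J : Ideal A) (hJ : PrimeSpectrum.zeroLocus (J : Set A) ⊆ T) (α : sQ J ⟶ X),
      ιI J hJ X α = x := by
  obtain ⟨J, α, h⟩ := exists_rep X x
  exact ⟨J.obj, J.property, α, h⟩

theorem ιI_eq_zero {J : Ideal A} (hJ : PrimeSpectrum.zeroLocus (J : Set A) ⊆ T) {X : Dual.D A}
    (α : sQ J ⟶ X) (h : ιI J hJ X α = 0) :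
    ∃ (J' : Ideal A) (_ : PrimeSpectrum.zeroLocus (J' : Set A) ⊆ T) (h' : J' ≤ J),
      sqmap h' ≫ α = 0 := by
  obtain ⟨J', h', h0⟩ := ιD_eq_zero (J := mkI T J hJ) α h
  exact ⟨J'.obj, J'.property, h', h0⟩

theorem ιI_eq_zero_of {J' J : Ideal A} (hJ' : PrimeSpectrum.zeroLocus (J' : Set A) ⊆ T)
    (hJ : PrimeSpectrum.zeroLocus (J : Set A) ⊆ T) (h : J' ≤ J) {X : Dual.D A} (α : sQ J ⟶ X)
    (h0 : sqmap h ≫ α = 0) : ιI J hJ X α = 0 := by
  have h1 := ιI_res hJ' hJ h X α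
  have h2 : ιI J' hJ' X (sqmap h ≫ α) = 0 := (congrArg (ιI J' hJ' X) h0).trans (map_zero _)
  exact h1.symm.trans h2

theorem smul_ιI {J : Ideal A} (hJ : PrimeSpectrum.zeroLocus (J : Set A) ⊆ T) {X : Dual.D A}
    (a : A) (ha : a ∈ J) (α : sQ J ⟶ X) : a • ιI J hJ X α = 0 :=
  smul_ιD (J := mkI T J hJ) a ha α

theorem exists_idealI_smul_eq_zero (X : Dual.D A) (x : HX T X) :
    ∃ (J : Ideal A) (_ : PrimeSpectrum.zeroLocus (J : Set A) ⊆ T), ∀ a ∈ J, a • x = 0 := by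
  obtain ⟨J, hJ, α, rfl⟩ := exists_repI X x
  exact ⟨J, hJ, fun a ha => smul_ιI hJ a ha α⟩

section Functor

variable {X Y Z : Dual.D A}

/-- functoriality of `H_T` -/
noncomputable def mapX (T : Set (PrimeSpectrum A)) (f : X ⟶ Y) : HX T X ⟶ HX T Y :=
  colimMap (Functor.whiskerLeft _ ((linearYoneda A (Dual.D A)).map f))

theorem mapX_ιD (f : X ⟶ Y) (J : Dual2.IdealsIn T) (α : sQ J.obj ⟶ X) :
    (mapX T f).hom (ιD J X α) = ιD J Y (α ≫ f) := by
  have h1 := congrArg (fun g => g.hom α)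
    (ι_colimMap (Functor.whiskerLeft (localCohomology.ringModIdeals (Dual2.idealsInDiagram T) ⋙
      DerivedCategory.singleFunctor (ModuleCat.{u} A) 0).op
      ((linearYoneda A (Dual.D A)).map f)) (op J))
  exact h1

theorem mapX_ιI (f : X ⟶ Y) (J : Ideal A) (hJ : PrimeSpectrum.zeroLocus (J : Set A) ⊆ T)
    (α : sQ J ⟶ X) : (mapX T f).hom (ιI J hJ X α) = ιI J hJ Y (α ≫ f) :=
  mapX_ιD f (mkI T J hJ) α

theorem mapX_comp (f : X ⟶ Y) (g : Y ⟶ Z) (x : HX T X) :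
    (mapX T (f ≫ g)).hom x = (mapX T g).hom ((mapX T f).hom x) := by
  obtain ⟨J, α, rfl⟩ := exists_rep X x
  rw [mapX_ιD, mapX_ιD, mapX_ιD, Category.assoc]

theorem mapX_id (x : HX T X) : (mapX T (𝟙 X)).hom x = x := by
  obtain ⟨J, α, rfl⟩ := exists_rep X x
  rw [mapX_ιD, Category.comp_id]

theorem mapX_zero (x : HX T X) : (mapX T (0 : X ⟶ Y)).hom x = 0 := by
  obtain ⟨J, α, rfl⟩ := exists_rep X x
  rw [mapX_ιD, comp_zero, map_zero]

theorem mapX_smul (a : A) (f : X ⟶ Y) (x : HX T X) :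
    (mapX T (a • f)).hom x = a • (mapX T f).hom x := by
  obtain ⟨J, α, rfl⟩ := exists_rep X x
  rw [mapX_ιD, mapX_ιD, Linear.comp_smul, map_smul]

/-- `H_T` of an isomorphism -/
noncomputable def mapIsoX (T : Set (PrimeSpectrum A)) (e : X ≅ Y) : HX T X ≃ₗ[A] HX T Y where
  __ := (mapX T e.hom).hom
  invFun := (mapX T e.inv).hom
  left_inv x := by
    show (mapX T e.inv).hom ((mapX T e.hom).hom x) = x
    rw [← mapX_comp, e.hom_inv_id, mapX_id]
  right_inv x := by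
    show (mapX T e.hom).hom ((mapX T e.inv).hom x) = x
    rw [← mapX_comp, e.inv_hom_id, mapX_id]

theorem mapIsoX_apply (e : X ≅ Y) (x : HX T X) : mapIsoX T e x = (mapX T e.hom).hom x := rfl

end Functor

end Groth.Agent.H2.HT
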