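import Mathlib
import Groth.Agent.H9.DCF.Basic

/-!
# Long exact sequences for the derived completion functor  (helper2)

`completed_exact`, `completed_injective`: for a distinguished triangle `K ⟶ L ⟶ Z ⟶ K[1]` the
sequence `H^n(K^∧) ⟶ H^n(L^∧) ⟶ H^n(Z^∧)` is exact, and `H^n(K^∧) ⟶ H^n(L^∧)` is injective when
`H^{n-1}(Z^∧) = 0`.
-/

set_option autoImplicit false
set_option maxHeartbeats 800000
set_option linter.unusedSectionVars false
set_option linter.style.haveILetI false

universe u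

open CategoryTheory CategoryTheory.Limits Pretriangulated DerivedCategory

attribute [local instance] HasDerivedCategory.standard

namespace Groth.Agent.H2.HT.CDC

open Groth.Agent.H9.DC Groth.Agent.H9.DCF

variable {A : Type u} [CommRing A] (I : Ideal A) [DRing.HasDerivedCompletion I]

/-- the derived completion, as an object of `D(A)` -/
noncomputable abbrev Cobj (K : Dual.D A) : Dual.D A := ((DRing.derivedCompletion I).obj K).obj

/-- the derived completion of a morphism -/
noncomputable abbrev Cmap {K L : Dual.D A} (φ : K ⟶ L) : Cobj I K ⟶ Cobj I L :=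
  ((DRing.derivedCompletion I).map φ).hom

lemma Cmap_id (K : Dual.D A) : Cmap I (𝟙 K) = 𝟙 _ := by
  show ((DRing.derivedCompletion I).map (𝟙 K)).hom = _
  rw [CategoryTheory.Functor.map_id]
  rfl

lemma Cmap_comp {K L Z : Dual.D A} (φ : K ⟶ L) (g : L ⟶ Z) :
    Cmap I (φ ≫ g) = Cmap I φ ≫ Cmap I g := by
  show ((DRing.derivedCompletion I).map (φ ≫ g)).hom = _
  rw [Functor.map_comp]
  rfl

lemma η_naturality {K L : Dual.D A} (φ : K ⟶ L) :
    φ ≫ DRing.toDerivedCompletion I L = DRing.toDerivedCompletion I K ≫ Cmap I φ :=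
  (DRing.derivedCompletionAdj I).unit.naturality φ

/-- `H^n` of the derived completion of a morphism, as a linear map -/
noncomputable abbrev HC (n : ℤ) {K L : Dual.D A} (φ : K ⟶ L) :
    Dual.HD A (Cobj I K) n →ₗ[A] Dual.HD A (Cobj I L) n :=
  ((homologyFunctor (ModuleCat.{u} A) n).map (Cmap I φ)).hom

lemma HC_id (n : ℤ) (K : Dual.D A) (x : Dual.HD A (Cobj I K) n) : HC I n (𝟙 K) x = x := by
  show ((homologyFunctor (ModuleCat.{u} A) n).map (Cmap I (𝟙 K))).hom x = x
  rw [Cmap_id, CategoryTheory.Functor.map_id]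
  rfl

lemma HC_comp (n : ℤ) {K L Z : Dual.D A} (φ : K ⟶ L) (g : L ⟶ Z) (x : Dual.HD A (Cobj I K) n) :
    HC I n (φ ≫ g) x = HC I n g (HC I n φ x) := by
  show ((homologyFunctor (ModuleCat.{u} A) n).map (Cmap I (φ ≫ g))).hom x = _
  rw [Cmap_comp, Functor.map_comp]
  rfl

/-- the completed triangle, with third vertex identified with the completion of `Z` -/
theorem exists_completed_triangle' {K L Z : Dual.D A} (φ : K ⟶ L) (g : L ⟶ Z)
    (h : Z ⟶ K⟦(1 : ℤ)⟧) (hT : Triangle.mk φ g h ∈ distTriang (Dual.D A)) :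
    ∃ h' : Cobj I Z ⟶ (Cobj I K)⟦(1 : ℤ)⟧,
      Triangle.mk (Cmap I φ) (Cmap I g) h' ∈ distTriang (Dual.D A) := by
  obtain ⟨W, g', h', ζ, hT', comm₂, hζ⟩ := exists_completed_triangle (I := I) φ g h hT
  obtain ⟨e, he⟩ := (isDC_toDerivedCompletion (I := I) Z).exists_iso hζ
  have hg : Cmap I g ≫ e.hom = g' := by
    obtain ⟨u, -, huniq⟩ := toDerivedCompletion_universal I L W hζ.1 (g ≫ ζ)
    have h1 : Cmap I g ≫ e.hom = u := huniq _ (by
      show DRing.toDerivedCompletion I L ≫ Cmap I g ≫ e.hom = g ≫ ζ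
      rw [← Category.assoc, ← η_naturality, Category.assoc, he])
    have h2 : g' = u := huniq _ comm₂.symm
    rw [h1, h2]
  refine ⟨e.hom ≫ h', ?_⟩
  refine isomorphic_distinguished _ hT' _ ?_
  refine Triangle.isoMk _ _ (Iso.refl _) (Iso.refl _) e ?_ ?_ ?_
  · exact (Category.comp_id _).trans (Category.id_comp _).symm
  · exact hg.trans (Category.id_comp _).symm
  · show (e.hom ≫ h') ≫ (shiftFunctor (Dual.D A) (1 : ℤ)).map (𝟙 _) = e.hom ≫ h'
    rw [CategoryTheory.Functor.map_id, Category.comp_id]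

theorem completed_exact {K L Z : Dual.D A} (φ : K ⟶ L) (g : L ⟶ Z)
    (h : Z ⟶ K⟦(1 : ℤ)⟧) (hT : Triangle.mk φ g h ∈ distTriang (Dual.D A)) (n : ℤ)
    (y : Dual.HD A (Cobj I L) n) (hy : HC I n g y = 0) : ∃ x, HC I n φ x = y := by
  obtain ⟨h', hT'⟩ := exists_completed_triangle' I φ g h hT
  have hex := HomologySequence.exact₂ _ hT' n
  rw [ShortComplex.moduleCat_exact_iff] at hex
  exact hex y hy

theorem completed_comp_zero {K L Z : Dual.D A} (φ : K ⟶ L) (g : L ⟶ Z)
    (h : Z ⟶ K⟦(1 : ℤ)⟧) (hT : Triangle.mk φ g h ∈ distTriang (Dual.D A)) (n : ℤ)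
    (x : Dual.HD A (Cobj I K) n) : HC I n g (HC I n φ x) = 0 := by
  obtain ⟨h', hT'⟩ := exists_completed_triangle' I φ g h hT
  have h0 : Cmap I φ ≫ Cmap I g = 0 := comp_distTriang_mor_zero₁₂ _ hT'
  show ((homologyFunctor (ModuleCat.{u} A) n).map (Cmap I g)).hom
    (((homologyFunctor (ModuleCat.{u} A) n).map (Cmap I φ)).hom x) = 0
  have h1 : (homologyFunctor (ModuleCat.{u} A) n).map (Cmap I φ) ≫
      (homologyFunctor (ModuleCat.{u} A) n).map (Cmap I g) = 0 := by
    rw [← Functor.map_comp, h0, Functor.map_zero]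
  have h2 := congrArg (fun t => t.hom x) h1
  exact h2

theorem completed_injective {K L Z : Dual.D A} (φ : K ⟶ L) (g : L ⟶ Z)
    (h : Z ⟶ K⟦(1 : ℤ)⟧) (hT : Triangle.mk φ g h ∈ distTriang (Dual.D A)) (m n : ℤ)
    (hmn : m + 1 = n) (hZ : Subsingleton (Dual.HD A (Cobj I Z) m)) :
    Function.Injective (HC I n φ) := by
  obtain ⟨h', hT'⟩ := exists_completed_triangle' I φ g h hT
  have hz : IsZero ((homologyFunctor (ModuleCat.{u} A) m).obj (Cobj I Z)) :=
    ModuleCat.isZero_of_subsingleton _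
  have hm : Mono ((homologyFunctor (ModuleCat.{u} A) n).map (Cmap I φ)) :=
    (HomologySequence.mono_homologyMap_mor₁_iff _ hT' m n hmn).2 (hz.eq_of_src _ _)
  exact (ModuleCat.mono_iff_injective _).1 hm

/-- vanishing of the cohomology of the completion in negative degrees -/
def G0 (K : Dual.D A) : Prop := ∀ i : ℤ, i < 0 → Subsingleton (Dual.HD A (Cobj I K) i)

lemma G0.of_iso {K K' : Dual.D A} (e : K ≅ K') (h : G0 I K) : G0 I K' := by
  intro i hi
  haveI := h i hi
  let e' : Cobj I K ≅ Cobj I K' :=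
    (ObjectProperty.ι (DRing.IsDerivedComplete I)).mapIso ((DRing.derivedCompletion I).mapIso e)
  exact ((homologyFunctor (ModuleCat.{u} A) i).mapIso e').symm.toLinearEquiv.toEquiv.subsingleton

lemma G0_of_PC {K : Dual.D A} (hK : PC I K) (h : ∀ i : ℤ, i < 0 → Subsingleton (Dual.HD A K i)) :
    G0 I K := by
  intro i hi
  exact (hK _ _ (isDC_toDerivedCompletion K) i).subsingleton (h i hi)

lemma G0_of_triangle {K L Z : Dual.D A} (φ : K ⟶ L) (g : L ⟶ Z)
    (h : Z ⟶ K⟦(1 : ℤ)⟧) (hT : Triangle.mk φ g h ∈ distTriang (Dual.D A))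
    (hL : G0 I L) (hZ : G0 I Z) : G0 I K := by
  intro i hi
  have hinj := completed_injective I φ g h hT (i - 1) i (by omega) (hZ (i - 1) (by omega))
  haveI := hL i hi
  exact hinj.subsingleton

end Groth.Agent.H2.HT.CDC
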