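import Mathlib
import Groth.Prelude.Def_DRing3

/-!
# Algebra for S13497: elements of `M` dying in the completions of the `M_f`  (helper2)
-/

set_option autoImplicit false
set_option maxHeartbeats 800000
set_option linter.unusedSectionVars false
set_option linter.style.haveILetI false

universe u

namespace Groth.Agent.H2.HT.CDC

variable {A : Type u} [CommRing A]

/-- kernel of `N → N^` -/
lemma adicCompletion_of_eq_zero_iff (I : Ideal A) (N : Type u) [AddCommGroup N] [Module A N]
    (x : N) : AdicCompletion.of I N x = 0 ↔ x ∈ (⨅ n : ℕ, (I ^ n • ⊤ : Submodule A N)) := by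
  rw [Submodule.mem_iInf]
  constructor
  · intro h n
    have h1 := congrArg (AdicCompletion.eval I N n) h
    rw [AdicCompletion.eval_of, map_zero] at h1
    exact (Submodule.Quotient.mk_eq_zero _).1 h1
  · intro h
    apply AdicCompletion.ext
    intro n
    rw [AdicCompletion.of_apply]
    show _ = (0 : AdicCompletion I N).val n
    rw [AdicCompletion.val_zero]
    exact (Submodule.Quotient.mk_eq_zero _).2 (h n)

section Loc

variable (I : Ideal A) (M : Type u) [AddCommGroup M] [Module A M]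

/-- `⇐`: torsion elements die in the completions of the localisations -/
theorem mk_mem_iInf_of_torsion (J' : Ideal A) (f : A) (hf : f ∈ (J' ⊔ I).radical) (s : M)
    (hs : s ∈ DRing.torsionSub J' M) :
    LocalizedModule.mkLinearMap (Submonoid.powers f) M s ∈
      (⨅ n : ℕ, (I ^ n • ⊤ : Submodule A (LocalizedModule (Submonoid.powers f) M))) := by
  rw [Submodule.mem_iInf]
  intro N
  obtain ⟨n, hn⟩ := hs
  obtain ⟨m, hm⟩ := hf
  have h1 : (f ^ m) ^ (n + N) ∈ J' ^ n ⊔ I ^ N :=
    Ideal.sup_pow_add_le_pow_sup_pow (Ideal.pow_mem_pow hm (n + N))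
  obtain ⟨a, ha, b, hb, hab⟩ := Submodule.mem_sup.1 h1
  set σ : Submonoid.powers f := ⟨(f ^ m) ^ (n + N), ⟨m * (n + N), (pow_mul f m (n + N))⟩⟩ with hσ
  have h2 : LocalizedModule.mkLinearMap (Submonoid.powers f) M s =
      b • LocalizedModule.mk s σ := by
    rw [LocalizedModule.mkLinearMap_apply, LocalizedModule.smul'_mk, LocalizedModule.mk_eq]
    refine ⟨1, ?_⟩
    rw [one_smul, one_smul, one_smul]
    show ((f ^ m) ^ (n + N)) • s = b • s
    rw [← hab, add_smul, hn a ha, zero_add]
  rw [h2]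
  exact Submodule.smul_mem_smul hb Submodule.mem_top

/-- `⇒`: an element dying in the completion of `M_f` is killed by some `g = f^K - c`, `c ∈ I` -/
theorem exists_kill_of_mem_iInf [IsNoetherianRing A] [Module.Finite A M] (f : A) (s : M)
    (h : LocalizedModule.mkLinearMap (Submonoid.powers f) M s ∈
      (⨅ n : ℕ, (I ^ n • ⊤ : Submodule A (LocalizedModule (Submonoid.powers f) M)))) :
    ∃ (g c : A) (K : ℕ), c ∈ I ∧ g • s = 0 ∧ f ∣ g ∧ f ^ K = g + c := by
  let S := Submonoid.powers f
  let R' := Localization S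
  let I' : Ideal R' := I.map (algebraMap A R')
  haveI : IsNoetherianRing R' := IsLocalization.isNoetherianRing S R' inferInstance
  set x : LocalizedModule S M := LocalizedModule.mkLinearMap S M s with hx
  have hx' : x ∈ (⨅ n : ℕ, (I' ^ n • ⊤ : Submodule R' (LocalizedModule S M))) := by
    rw [Submodule.mem_iInf]
    intro n
    have h1 := (Submodule.mem_iInf _).1 h n
    have hle : (I ^ n • ⊤ : Submodule A (LocalizedModule S M)) ≤
        (I' ^ n • ⊤ : Submodule R' (LocalizedModule S M)).restrictScalars A := by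
      rw [Submodule.smul_le]
      intro a ha y _
      show a • y ∈ (I' ^ n • ⊤ : Submodule R' (LocalizedModule S M))
      rw [← algebraMap_smul R' a y]
      refine Submodule.smul_mem_smul ?_ Submodule.mem_top
      rw [← Ideal.map_pow]
      exact Ideal.mem_map_of_mem _ ha
    exact hle h1
  obtain ⟨r, hr⟩ := (Ideal.mem_iInf_smul_pow_eq_bot_iff I' x).1 hx'
  obtain ⟨⟨c₀, t⟩, hct⟩ := (IsLocalization.mem_map_algebraMap_iff S R').1 r.2
  have hct' : (r : R') * algebraMap A R' (t : A) = algebraMap A R' (c₀ : A) := hct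
  have h2 : ((t : A) - (c₀ : A)) • x = 0 := by
    rw [sub_smul, ← algebraMap_smul R' (c₀ : A) x, ← hct', mul_comm, mul_smul, hr,
      algebraMap_smul, sub_self]
  have h3 : LocalizedModule.mkLinearMap S M (((t : A) - (c₀ : A)) • s) = 0 := by
    rw [map_smul]
    exact h2
  obtain ⟨u, hu⟩ := (IsLocalizedModule.eq_zero_iff S (LocalizedModule.mkLinearMap S M)).1 h3
  obtain ⟨m, hm⟩ := t.2
  obtain ⟨m', hm'⟩ := u.2
  refine ⟨f * ((u : A) * ((t : A) - (c₀ : A))), f * ((u : A) * (c₀ : A)), 1 + (m' + m),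
    Ideal.mul_mem_left _ _ (Ideal.mul_mem_left _ _ c₀.2), ?_, Dvd.intro _ rfl, ?_⟩
  · rw [mul_smul, mul_smul]
    have : (u : A) • ((t : A) - (c₀ : A)) • s = 0 := hu
    rw [this, smul_zero]
  · have e1 : f ^ m = (t : A) := hm
    have e2 : f ^ m' = (u : A) := hm'
    rw [pow_add, pow_add, pow_one, e1, e2]
    ring

end Loc

/-- the set of elements of `M` dying in the completions of all `M_f`, `f ∈ fs` -/
theorem forall_mk_mem_iInf_iff [IsNoetherianRing A] (I J : Ideal A) (fs : List A)
    (hfs : Ideal.span {x : A | x ∈ fs} = J) (M : Type u) [AddCommGroup M] [Module A M]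
    [Module.Finite A M] (s : M) :
    (∀ f ∈ fs, LocalizedModule.mkLinearMap (Submonoid.powers f) M s ∈
      (⨅ n : ℕ, (I ^ n • ⊤ : Submodule A (LocalizedModule (Submonoid.powers f) M)))) ↔
    ∃ J' : Ideal A, J' ≤ J ∧ J ≤ (J' ⊔ I).radical ∧ s ∈ DRing.torsionSub J' M := by
  constructor
  · intro h
    have h' : ∀ f : A, ∃ (g c : A) (K : ℕ), f ∈ fs → (c ∈ I ∧ g • s = 0 ∧ f ∣ g ∧ f ^ K = g + c) := by
      intro f
      by_cases hf : f ∈ fs
      · obtain ⟨g, c, K, hh⟩ := exists_kill_of_mem_iInf I M f s (h f hf)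
        exact ⟨g, c, K, fun _ => hh⟩
      · exact ⟨0, 0, 0, fun hf' => (hf hf').elim⟩
    choose g c K hgcK using h'
    refine ⟨Ideal.span (g '' {x : A | x ∈ fs}), ?_, ?_, ?_⟩
    · rw [Ideal.span_le]
      rintro _ ⟨f, hf, rfl⟩
      obtain ⟨-, -, ⟨d, hd⟩, -⟩ := hgcK f hf
      rw [hd, ← hfs]
      exact Ideal.mul_mem_right _ _ (Ideal.subset_span hf)
    · rw [← hfs, Ideal.span_le]
      intro f hf
      obtain ⟨hc, -, -, hK⟩ := hgcK f hf
      refine ⟨K f, ?_⟩
      rw [hK]
      exact Submodule.add_mem_sup (Ideal.subset_span ⟨f, hf, rfl⟩) hc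
    · refine ⟨1, fun a ha => ?_⟩
      rw [pow_one] at ha
      have hle : Ideal.span (g '' {x : A | x ∈ fs}) ≤
          LinearMap.ker (LinearMap.toSpanSingleton A M s) := by
        rw [Ideal.span_le]
        rintro _ ⟨f, hf, rfl⟩
        show LinearMap.toSpanSingleton A M s (g f) = 0
        rw [LinearMap.toSpanSingleton_apply]
        exact (hgcK f hf).2.1
      have := hle ha
      have h1 : LinearMap.toSpanSingleton A M s a = 0 := this
      rwa [LinearMap.toSpanSingleton_apply] at h1
  · rintro ⟨J', hJ'J, hJ, hs⟩ f hf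
    refine mk_mem_iInf_of_torsion I M J' f (hJ ?_) s hs
    rw [← hfs]
    exact Ideal.subset_span hf

end Groth.Agent.H2.HT.CDC
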