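import Mathlib
import Groth.Agent.H2.HT.CechDC
import Groth.Agent.H35.DCFlatMain
import Groth.Agent.H46.LocCxHomology
import Groth.Agent.H88.ExtCechFunctor

/-!
# The derived completion of the extended Čech complex of a finite module  (helper2)

Induction over the list of elements, carried out for all exact functors `Φ` of the form
"tensor with a flat module" (iterated localisations) applied termwise to the Čech complex.
-/

set_option autoImplicit false
set_option maxHeartbeats 800000
set_option linter.unusedSectionVars false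
set_option linter.style.haveILetI false

universe u

open CategoryTheory CategoryTheory.Limits Pretriangulated DerivedCategory TensorProduct

attribute [local instance] HasDerivedCategory.standard

namespace Groth.Agent.H2.HT.CDC

open Groth.Agent.H9.DC Groth.Agent.H9.DCF

variable {A : Type u} [CommRing A]

/-- the functor is (objectwise) tensoring with a flat module -/
def FlatTensor (Φ : ModuleCat.{u} A ⥤ ModuleCat.{u} A) : Prop :=
  ∃ (P : Type u) (_ : AddCommGroup P) (_ : Module A P), Module.Flat A P ∧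
    ∀ N : ModuleCat.{u} A, Nonempty (Φ.obj N ≅ ModuleCat.of A (N ⊗[A] P))

lemma flatTensor_id : FlatTensor (𝟭 (ModuleCat.{u} A)) :=
  ⟨A, inferInstance, inferInstance, inferInstance,
    fun N => ⟨(TensorProduct.rid A N).symm.toModuleIso⟩⟩

/-- `N_S ≅ N ⊗ A_S` -/
noncomputable def locTensorEquiv (S : Submonoid A) (N : Type u) [AddCommGroup N] [Module A N] :
    LocalizedModule S N ≃ₗ[A] N ⊗[A] Localization S :=
  ((LocalizedModule.equivTensorProduct S N).restrictScalars A).trans
    (TensorProduct.comm A (Localization S) N)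

lemma flatTensor_loc (S : Submonoid A) : FlatTensor (DerCA.locFunctor S) :=
  ⟨Localization S, inferInstance, inferInstance, inferInstance,
    fun N => ⟨(locTensorEquiv S N).toModuleIso⟩⟩

lemma FlatTensor.loc_comp {Φ : ModuleCat.{u} A ⥤ ModuleCat.{u} A} (hΦ : FlatTensor Φ)
    (S : Submonoid A) : FlatTensor (DerCA.locFunctor S ⋙ Φ) := by
  obtain ⟨P, _, _, hP, hiso⟩ := hΦ
  refine ⟨Localization S ⊗[A] P, inferInstance, inferInstance, inferInstance, fun N => ?_⟩
  obtain ⟨e⟩ := hiso ((DerCA.locFunctor S).obj N)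
  refine ⟨e ≪≫ LinearEquiv.toModuleIso ?_⟩
  exact (TensorProduct.congr (locTensorEquiv S N) (LinearEquiv.refl A P)).trans
    (TensorProduct.assoc A N (Localization S) P)

/-- a module in degree `0`, as a complex -/
noncomputable abbrev sg : ModuleCat.{u} A ⥤ DRing.Cx A :=
  HomologicalComplex.single (ModuleCat.{u} A) (ComplexShape.up ℤ) 0

/-- `Q(Φ(M[0])) ≅ (Φ M)[0]` in `D(A)` -/
noncomputable def qSingleIso (Φ : ModuleCat.{u} A ⥤ ModuleCat.{u} A) [Φ.Additive]
    (M : ModuleCat.{u} A) :
    (Q.obj ((Φ.mapHomologicalComplex (ComplexShape.up ℤ)).obj (sg.obj M)) : Dual.D A) ≅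
      Dual.inD A (Φ.obj M) :=
  Q.mapIso ((HomologicalComplex.singleMapHomologicalComplex Φ (ComplexShape.up ℤ) 0).app M) ≪≫
    ((DerivedCategory.singleFunctorIsoCompQ (ModuleCat.{u} A) 0).app (Φ.obj M)).symm

section

variable [IsNoetherianRing A] (I : Ideal A)

lemma PC_Q_single (Φ : ModuleCat.{u} A ⥤ ModuleCat.{u} A) [Φ.Additive] (hΦ : FlatTensor Φ)
    (M : ModuleCat.{u} A) [Module.Finite A M] :
    PC I (Q.obj ((Φ.mapHomologicalComplex (ComplexShape.up ℤ)).obj (sg.obj M)) : Dual.D A) := by
  obtain ⟨P, _, _, hP, hiso⟩ := hΦ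
  obtain ⟨e⟩ := hiso M
  have h1 : PC I (Dual.inD A (M ⊗[A] P)) := Groth.Agent.H35.DCFlatMain.PC_inD_tensor P M I
  exact PC.of_iso ((DerivedCategory.singleFunctor (ModuleCat.{u} A) 0).mapIso e.symm ≪≫
    (qSingleIso Φ M).symm) h1

lemma subsingleton_HD_Q_single (Φ : ModuleCat.{u} A ⥤ ModuleCat.{u} A) [Φ.Additive]
    (M : ModuleCat.{u} A) (i : ℤ) (hi : i ≠ 0) :
    Subsingleton (Dual.HD A
      (Q.obj ((Φ.mapHomologicalComplex (ComplexShape.up ℤ)).obj (sg.obj M)) : Dual.D A) i) := by
  haveI := subsingleton_HD_inD (A := A) (Φ.obj M) i hi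
  exact ((homologyFunctor (ModuleCat.{u} A) i).mapIso
    (qSingleIso Φ M)).toLinearEquiv.toEquiv.subsingleton

end

lemma aux_shift_iso {C : Type*} [Category C] [HasShift C ℤ] {a b c d : C} (i : a ≅ b)
    (m : a ⟶ c⟦(1 : ℤ)⟧) (j : c ≅ d) :
    (i.inv ≫ m ≫ j.hom⟦(1 : ℤ)⟧') ≫ j.inv⟦(1 : ℤ)⟧' = i.inv ≫ m := by
  rw [Category.assoc, Category.assoc, ← Functor.map_comp, Iso.hom_inv_id,
    CategoryTheory.Functor.map_id, Category.comp_id]

/-- the image of the mapping cocone triangle under an exact functor applied termwise -/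
theorem exists_triangle_map_cocone (Φ : ModuleCat.{u} A ⥤ ModuleCat.{u} A) [Φ.Additive]
    [PreservesFiniteLimits Φ] [PreservesFiniteColimits Φ] {X Y : DRing.Cx A} (ψ : X ⟶ Y) :
    ∃ δ, Triangle.mk
      (Q.map ((Φ.mapHomologicalComplex (ComplexShape.up ℤ)).map
        (CochainComplex.mappingCocone.fst ψ)))
      (Q.map ((Φ.mapHomologicalComplex (ComplexShape.up ℤ)).map ψ)) δ ∈
        distTriang (Dual.D A) := by
  have h0 := DerivedCategory.mappingCocone_triangle_distinguished ψ
  have h1 := Φ.mapDerivedCategory.map_distinguished _ h0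
  let e := Φ.mapDerivedCategoryFactors
  let T1 := Φ.mapDerivedCategory.mapTriangle.obj
    (Q.mapTriangle.obj (CochainComplex.mappingCocone.triangle ψ))
  refine ⟨(e.app Y).inv ≫ T1.mor₃ ≫ ((e.app (CochainComplex.mappingCocone ψ)).hom)⟦(1 : ℤ)⟧', ?_⟩
  refine isomorphic_distinguished _ h1 _ (Triangle.isoMk _ _
    (e.app (CochainComplex.mappingCocone ψ)).symm (e.app X).symm (e.app Y).symm ?_ ?_ ?_)
  · exact e.inv.naturality (CochainComplex.mappingCocone.fst ψ)
  · exact e.inv.naturality ψ
  · exact aux_shift_iso (e.app Y) T1.mor₃ (e.app (CochainComplex.mappingCocone ψ))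

instance preservesFiniteLimits_locFunctor (S : Submonoid A) :
    PreservesFiniteLimits (DerCA.locFunctor S) :=
  (DerCA.locFunctor S).preservesFiniteLimits_of_preservesHomology

instance preservesFiniteColimits_locFunctor (S : Submonoid A) :
    PreservesFiniteColimits (DerCA.locFunctor S) :=
  (DerCA.locFunctor S).preservesFiniteColimits_of_preservesHomology

/-- the projection of the extended Čech complex onto its degree-zero term `M[0]` -/
noncomputable def π (M : ModuleCat.{u} A) : (fs : List A) → (DerCA.extCech M fs ⟶ sg.obj M)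
  | [] => 𝟙 _
  | f :: fs => CochainComplex.mappingCocone.fst
      (DerCA.locCxUnit (Submonoid.powers f) (DerCA.extCech M fs)) ≫ π M fs

lemma π_nil (M : ModuleCat.{u} A) : π M [] = 𝟙 _ := rfl

lemma π_cons (M : ModuleCat.{u} A) (f : A) (fs : List A) :
    π M (f :: fs) = CochainComplex.mappingCocone.fst
      (DerCA.locCxUnit (Submonoid.powers f) (DerCA.extCech M fs)) ≫ π M fs := rfl

section Main

variable [IsNoetherianRing A] (I : Ideal A) [DRing.HasDerivedCompletion I]
  (M : ModuleCat.{u} A) [Module.Finite A M]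

omit [IsNoetherianRing A] [Module.Finite A M] in
lemma HCQ_id (Φ : ModuleCat.{u} A ⥤ ModuleCat.{u} A) [Φ.Additive] (X : DRing.Cx A)
    (x : Dual.HD A (Cobj I (Q.obj ((Φ.mapHomologicalComplex (ComplexShape.up ℤ)).obj X))) 0) :
    HC I 0 (Q.map ((Φ.mapHomologicalComplex (ComplexShape.up ℤ)).map (𝟙 X))) x = x := by
  rw [CategoryTheory.Functor.map_id, CategoryTheory.Functor.map_id, HC_id]

omit [IsNoetherianRing A] [Module.Finite A M] in
lemma HCQ_comp (Φ : ModuleCat.{u} A ⥤ ModuleCat.{u} A) [Φ.Additive] {X Y Z : DRing.Cx A}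
    (a : X ⟶ Y) (b : Y ⟶ Z)
    (x : Dual.HD A (Cobj I (Q.obj ((Φ.mapHomologicalComplex (ComplexShape.up ℤ)).obj X))) 0) :
    HC I 0 (Q.map ((Φ.mapHomologicalComplex (ComplexShape.up ℤ)).map (a ≫ b))) x =
      HC I 0 (Q.map ((Φ.mapHomologicalComplex (ComplexShape.up ℤ)).map b))
        (HC I 0 (Q.map ((Φ.mapHomologicalComplex (ComplexShape.up ℤ)).map a)) x) := by
  rw [Functor.map_comp, Functor.map_comp, HC_comp]

theorem main12 : ∀ (fs : List A) (Φ : ModuleCat.{u} A ⥤ ModuleCat.{u} A) [Φ.Additive]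
    [PreservesFiniteLimits Φ] [PreservesFiniteColimits Φ], FlatTensor Φ →
    G0 I (Q.obj ((Φ.mapHomologicalComplex (ComplexShape.up ℤ)).obj (DerCA.extCech M fs)) :
      Dual.D A) ∧
    Function.Injective (HC I 0
      (Q.map ((Φ.mapHomologicalComplex (ComplexShape.up ℤ)).map (π M fs)))) := by
  intro fs
  induction fs with
  | nil =>
    intro Φ _ _ _ hΦ
    constructor
    · exact G0_of_PC I (PC_Q_single I Φ hΦ M)
        (fun i hi => subsingleton_HD_Q_single Φ M i hi.ne)
    · intro x y hxy
      exact (HCQ_id I Φ (sg.obj M) x).symm.trans (hxy.trans (HCQ_id I Φ (sg.obj M) y))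
  | cons f fs ih =>
    intro Φ _ _ _ hΦ
    obtain ⟨hG, hinj⟩ := ih Φ hΦ
    obtain ⟨hG', -⟩ := ih (DerCA.locFunctor (Submonoid.powers f) ⋙ Φ)
      (hΦ.loc_comp (Submonoid.powers f))
    obtain ⟨δ, hT⟩ := exists_triangle_map_cocone Φ
      (DerCA.locCxUnit (Submonoid.powers f) (DerCA.extCech M fs))
    constructor
    · exact G0_of_triangle I _ _ _ hT hG hG'
    · intro x y hxy
      have hx := HCQ_comp I Φ (CochainComplex.mappingCocone.fst
        (DerCA.locCxUnit (Submonoid.powers f) (DerCA.extCech M fs))) (π M fs) x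
      have hy := HCQ_comp I Φ (CochainComplex.mappingCocone.fst
        (DerCA.locCxUnit (Submonoid.powers f) (DerCA.extCech M fs))) (π M fs) y
      have hxy' := hx.symm.trans (hxy.trans hy)
      exact completed_injective I _ _ _ hT (-1) 0 (by omega) (hG' (-1) (by omega)) (hinj hxy')

omit [IsNoetherianRing A] [Module.Finite A M] in
lemma HCQ_comp' {X Y Z : DRing.Cx A} (a : X ⟶ Y) (b : Y ⟶ Z)
    (x : Dual.HD A (Cobj I (Q.obj X)) 0) :
    HC I 0 (Q.map (a ≫ b)) x = HC I 0 (Q.map b) (HC I 0 (Q.map a) x) := by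
  rw [Functor.map_comp, HC_comp]

omit [IsNoetherianRing A] [Module.Finite A M] in
lemma HCQ_id' (X : DRing.Cx A) (x : Dual.HD A (Cobj I (Q.obj X)) 0) :
    HC I 0 (Q.map (𝟙 X)) x = x := by
  rw [CategoryTheory.Functor.map_id, HC_id]

/-- un-localised version of `main12` -/
theorem main12' (fs : List A) :
    G0 I (Q.obj (DerCA.extCech M fs) : Dual.D A) ∧
      Function.Injective (HC I 0 (Q.map (π M fs))) :=
  main12 I M fs (𝟭 _) flatTensor_id

theorem range3 : ∀ fs : List A, Set.range (HC I 0 (Q.map (π M fs))) =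
    {x | ∀ f ∈ fs, HC I 0 (Q.map (DerCA.locCxUnit (Submonoid.powers f) (sg.obj M))) x = 0} := by
  intro fs
  induction fs with
  | nil =>
    ext x
    simp only [Set.mem_range, Set.mem_ofPred_eq, List.not_mem_nil, false_imp_iff, implies_true,
      iff_true]
    exact ⟨x, HCQ_id' I (sg.obj M) x⟩
  | cons f fs ih =>
    set X := DerCA.extCech M fs with hX
    set lam := DerCA.locCxUnit (Submonoid.powers f) X with hlam
    have hT := DerivedCategory.mappingCocone_triangle_distinguished lam
    have hnat : lam ≫ (DerCA.locCx (Submonoid.powers f)).map (π M fs) =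
        π M fs ≫ DerCA.locCxUnit (Submonoid.powers f) (sg.obj M) :=
      Groth.Agent.H88.locCxUnit_naturality _ _
    have hinjf := (main12 I M fs (DerCA.locFunctor (Submonoid.powers f))
      (flatTensor_loc _)).2
    have hsq : ∀ y : Dual.HD A (Cobj I (Q.obj X)) 0,
        HC I 0 (Q.map (DerCA.locCxUnit (Submonoid.powers f) (sg.obj M)))
          (HC I 0 (Q.map (π M fs)) y) =
        HC I 0 (Q.map ((DerCA.locCx (Submonoid.powers f)).map (π M fs)))
          (HC I 0 (Q.map lam) y) := by
      intro y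
      rw [← HCQ_comp', ← HCQ_comp', hnat]
    ext x
    constructor
    · rintro ⟨w, rfl⟩ f' hf'
      have hw := HCQ_comp' I (CochainComplex.mappingCocone.fst lam) (π M fs) w
      have hw' : HC I 0 (Q.map (π M (f :: fs))) w =
          HC I 0 (Q.map (π M fs)) (HC I 0 (Q.map (CochainComplex.mappingCocone.fst lam)) w) := hw
      rw [hw']
      rcases List.mem_cons.1 hf' with rfl | hf'
      · rw [hsq]
        have h0 : HC I 0 (Q.map lam) (HC I 0 (Q.map (CochainComplex.mappingCocone.fst lam)) w) = 0 :=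
          completed_comp_zero I _ _ _ hT 0 w
        rw [h0, map_zero]
      · have : HC I 0 (Q.map (π M fs)) (HC I 0 (Q.map (CochainComplex.mappingCocone.fst lam)) w) ∈
            Set.range (HC I 0 (Q.map (π M fs))) := ⟨_, rfl⟩
        rw [ih] at this
        exact this f' hf'
    · intro hx
      have hx' : x ∈ Set.range (HC I 0 (Q.map (π M fs))) := by
        rw [ih]
        intro f' hf'
        exact hx f' (List.mem_cons_of_mem _ hf')
      obtain ⟨y, rfl⟩ := hx'
      have h1 := hx f (List.mem_cons_self)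
      rw [hsq] at h1
      have h2 : HC I 0 (Q.map lam) y = 0 := hinjf (h1.trans (map_zero _).symm)
      obtain ⟨w, hw0⟩ := completed_exact I _ _ _ hT 0 y h2
      have hw : HC I 0 (Q.map (CochainComplex.mappingCocone.fst lam)) w = y := hw0
      refine ⟨w, ?_⟩
      have hw' := HCQ_comp' I (CochainComplex.mappingCocone.fst lam) (π M fs) w
      have hw'' : HC I 0 (Q.map (π M (f :: fs))) w =
          HC I 0 (Q.map (π M fs)) (HC I 0 (Q.map (CochainComplex.mappingCocone.fst lam)) w) := hw'
      rw [hw'', hw]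

end Main

end Groth.Agent.H2.HT.CDC
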