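import Mathlib
import Groth.Agent.H2.HT.Basic
import Groth.Agent.H2.DualCx.Finite

/-!
# `H_T` is a cohomological functor  (helper2)
-/

set_option autoImplicit false
set_option maxHeartbeats 400000
set_option linter.unusedSectionVars false
set_option linter.style.haveILetI false

universe u

open CategoryTheory CategoryTheory.Limits Opposite Pretriangulated

attribute [local instance] HasDerivedCategory.standard

namespace Groth.Agent.H2.HT

variable {A : Type u} [CommRing A] {T : Set (PrimeSpectrum A)}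

/-- exactness in the middle of a distinguished triangle -/
theorem exact_mid (Tr : Triangle (Dual.D A)) (hT : Tr ∈ distTriang (Dual.D A))
    (y : HX T Tr.obj₂) (hy : (mapX T Tr.mor₂).hom y = 0) :
    ∃ x : HX T Tr.obj₁, (mapX T Tr.mor₁).hom x = y := by
  obtain ⟨J, hJ, β, rfl⟩ := exists_repI Tr.obj₂ y
  rw [mapX_ιI] at hy
  obtain ⟨J', hJ', h', h0⟩ := ιI_eq_zero hJ _ hy
  rw [← Category.assoc] at h0
  obtain ⟨g, hg⟩ := Triangle.coyoneda_exact₂ Tr hT _ h0
  refine ⟨ιI J' hJ' Tr.obj₁ g, ?_⟩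
  rw [mapX_ιI, ← hg, ιI_res hJ' hJ h']

theorem map_comp_zero (Tr : Triangle (Dual.D A)) (hT : Tr ∈ distTriang (Dual.D A))
    (x : HX T Tr.obj₁) : (mapX T Tr.mor₂).hom ((mapX T Tr.mor₁).hom x) = 0 := by
  rw [← mapX_comp, comp_distTriang_mor_zero₁₂ _ hT, mapX_zero]

/-- annihilators multiply along a distinguished triangle -/
theorem smul_mid (Tr : Triangle (Dual.D A)) (hT : Tr ∈ distTriang (Dual.D A)) (a b : A)
    (ha : ∀ x : HX T Tr.obj₁, a • x = 0) (hb : ∀ z : HX T Tr.obj₃, b • z = 0)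
    (y : HX T Tr.obj₂) : (a * b) • y = 0 := by
  have h1 : (mapX T Tr.mor₂).hom (b • y) = 0 := by
    rw [map_smul, hb]
  obtain ⟨x, hx⟩ := exact_mid Tr hT (b • y) h1
  rw [mul_smul, ← hx, ← map_smul, ha, map_zero]

/-- finiteness in the middle of a distinguished triangle -/
theorem finite_mid [IsNoetherianRing A] (Tr : Triangle (Dual.D A))
    (hT : Tr ∈ distTriang (Dual.D A))
    (h₁ : Module.Finite A (HX T Tr.obj₁)) (h₃ : Module.Finite A (HX T Tr.obj₃)) :
    Module.Finite A (HX T Tr.obj₂) := by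
  refine Groth.Agent.H2.DualCx.finite_of_ker_le_range (mapX T Tr.mor₁).hom (mapX T Tr.mor₂).hom ?_
  intro y hy
  obtain ⟨x, hx⟩ := exact_mid Tr hT y hy
  exact ⟨x, hx⟩

/-- if `H_T(obj₃) = 0` then `H_T(mor₁)` is surjective -/
theorem surjective_mor₁ (Tr : Triangle (Dual.D A)) (hT : Tr ∈ distTriang (Dual.D A))
    (h₃ : Subsingleton (HX T Tr.obj₃)) : Function.Surjective (mapX T Tr.mor₁).hom := by
  intro y
  exact exact_mid Tr hT y (Subsingleton.elim _ _)

/-- if `H_T(obj₁) = 0` then `H_T(mor₂)` is injective -/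
theorem injective_mor₂ (Tr : Triangle (Dual.D A)) (hT : Tr ∈ distTriang (Dual.D A))
    (h₁ : Subsingleton (HX T Tr.obj₁)) : Function.Injective (mapX T Tr.mor₂).hom := by
  rw [injective_iff_map_eq_zero]
  intro y hy
  obtain ⟨x, hx⟩ := exact_mid Tr hT y hy
  rw [← hx, Subsingleton.elim x 0, map_zero]

/-- if `H_T(obj₂) = 0` ... then `H_T(obj₁[1]) → ...`: vanishing in the middle -/
theorem subsingleton_mid (Tr : Triangle (Dual.D A)) (hT : Tr ∈ distTriang (Dual.D A))
    (h₁ : Subsingleton (HX T Tr.obj₁)) (h₃ : Subsingleton (HX T Tr.obj₃)) :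
    Subsingleton (HX T Tr.obj₂) := by
  refine ⟨fun y y' => ?_⟩
  have key : ∀ y : HX T Tr.obj₂, y = 0 := by
    intro y
    obtain ⟨x, hx⟩ := exact_mid Tr hT y (Subsingleton.elim _ _)
    rw [← hx, Subsingleton.elim x 0, map_zero]
  rw [key y, key y']

end Groth.Agent.H2.HT
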