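import Mathlib
import Groth.Agent.H2.HT.LES

/-!
# `H_T` along shifted triangles and cones of scalars  (helper2)
-/

set_option autoImplicit false
set_option maxHeartbeats 400000
set_option linter.unusedSectionVars false
set_option linter.style.haveILetI false

universe u

open CategoryTheory CategoryTheory.Limits Opposite Pretriangulated DerivedCategory

attribute [local instance] HasDerivedCategory.standard

namespace Groth.Agent.H2.HT

section General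

variable {C : Type*} [Category C] [Preadditive C] [HasZeroObject C] [HasShift C ℤ]
  [∀ n : ℤ, (shiftFunctor C n).Additive] [Pretriangulated C]

/-- the shift of a distinguished triangle, without signs on the first two maps -/
theorem exists_shift_triangle {X Y Z : C} (u : X ⟶ Y) (g : Y ⟶ Z) (h : Z ⟶ X⟦(1 : ℤ)⟧)
    (hT : Triangle.mk u g h ∈ distTriang C) (n : ℤ) :
    ∃ h' : Z⟦n⟧ ⟶ (X⟦n⟧)⟦(1 : ℤ)⟧, Triangle.mk (u⟦n⟧') (g⟦n⟧') h' ∈ distTriang C := by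
  have h1 := Triangle.shift_distinguished _ hT n
  refine ⟨n.negOnePow • h⟦n⟧' ≫ (shiftFunctorComm C 1 n).hom.app X, ?_⟩
  refine isomorphic_distinguished _ h1 _ ?_
  refine Triangle.isoMk _ _ (Iso.refl (X⟦n⟧)) (n.negOnePow • Iso.refl (Y⟦n⟧)) (Iso.refl (Z⟦n⟧))
    ?_ ?_ ?_
  · show u⟦n⟧' ≫ (n.negOnePow • 𝟙 (Y⟦n⟧)) = 𝟙 (X⟦n⟧) ≫ (n.negOnePow • u⟦n⟧')
    rw [Category.id_comp, Linear.comp_units_smul, Category.comp_id]
  · show g⟦n⟧' ≫ 𝟙 (Z⟦n⟧) = (n.negOnePow • 𝟙 (Y⟦n⟧)) ≫ (n.negOnePow • g⟦n⟧')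
    rw [Category.comp_id, Linear.units_smul_comp, Linear.comp_units_smul, Category.id_comp,
      smul_smul, Int.units_mul_self, one_smul]
  · show (n.negOnePow • h⟦n⟧' ≫ (shiftFunctorComm C 1 n).hom.app X) ≫ (𝟙 (X⟦n⟧))⟦(1 : ℤ)⟧' =
      𝟙 (Z⟦n⟧) ≫ (n.negOnePow • h⟦n⟧' ≫ (shiftFunctorComm C 1 n).hom.app X)
    rw [Category.id_comp, CategoryTheory.Functor.map_id]
    exact Category.comp_id _

/-- triangle version -/
theorem exists_shift_triangle' (Tr : Triangle C) (hT : Tr ∈ distTriang C) (n : ℤ) :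
    ∃ h' : Tr.obj₃⟦n⟧ ⟶ (Tr.obj₁⟦n⟧)⟦(1 : ℤ)⟧,
      Triangle.mk (Tr.mor₁⟦n⟧') (Tr.mor₂⟦n⟧') h' ∈ distTriang C :=
  exists_shift_triangle Tr.mor₁ Tr.mor₂ Tr.mor₃ hT n

end General

variable {A : Type u} [CommRing A] {T : Set (PrimeSpectrum A)}

/-- `H_T(K[i]) = 0` for `i < a` when `K ∈ D^{≥ a}` -/
theorem subsingleton_HX_of_isGE (K : Dual.D A) (a i : ℤ) [K.IsGE a] (hi : i < a) :
    Subsingleton (HX T (K⟦i⟧)) := by
  haveI : (K⟦i⟧).IsGE (a - i) :=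
    (DerivedCategory.TStructure.t (C := ModuleCat.{u} A)).isGE_shift K a i (a - i) (by omega)
  refine ⟨fun x y => ?_⟩
  have key : ∀ x : HX T (K⟦i⟧), x = 0 := by
    intro x
    obtain ⟨J, hJ, α, rfl⟩ := exists_repI _ x
    have : α = 0 :=
      (DerivedCategory.TStructure.t (C := ModuleCat.{u} A)).zero_of_isLE_of_isGE α 0 (a - i)
        (by omega) (inferInstanceAs ((sQ J).IsLE 0)) (inferInstanceAs ((K⟦i⟧).IsGE (a - i)))
    rw [this, map_zero]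
  rw [key x, key y]

theorem mapX_neg {X Y : Dual.D A} (f : X ⟶ Y) (x : HX T X) :
    (mapX T (-f)).hom x = -(mapX T f).hom x := by
  have h : -f = (-1 : A) • f := by rw [neg_smul, one_smul]
  rw [h, mapX_smul, neg_smul, one_smul]

section Tri

variable (Tr : Triangle (Dual.D A)) (hT : Tr ∈ distTriang (Dual.D A))

include hT

/-- annihilators on the third vertex -/
theorem smul_obj₃ (a b : A) (ha : ∀ x : HX T Tr.obj₂, a • x = 0)
    (hb : ∀ z : HX T (Tr.obj₁⟦(1 : ℤ)⟧), b • z = 0) (y : HX T Tr.obj₃) : (a * b) • y = 0 :=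
  smul_mid Tr.rotate (rot_of_distTriang _ hT) a b ha hb y

/-- `H_T(mor₃)` is surjective when `H_T(mor₁[1])` vanishes -/
theorem surjective_mor₃ (h0 : ∀ z : HX T (Tr.obj₁⟦(1 : ℤ)⟧), (mapX T (Tr.mor₁⟦(1 : ℤ)⟧')).hom z = 0) :
    Function.Surjective (mapX T Tr.mor₃).hom := by
  intro z
  have hT2 := rot_of_distTriang _ (rot_of_distTriang _ hT)
  refine exact_mid Tr.rotate.rotate hT2 z ?_
  show (mapX T (-Tr.mor₁⟦(1 : ℤ)⟧')).hom z = 0
  rw [mapX_neg, h0, neg_zero]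

/-- `H_T(mor₂)` is bijective when `H_T(obj₁)` and `H_T(obj₁[1])` vanish -/
theorem bijective_mor₂ (h₁ : Subsingleton (HX T Tr.obj₁))
    (h₁' : Subsingleton (HX T (Tr.obj₁⟦(1 : ℤ)⟧))) :
    Function.Bijective (mapX T Tr.mor₂).hom :=
  ⟨injective_mor₂ Tr hT h₁, surjective_mor₁ Tr.rotate (rot_of_distTriang _ hT) h₁'⟩

end Tri

section TriMk

variable {X Y Z : Dual.D A} (u : X ⟶ Y) (g : Y ⟶ Z) (h : Z ⟶ X⟦(1 : ℤ)⟧)
  (hT : Triangle.mk u g h ∈ distTriang (Dual.D A))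

include hT

theorem smul_obj₃_mk (a b : A) (ha : ∀ x : HX T Y, a • x = 0)
    (hb : ∀ z : HX T (X⟦(1 : ℤ)⟧), b • z = 0) (y : HX T Z) : (a * b) • y = 0 :=
  smul_obj₃ _ hT a b ha hb y

theorem surjective_mor₃_mk
    (h0 : ∀ z : HX T (X⟦(1 : ℤ)⟧), (mapX T (u⟦(1 : ℤ)⟧')).hom z = 0) :
    Function.Surjective (mapX T h).hom :=
  surjective_mor₃ _ hT h0

theorem bijective_mor₂_mk (h₁ : Subsingleton (HX T X))
    (h₁' : Subsingleton (HX T (X⟦(1 : ℤ)⟧))) : Function.Bijective (mapX T g).hom :=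
  bijective_mor₂ _ hT h₁ h₁'

theorem surjective_mor₁_mk (h₃ : Subsingleton (HX T Z)) :
    Function.Surjective (mapX T u).hom :=
  surjective_mor₁ _ hT h₃

end TriMk

/-- `K[1][i] ≅ K[j]`, `1 + i = j` ... in the order used by shifted triangles: `(K[i])[1] ≅ K[j]` -/
noncomputable def shIso (K : Dual.D A) (i j : ℤ) (h : i + 1 = j) : (K⟦i⟧)⟦(1 : ℤ)⟧ ≅ K⟦j⟧ :=
  ((shiftFunctorAdd' (Dual.D A) i 1 j h).app K).symm

/-- `H_T((K[i])[1]) ≃ H_T(K[j])` -/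
noncomputable def shEquiv (K : Dual.D A) (i j : ℤ) (h : i + 1 = j) :
    HX T ((K⟦i⟧)⟦(1 : ℤ)⟧) ≃ₗ[A] HX T (K⟦j⟧) :=
  mapIsoX T (shIso K i j h)

end Groth.Agent.H2.HT
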