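import Mathlib
import Groth.Agent.H2.HT.LES
import Groth.Agent.H9.LD.HDICompare
import Groth.Agent.S0323

/-!
# `H_T` of a `T`-torsion module placed in one degree  (helper2)

For a module `N` killed by an ideal `J₀` with `V(J₀) ⊆ T`: `H_T(N[j]) = 0` for `j ≠ 0` and
`N → H_T(N[0])` is surjective.
-/

set_option autoImplicit false
set_option maxHeartbeats 400000
set_option linter.unusedSectionVars false
set_option linter.style.haveILetI false

universe u

open CategoryTheory CategoryTheory.Limits Opposite Pretriangulated DerivedCategory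

attribute [local instance] HasDerivedCategory.standard

namespace Groth.Agent.H2.HT

variable {A : Type u} [CommRing A] {T : Set (PrimeSpectrum A)}

/-- negative shifts: no maps from `A/J` to `N[j]`, `j < 0` -/
theorem hom_sQ_shift_neg (J : Ideal A) (N : ModuleCat.{u} A) (j : ℤ) (hj : j < 0)
    (α : sQ J ⟶ ((singleFunctor (ModuleCat.{u} A) 0).obj N)⟦j⟧) : α = 0 := by
  haveI : (((singleFunctor (ModuleCat.{u} A) 0).obj N)⟦j⟧).IsGE (-j) :=
    (DerivedCategory.TStructure.t (C := ModuleCat.{u} A)).isGE_shift _ 0 j (-j) (by omega)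
  exact (DerivedCategory.TStructure.t (C := ModuleCat.{u} A)).zero_of_isLE_of_isGE α 0 (-j)
    (by omega) (inferInstanceAs ((sQ J).IsLE 0))
    (inferInstanceAs ((((singleFunctor (ModuleCat.{u} A) 0).obj N)⟦j⟧).IsGE (-j)))

theorem subsingleton_HX_shift_neg (N : ModuleCat.{u} A) (j : ℤ) (hj : j < 0) :
    Subsingleton (HX T (((singleFunctor (ModuleCat.{u} A) 0).obj N)⟦j⟧)) := by
  refine ⟨fun x y => ?_⟩
  have key : ∀ x : HX T (((singleFunctor (ModuleCat.{u} A) 0).obj N)⟦j⟧), x = 0 := by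
    intro x
    obtain ⟨J, hJ, α, rfl⟩ := exists_repI _ x
    rw [hom_sQ_shift_neg J N j hj α, map_zero]
  rw [key x, key y]


section Deg0

variable (N : ModuleCat.{u} A) (J₀ : Ideal A)
  (hJ₀T : PrimeSpectrum.zeroLocus (J₀ : Set A) ⊆ T) (hJ₀ : ∀ a ∈ J₀, ∀ n : N, a • n = 0)

/-- `A/J₀ → N`, `1 ↦ n` -/
def toN (n : N) : ModuleCat.of A (A ⧸ J₀) ⟶ N :=
  ModuleCat.ofHom (Submodule.liftQ J₀ (LinearMap.toSpanSingleton A N n) (by
    intro a ha
    rw [LinearMap.mem_ker, LinearMap.toSpanSingleton_apply]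
    exact hJ₀ a ha n))

theorem toN_mk (n : N) (a : A) :
    (toN N J₀ hJ₀ n).hom (Submodule.Quotient.mk a) = a • n := rfl

theorem toN_add (n n' : N) : toN N J₀ hJ₀ (n + n') = toN N J₀ hJ₀ n + toN N J₀ hJ₀ n' := by
  apply ModuleCat.hom_ext
  apply LinearMap.ext
  intro x
  obtain ⟨a, rfl⟩ := Submodule.Quotient.mk_surjective _ x
  show a • (n + n') = a • n + a • n'
  rw [smul_add]

theorem toN_smul (b : A) (n : N) : toN N J₀ hJ₀ (b • n) = b • toN N J₀ hJ₀ n := by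
  apply ModuleCat.hom_ext
  apply LinearMap.ext
  intro x
  obtain ⟨a, rfl⟩ := Submodule.Quotient.mk_surjective _ x
  show a • (b • n) = b • (a • n)
  rw [smul_comm]

/-- the map `N → H_T(N[0])` -/
noncomputable def ΦN : N →ₗ[A] HX T ((singleFunctor (ModuleCat.{u} A) 0).obj N) where
  toFun n := ιI J₀ hJ₀T _ ((singleFunctor (ModuleCat.{u} A) 0).map (toN N J₀ hJ₀ n))
  map_add' n n' := by
    rw [toN_add, Functor.map_add, map_add]
  map_smul' b n := by
    rw [toN_smul, Functor.map_smul, map_smul]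
    rfl

theorem ΦN_surjective : Function.Surjective (ΦN (T := T) N J₀ hJ₀T hJ₀) := by
  intro x
  obtain ⟨J, hJ, α, rfl⟩ := exists_repI _ x
  obtain ⟨φ, rfl⟩ := (singleFunctor (ModuleCat.{u} A) 0).map_surjective α
  refine ⟨φ.hom (Submodule.Quotient.mk 1), ?_⟩
  have hIT : PrimeSpectrum.zeroLocus ((J ⊓ J₀ : Ideal A) : Set A) ⊆ T :=
    zeroLocus_inf_subset T hJ hJ₀T
  have h1 := ιI_res hIT hJ inf_le_left _ ((singleFunctor (ModuleCat.{u} A) 0).map φ)
  have h2 := ιI_res hIT hJ₀T inf_le_right _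
    ((singleFunctor (ModuleCat.{u} A) 0).map (toN N J₀ hJ₀ (φ.hom (Submodule.Quotient.mk 1))))
  show ιI J₀ hJ₀T _ _ = _
  rw [← h1, ← h2]
  congr 1
  show (singleFunctor (ModuleCat.{u} A) 0).map (qmap _) ≫ _ =
    (singleFunctor (ModuleCat.{u} A) 0).map (qmap _) ≫ _
  rw [← Functor.map_comp, ← Functor.map_comp]
  congr 1
  apply ModuleCat.hom_ext
  apply LinearMap.ext
  intro x
  obtain ⟨a, rfl⟩ := Submodule.Quotient.mk_surjective _ x
  show a • φ.hom (Submodule.Quotient.mk 1) = φ.hom (Submodule.Quotient.mk a)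
  rw [← map_smul]
  congr 1
  show Submodule.Quotient.mk (a • (1 : A)) = _
  rw [smul_eq_mul, mul_one]

/-- `H_T(N[0])` is finite for a finite module `N` killed by `J₀`, `V(J₀) ⊆ T` -/
theorem finite_HX_single (J₀ : Ideal A)
    (hJ₀T : PrimeSpectrum.zeroLocus (J₀ : Set A) ⊆ T) (hJ₀ : ∀ a ∈ J₀, ∀ n : N, a • n = 0)
    [Module.Finite A N] :
    Module.Finite A (HX T ((singleFunctor (ModuleCat.{u} A) 0).obj N)) :=
  Module.Finite.of_surjective (ΦN (T := T) N J₀ hJ₀T hJ₀) (ΦN_surjective N J₀ hJ₀T hJ₀)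

end Deg0

variable [IsNoetherianRing A]

/-- positive shifts: a map `A/J → N[k+1]` dies on some `A/I^m` when `N` is killed by `J₀` -/
theorem subsingleton_HX_shift_pos (N : ModuleCat.{u} A) (J₀ : Ideal A)
    (hJ₀T : PrimeSpectrum.zeroLocus (J₀ : Set A) ⊆ T) (hJ₀ : ∀ a ∈ J₀, ∀ n : N, a • n = 0)
    (k : ℕ) :
    Subsingleton (HX T (((singleFunctor (ModuleCat.{u} A) 0).obj N)⟦((k + 1 : ℕ) : ℤ)⟧)) := by
  refine ⟨fun x y => ?_⟩
  have key : ∀ x : HX T (((singleFunctor (ModuleCat.{u} A) 0).obj N)⟦((k + 1 : ℕ) : ℤ)⟧),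
      x = 0 := by
    intro x
    obtain ⟨J, hJ, α, rfl⟩ := exists_repI _ x
    set I : Ideal A := J ⊓ J₀ with hI
    have hIT : PrimeSpectrum.zeroLocus (I : Set A) ⊆ T := zeroLocus_inf_subset T hJ hJ₀T
    have hpt : LocCoh.IsPowerTorsion I N := by
      intro n
      refine ⟨1, fun a ha => ?_⟩
      rw [pow_one] at ha
      exact hJ₀ a ha.2 n
    have hvan : Subsingleton (LocCoh.H I (k + 1) N) :=
      (Groth.Agent.S0323.result A I N hpt).2 (k + 1) (Nat.succ_pos k)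
    have h1J : I ^ 1 ≤ J := by
      rw [pow_one]; exact inf_le_left
    let α₁ : Groth.Agent.H9.RG.Sn I 1 ⟶ (Groth.Agent.H9.LD.sM N)⟦((k + 1 : ℕ) : ℤ)⟧ :=
      sqmap h1J ≫ α
    have h0 : Groth.Agent.H9.LD.cmpLeg I (k + 1) N 1 α₁ = 0 := by
      haveI : Subsingleton ((localCohomology I (k + 1)).obj N) := hvan
      exact Subsingleton.elim _ _
    obtain ⟨m, hm, h2⟩ := Groth.Agent.H9.LD.cmpLeg_eq_zero I (k + 1) N α₁ h0
    have hmJ : I ^ m ≤ J := (Ideal.pow_le_pow_right hm).trans h1J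
    have hmT : PrimeSpectrum.zeroLocus ((I ^ m : Ideal A) : Set A) ⊆ T :=
      zeroLocus_pow_subset T hIT (by omega)
    have h3 : sqmap hmJ ≫ α = 0 := by
      have h4 : sqmap hmJ = sqmap (Ideal.pow_le_pow_right hm) ≫ sqmap h1J :=
        (sqmap_comp _ _).symm
      rw [h4, Category.assoc]
      exact h2
    exact ιI_eq_zero_of hmT hJ hmJ α h3
  rw [key x, key y]

/-- `H_T(N[j]) = 0` for `j ≠ 0`, `N` killed by `J₀` with `V(J₀) ⊆ T` -/
theorem subsingleton_HX_shift (N : ModuleCat.{u} A) (J₀ : Ideal A)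
    (hJ₀T : PrimeSpectrum.zeroLocus (J₀ : Set A) ⊆ T) (hJ₀ : ∀ a ∈ J₀, ∀ n : N, a • n = 0)
    (j : ℤ) (hj : j ≠ 0) :
    Subsingleton (HX T (((singleFunctor (ModuleCat.{u} A) 0).obj N)⟦j⟧)) := by
  rcases lt_or_gt_of_ne hj with h | h
  · exact subsingleton_HX_shift_neg N j h
  · obtain ⟨k, rfl⟩ : ∃ k : ℕ, j = ((k + 1 : ℕ) : ℤ) := ⟨(j - 1).toNat, by omega⟩
    exact subsingleton_HX_shift_pos N J₀ hJ₀T hJ₀ k

end Groth.Agent.H2.HT
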