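import Mathlib
import Groth.Agent.H2.HT.Torsion
import Groth.Agent.H2.HT.Cone
import Groth.Agent.H9.DCF.Heart
import Groth.Agent.H9.DCF.Bounded
import Groth.Agent.H36.DerivedLinear

/-!
# `H_T` of objects concentrated in one degree, and cohomology of cones of scalars  (helper2)
-/

set_option autoImplicit false
set_option maxHeartbeats 400000
set_option linter.unusedSectionVars false
set_option linter.style.haveILetI false

universe u

open CategoryTheory CategoryTheory.Limits Opposite Pretriangulated DerivedCategory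

attribute [local instance] HasDerivedCategory.standard

namespace Groth.Agent.H2.HT

variable {A : Type u} [CommRing A] {T : Set (PrimeSpectrum A)}

section Heart

variable [IsNoetherianRing A] (Y : Dual.D A) (b : ℤ) [Y.IsGE b] [Y.IsLE b] (J₀ : Ideal A)
  (hJ₀T : PrimeSpectrum.zeroLocus (J₀ : Set A) ⊆ T)
  (hJ₀ : ∀ a ∈ J₀, ∀ y : Dual.HD A Y b, a • y = 0)

include hJ₀T hJ₀

/-- `H_T(Y[i]) = 0` for `i ≠ b` if `Y` is concentrated in degree `b` with `T`-torsion cohomology -/
theorem subsingleton_HX_heart (i : ℤ) (hi : i ≠ b) : Subsingleton (HX T (Y⟦i⟧)) := by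
  obtain ⟨M, ⟨e⟩, ⟨e'⟩⟩ := Groth.Agent.H9.DCF.nonempty_iso_single_shift Y b
  have hM : ∀ a ∈ J₀, ∀ n : M, a • n = 0 := by
    intro a ha n
    apply e'.toLinearEquiv.injective
    rw [map_smul, map_zero]
    exact hJ₀ a ha _
  let E : Y⟦i⟧ ≅ ((singleFunctor (ModuleCat.{u} A) 0).obj M)⟦i - b⟧ :=
    (shiftFunctor (Dual.D A) i).mapIso e ≪≫
      ((shiftFunctorAdd' (Dual.D A) (-b) i (i - b) (by omega)).app _).symm
  haveI := subsingleton_HX_shift (T := T) M J₀ hJ₀T hM (i - b) (by omega)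
  exact (mapIsoX T E).toEquiv.subsingleton

/-- `H_T(Y[b])` is finite -/
theorem finite_HX_heart [Module.Finite A (Dual.HD A Y b)] : Module.Finite A (HX T (Y⟦b⟧)) := by
  obtain ⟨M, ⟨e⟩, ⟨e'⟩⟩ := Groth.Agent.H9.DCF.nonempty_iso_single_shift Y b
  have hM : ∀ a ∈ J₀, ∀ n : M, a • n = 0 := by
    intro a ha n
    apply e'.toLinearEquiv.injective
    rw [map_smul, map_zero]
    exact hJ₀ a ha _
  haveI : Module.Finite A M := Module.Finite.equiv e'.toLinearEquiv.symm
  let E : Y⟦b⟧ ≅ (singleFunctor (ModuleCat.{u} A) 0).obj M :=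
    (shiftFunctor (Dual.D A) b).mapIso e ≪≫
      (shiftFunctorCompIsoId (Dual.D A) (-b) b (by omega)).app _
  haveI := finite_HX_single (T := T) M J₀ hJ₀T hM
  exact Module.Finite.equiv (mapIsoX T E).symm

end Heart

section ConeCohomology

variable (K C : Dual.D A) (f : A) (g : K ⟶ C) (h : C ⟶ K⟦(1 : ℤ)⟧)
  (hT : Triangle.mk (f • 𝟙 K) g h ∈ distTriang (Dual.D A))

include hT

theorem isGE_cone (a : ℤ) [K.IsGE a] : C.IsGE (a - 1) := by
  rw [isGE_iff]
  intro i hi
  have hex := HomologySequence.exact₃ _ hT i (i + 1) rfl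
  refine hex.isZero_X₂ ?_ ?_
  · exact (isZero_of_isGE K a i (by omega)).eq_of_src _ _
  · exact (isZero_of_isGE K a (i + 1) (by omega)).eq_of_tgt _ _

theorem finite_HD_cone [IsNoetherianRing A] (hK : ∀ i : ℤ, Module.Finite A (Dual.HD A K i))
    (i : ℤ) : Module.Finite A (Dual.HD A C i) := by
  have hex := HomologySequence.exact₃ _ hT i (i + 1) rfl
  rw [ShortComplex.moduleCat_exact_iff_ker_sub_range] at hex
  haveI := hK i
  haveI := hK (i + 1)
  let φ : Dual.HD A K i →ₗ[A] Dual.HD A C i := ((homologyFunctor (ModuleCat.{u} A) i).map g).hom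
  let ψ : Dual.HD A C i →ₗ[A] Dual.HD A K (i + 1) :=
    (HomologySequence.δ (Triangle.mk (f • 𝟙 K) g h) i (i + 1) rfl).hom
  have hle : LinearMap.ker ψ ≤ LinearMap.range φ := hex
  exact Groth.Agent.H2.DualCx.finite_of_ker_le_range φ ψ hle

/-- the bottom cohomology of the cone is killed by whatever kills `H^a(K)[f]` -/
theorem smul_HD_cone_bottom (a : ℤ) [K.IsGE a] (J₀ : Ideal A)
    (hker : ∀ m : Dual.HD A K a, f • m = 0 → ∀ x ∈ J₀, x • m = 0)
    (x : A) (hx : x ∈ J₀) (c : Dual.HD A C (a - 1)) : x • c = 0 := by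
  have hex := HomologySequence.exact₃ _ hT (a - 1) a (by omega)
  have hmono : Mono (HomologySequence.δ (Triangle.mk (f • 𝟙 K) g h) (a - 1) a (by omega)) :=
    hex.mono_g ((isZero_of_isGE K a (a - 1) (by omega)).eq_of_src _ _)
  let ψ : Dual.HD A C (a - 1) →ₗ[A] Dual.HD A K a :=
    (HomologySequence.δ (Triangle.mk (f • 𝟙 K) g h) (a - 1) a (by omega)).hom
  have hinj : Function.Injective ψ := (ModuleCat.mono_iff_injective _).1 hmono
  have hδ := HomologySequence.δ_comp _ hT (a - 1) a (by omega)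
  have h1 : (homologyFunctor (ModuleCat.{u} A) a).map (f • 𝟙 K) =
      f • 𝟙 ((homologyFunctor (ModuleCat.{u} A) a).obj K) :=
    Groth.Agent.H36.derivedCategory_homologyFunctor_map_smul_id A (ModuleCat.{u} A) a f K
  have h2 : f • ψ c = 0 := by
    have hδ' : HomologySequence.δ (Triangle.mk (f • 𝟙 K) g h) (a - 1) a (by omega) ≫
        (f • 𝟙 ((homologyFunctor (ModuleCat.{u} A) a).obj K)) = 0 := h1 ▸ hδ
    have := congrArg (fun φ => φ.hom c) hδ'
    exact this
  apply hinj
  rw [map_smul, map_zero]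
  exact hker _ h2 x hx

end ConeCohomology

end Groth.Agent.H2.HT
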