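import Mathlib

/-!
# `T`-torsion of a finite module and regular elements modulo torsion  (helper2)
-/

set_option autoImplicit false
set_option maxHeartbeats 400000
set_option linter.unusedSectionVars false
set_option linter.style.haveILetI false

universe u v

namespace Groth.Agent.H2.HT

variable {A : Type u} [CommRing A] (T : Set (PrimeSpectrum A))
  (M : Type v) [AddCommGroup M] [Module A M]

/-- the `T`-torsion submodule: elements whose annihilator has zero locus inside `T` -/
def torsT : Submodule A M where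
  carrier := {m | ∃ J : Ideal A, PrimeSpectrum.zeroLocus (J : Set A) ⊆ T ∧ ∀ a ∈ J, a • m = 0}
  zero_mem' := ⟨⊤, by intro x hx; simp at hx, fun a _ => smul_zero a⟩
  add_mem' := by
    rintro m m' ⟨J, hJ, h⟩ ⟨J', hJ', h'⟩
    refine ⟨J ⊓ J', ?_, fun a ha => ?_⟩
    · rw [PrimeSpectrum.zeroLocus_inf]
      exact Set.union_subset hJ hJ'
    · rw [smul_add, h a ha.1, h' a ha.2, add_zero]
  smul_mem' := by
    rintro b m ⟨J, hJ, h⟩
    exact ⟨J, hJ, fun a ha => by rw [smul_comm, h a ha, smul_zero]⟩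

variable {T M}

theorem mem_torsT_iff (m : M) : m ∈ torsT T M ↔
    ∃ J : Ideal A, PrimeSpectrum.zeroLocus (J : Set A) ⊆ T ∧ ∀ a ∈ J, a • m = 0 := Iff.rfl

variable (T M)

/-- a finitely generated `T`-torsion submodule is killed by a single ideal -/
theorem exists_ideal_kill_torsT [IsNoetherian A M] :
    ∃ J₀ : Ideal A, PrimeSpectrum.zeroLocus (J₀ : Set A) ⊆ T ∧
      ∀ a ∈ J₀, ∀ m ∈ torsT T M, a • m = 0 := by
  classical
  have hfg : (torsT T M).FG := IsNoetherian.noetherian _
  obtain ⟨s, hs⟩ := hfg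
  have hsm : ∀ m ∈ s, m ∈ torsT T M := fun m hm => hs ▸ Submodule.subset_span hm
  choose! Jf hJf using fun m (hm : m ∈ s) => (mem_torsT_iff m).1 (hsm m hm)
  refine ⟨s.inf Jf, ?_, ?_⟩
  · have : ∀ t : Finset M, (∀ m ∈ t, m ∈ s) →
        PrimeSpectrum.zeroLocus ((t.inf Jf : Ideal A) : Set A) ⊆ T := by
      intro t
      induction t using Finset.induction_on with
      | empty =>
        intro _ x hx
        simp at hx
      | insert m t hm ih =>
        intro h
        rw [Finset.inf_insert, PrimeSpectrum.zeroLocus_inf]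
        exact Set.union_subset (hJf m (h m (Finset.mem_insert_self m t))).1
          (ih fun m' hm' => h m' (Finset.mem_insert_of_mem hm'))
    exact this s fun m hm => hm
  · intro a ha m hm
    rw [← hs] at hm
    refine Submodule.span_induction (p := fun m _ => a • m = 0) ?_ ?_ ?_ ?_ hm
    · intro x hx
      exact (hJf x hx).2 a ((Finset.inf_le (f := Jf) hx) ha)
    · exact smul_zero a
    · intro x y _ _ hx hy
      rw [smul_add, hx, hy, add_zero]
    · intro b x _ hx
      rw [smul_comm, hx, smul_zero]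

/-- the quotient by the `T`-torsion is `T`-torsion free -/
theorem torsT_quotient_eq_bot [IsNoetherian A M] : torsT T (M ⧸ torsT T M) = ⊥ := by
  obtain ⟨J₀, hJ₀T, hJ₀⟩ := exists_ideal_kill_torsT T M
  rw [eq_bot_iff]
  intro x hx
  obtain ⟨m, rfl⟩ := Submodule.Quotient.mk_surjective _ x
  obtain ⟨J, hJ, h⟩ := hx
  rw [Submodule.mem_bot, Submodule.Quotient.mk_eq_zero]
  refine ⟨J₀ * J, ?_, ?_⟩
  · rw [PrimeSpectrum.zeroLocus_mul]
    exact Set.union_subset hJ₀T hJ
  · intro a ha
    refine Submodule.mul_induction_on ha ?_ ?_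
    · intro b hb c hc
      have h1 : c • m ∈ torsT T M := by
        have := h c hc
        rwa [← Submodule.Quotient.mk_smul, Submodule.Quotient.mk_eq_zero] at this
      rw [mul_smul]
      exact hJ₀ b hb _ h1
    · intro x y hx hy
      rw [add_smul, hx, hy, add_zero]

/-- **Key algebraic input**: for a finite module `M` over a Noetherian ring and `J` with
`V(J) ⊆ T`, there are `J₀` with `V(J₀) ⊆ T` and `f ∈ J ⊓ J₀` such that `M[f]` is killed by `J₀`. -/
theorem exists_regular_mod_torsion [IsNoetherianRing A] [Module.Finite A M] (J : Ideal A)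
    (hJ : PrimeSpectrum.zeroLocus (J : Set A) ⊆ T) :
    ∃ J₀ : Ideal A, PrimeSpectrum.zeroLocus (J₀ : Set A) ⊆ T ∧ ∃ f ∈ J, f ∈ J₀ ∧
      ∀ m : M, f • m = 0 → ∀ a ∈ J₀, a • m = 0 := by
  haveI : IsNoetherian A M := isNoetherian_of_isNoetherianRing_of_finite A M
  obtain ⟨J₀, hJ₀T, hJ₀⟩ := exists_ideal_kill_torsT T M
  refine ⟨J₀, hJ₀T, ?_⟩
  have hbot := torsT_quotient_eq_bot T M
  -- prime avoidance
  have hfin : (associatedPrimes A (M ⧸ torsT T M)).Finite := associatedPrimes.finite A _
  have hJJ : PrimeSpectrum.zeroLocus ((J * J₀ : Ideal A) : Set A) ⊆ T := by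
    rw [PrimeSpectrum.zeroLocus_mul]
    exact Set.union_subset hJ hJ₀T
  have hnot : ¬ ((J * J₀ : Ideal A) : Set A) ⊆
      ⋃ p ∈ associatedPrimes A (M ⧸ torsT T M), (p : Set A) := by
    intro hsub
    obtain ⟨p, hp', hle⟩ := ((J * J₀).subset_union_prime_finite hfin (f := id) 0 0
      fun _ h _ _ => h.1).1 hsub
    obtain ⟨hpprime, x, hx⟩ := (isAssociatedPrime_iff).1 hp'
    have hxm : x ∈ torsT T (M ⧸ torsT T M) := by
      refine ⟨J * J₀, hJJ, fun a ha => ?_⟩
      have : a ∈ p := hle ha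
      rw [hx, Submodule.mem_colon_singleton] at this
      simpa using this
    rw [hbot, Submodule.mem_bot] at hxm
    apply hpprime.ne_top
    rw [hx, hxm, Ideal.eq_top_iff_one, Submodule.mem_colon_singleton]
    simp
  rw [Set.not_subset] at hnot
  obtain ⟨f, hfJ, hfn⟩ := hnot
  have hreg : IsSMulRegular (M ⧸ torsT T M) f := by
    by_contra hc
    have : f ∈ {r : A | IsSMulRegular (M ⧸ torsT T M) r}ᶜ := hc
    rw [← biUnion_associatedPrimes_eq_compl_regular] at this
    exact hfn this
  have hfJJ : f ∈ J * J₀ := hfJ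
  have hf1 : f ∈ J := Ideal.mul_le_left hfJJ
  have hf2 : f ∈ J₀ := Ideal.mul_le_right hfJJ
  refine ⟨f, hf1, hf2, ?_⟩
  intro m hm a ha
  have h1 : f • (Submodule.Quotient.mk m : M ⧸ torsT T M) = 0 := by
    rw [← Submodule.Quotient.mk_smul, hm, Submodule.Quotient.mk_zero]
  have h2 : (Submodule.Quotient.mk m : M ⧸ torsT T M) = 0 := by
    apply hreg
    show f • (Submodule.Quotient.mk m : M ⧸ torsT T M) = f • 0
    rw [h1, smul_zero]
  rw [Submodule.Quotient.mk_eq_zero] at h2
  exact hJ₀ a ha m h2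

end Groth.Agent.H2.HT
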