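import Mathlib
import Groth.Agent.H2.HT.Heart
import Groth.Agent.H2.HT.TorsT

/-!
# Finiteness of `H^i_T(K)` from annihilation  (helper2)

`K ∈ D^{≥ a}` with finite cohomology over a Noetherian ring, `J` an ideal with `V(J) ⊆ T` killing
`H^i_T(K)` for all `i < n`.  Then `H^i_T(K)` is a finite module for all `i < n`.
-/

set_option autoImplicit false
set_option maxHeartbeats 1000000
set_option linter.unusedSectionVars false
set_option linter.style.haveILetI false

universe u

open CategoryTheory CategoryTheory.Limits Opposite Pretriangulated DerivedCategory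

attribute [local instance] HasDerivedCategory.standard

namespace Groth.Agent.H2.HT

variable {A : Type u} [CommRing A] [IsNoetherianRing A] {T : Set (PrimeSpectrum A)}

open Groth.Agent.H9.LD in
/-- data of the truncation `τ_{<a} C → C → τ_{≥a} C` for `C ∈ D^{≥ a-1}` -/
theorem exists_trunc (C : Dual.D A) (a : ℤ) [C.IsGE (a - 1)]
    (hC : ∀ i : ℤ, Module.Finite A (Dual.HD A C i)) (J₀ : Ideal A)
    (hJ₀ : ∀ x ∈ J₀, ∀ c : Dual.HD A C (a - 1), x • c = 0) :
    ∃ (Y Z : Dual.D A) (ι : Y ⟶ C) (π : C ⟶ Z) (δ : Z ⟶ Y⟦(1 : ℤ)⟧),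
      Triangle.mk ι π δ ∈ distTriang (Dual.D A) ∧ Y.IsGE (a - 1) ∧ Y.IsLE (a - 1) ∧ Z.IsGE a ∧
      (∀ i : ℤ, Module.Finite A (Dual.HD A Z i)) ∧ Module.Finite A (Dual.HD A Y (a - 1)) ∧
      (∀ x ∈ J₀, ∀ y : Dual.HD A Y (a - 1), x • y = 0) := by
  have hT := (tS A).triangleLTGE_distinguished a C
  haveI hLE : (((tS A).truncLT a).obj C).IsLE (a - 1) :=
    inferInstanceAs ((tS A).IsLE (((tS A).truncLT a).obj C) (a - 1))
  haveI hGEZ : (((tS A).truncGE a).obj C).IsGE a :=
    inferInstanceAs ((tS A).IsGE (((tS A).truncGE a).obj C) a)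
  have hGEY : (((tS A).truncLT a).obj C).IsGE (a - 1) := by
    rw [isGE_iff]
    intro i hi
    have hex := HomologySequence.exact₁ _ hT (i - 1) i (by omega)
    refine hex.isZero_X₂ ?_ ?_
    · exact (isZero_of_isGE (((tS A).truncGE a).obj C) a (i - 1) (by omega)).eq_of_src _ _
    · exact (isZero_of_isGE C (a - 1) i hi).eq_of_tgt _ _
  have hiso : IsIso ((homologyFunctor (ModuleCat.{u} A) (a - 1)).map
      ((tS A).truncLTι a |>.app C)) := by
    have h0 : Subsingleton (Dual.HD A (((tS A).truncGE a).obj C) (a - 1 - 1)) :=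
      Groth.Agent.H9.DCF.subsingleton_HD_of_isGE _ a _ (by omega)
    have h1 : Subsingleton (Dual.HD A (((tS A).truncGE a).obj C) (a - 1)) :=
      Groth.Agent.H9.DCF.subsingleton_HD_of_isGE _ a _ (by omega)
    exact Groth.Agent.H9.DCF.isIso_homologyMap_mor₁ _ hT (a - 1) h0 h1
  let e : Dual.HD A (((tS A).truncLT a).obj C) (a - 1) ≃ₗ[A] Dual.HD A C (a - 1) :=
    (asIso ((homologyFunctor (ModuleCat.{u} A) (a - 1)).map
      ((tS A).truncLTι a |>.app C))).toLinearEquiv
  refine ⟨((tS A).truncLT a).obj C, ((tS A).truncGE a).obj C, (tS A).truncLTι a |>.app C,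
    (tS A).truncGEπ a |>.app C, (tS A).truncGEδLT a |>.app C, hT, hGEY, hLE, hGEZ, ?_, ?_, ?_⟩
  · intro i
    exact Groth.Agent.H9.DCF.finite_HD_truncGE C hC a i
  · haveI := hC (a - 1)
    exact Module.Finite.equiv e.symm
  · intro x hx y
    apply e.injective
    rw [map_smul, map_zero]
    exact hJ₀ x hx _

/-- **Finiteness from annihilation** (induction on the number of degrees above the bound) -/
theorem finite_of_kill : ∀ (m : ℕ) (a : ℤ) (K : Dual.D A), K.IsGE a →
    (∀ i : ℤ, Module.Finite A (Dual.HD A K i)) → ∀ (J : Ideal A),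
    PrimeSpectrum.zeroLocus (J : Set A) ⊆ T →
    (∀ i : ℤ, i < a + m → ∀ x ∈ J, ∀ y : HX T (K⟦i⟧), x • y = 0) →
    ∀ i : ℤ, i < a + m → Module.Finite A (HX T (K⟦i⟧)) := by
  intro m
  induction m with
  | zero =>
    intro a K hK _ J _ _ i hi
    haveI := hK
    haveI := subsingleton_HX_of_isGE (T := T) K a i (by simpa using hi)
    infer_instance
  | succ m ih =>
    intro a K hGE hfin J hJT hkill
    haveI := hGE
    haveI := hfin a
    obtain ⟨J₀, hJ₀T, f, hfJ, hfJ₀, hker⟩ :=
      exists_regular_mod_torsion T (Dual.HD A K a) J hJT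
    obtain ⟨C, g, h, hT⟩ := distinguished_cocone_triangle (f • 𝟙 K)
    haveI hCGE : C.IsGE (a - 1) := isGE_cone K C f g h hT a
    have hCfin := finite_HD_cone K C f g h hT hfin
    have hCbot := smul_HD_cone_bottom K C f g h hT a J₀ hker
    obtain ⟨Y, Z, ι, π, δ, hS, hYGE, hYLE, hZGE, hZfin, hYfin, hYkill⟩ :=
      exists_trunc C a hCfin J₀ hCbot
    haveI := hYGE
    haveI := hYLE
    haveI := hZGE
    -- `J * J` kills `H_T(C[i])`
    have hA : ∀ i : ℤ, i < a + m → ∀ x ∈ J * J, ∀ y : HX T (C⟦i⟧), x • y = 0 := by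
      intro i hi x hx y
      obtain ⟨h', hT'⟩ := exists_shift_triangle (f • 𝟙 K) g h hT i
      refine Submodule.mul_induction_on hx ?_ ?_
      · intro p hp q hq
        refine smul_obj₃_mk _ _ _ hT' p q (fun x => hkill i (by push_cast; omega) p hp x)
          (fun z => ?_) y
        apply (shEquiv (T := T) K i (i + 1) rfl).injective
        rw [map_smul, map_zero]
        exact hkill (i + 1) (by push_cast; omega) q hq _
      · intro p q hp hq
        rw [add_smul, hp, hq, add_zero]
    -- vanishing of `H_T(Y[i])`, `i ≠ a - 1`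
    have hYvan : ∀ i : ℤ, i ≠ a - 1 → Subsingleton (HX T (Y⟦i⟧)) := fun i hi =>
      subsingleton_HX_heart Y (a - 1) J₀ hJ₀T hYkill i hi
    have hYvan' : ∀ i : ℤ, i + 1 ≠ a - 1 → Subsingleton (HX T ((Y⟦i⟧)⟦(1 : ℤ)⟧)) := by
      intro i hi
      haveI := hYvan (i + 1) hi
      exact (shEquiv (T := T) Y i (i + 1) rfl).toEquiv.subsingleton
    -- `J * J` kills `H_T(Z[i])`
    have hB : ∀ i : ℤ, i < a + m → ∀ x ∈ J * J, ∀ z : HX T (Z⟦i⟧), x • z = 0 := by
      intro i hi x hx z
      by_cases hia : i < a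
      · haveI := subsingleton_HX_of_isGE (T := T) Z a i hia
        exact Subsingleton.elim _ _
      · obtain ⟨t', hS'⟩ := exists_shift_triangle ι π δ hS i
        have hbij := bijective_mor₂_mk _ _ _ hS' (hYvan i (by omega)) (hYvan' i (by omega))
        obtain ⟨y, rfl⟩ := hbij.2 z
        rw [← map_smul, hA i hi x hx y, map_zero]
    have hZ := ih a Z hZGE hZfin (J * J) (zeroLocus_mul_subset T hJT hJT) hB
    -- finiteness of `H_T(C[i])`, `a - 1 ≤ i < a + m`
    have hC : ∀ i : ℤ, a - 1 ≤ i → i < a + m → Module.Finite A (HX T (C⟦i⟧)) := by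
      intro i hi1 hi2
      obtain ⟨t', hS'⟩ := exists_shift_triangle ι π δ hS i
      by_cases hia : i < a
      · obtain rfl : i = a - 1 := by omega
        have h₃ : Subsingleton (HX T (Z⟦a - 1⟧)) :=
          subsingleton_HX_of_isGE (T := T) Z a (a - 1) (by omega)
        have hsurj := surjective_mor₁_mk _ _ _ hS' h₃
        haveI : Module.Finite A (HX T (Y⟦a - 1⟧)) :=
          finite_HX_heart Y (a - 1) J₀ hJ₀T hYkill
        exact Module.Finite.of_surjective _ hsurj
      · have hbij := bijective_mor₂_mk _ _ _ hS' (hYvan i (by omega)) (hYvan' i (by omega))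
        haveI := hZ i hi2
        haveI : IsNoetherian A (HX T (Z⟦i⟧)) := isNoetherian_of_isNoetherianRing_of_finite A _
        exact Module.Finite.of_injective _ hbij.1
    -- conclusion
    intro j hj
    by_cases hja : j < a
    · haveI := subsingleton_HX_of_isGE (T := T) K a j hja
      infer_instance
    · obtain ⟨h', hT'⟩ := exists_shift_triangle (f • 𝟙 K) g h hT (j - 1)
      have h0 : ∀ z : HX T ((K⟦j - 1⟧)⟦(1 : ℤ)⟧),
          (mapX T (((f • 𝟙 K)⟦j - 1⟧')⟦(1 : ℤ)⟧')).hom z = 0 := by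
        intro z
        rw [Functor.map_smul, CategoryTheory.Functor.map_id, Functor.map_smul,
          CategoryTheory.Functor.map_id, mapX_smul, mapX_id]
        apply (shEquiv (T := T) K (j - 1) j (by omega)).injective
        rw [map_smul, map_zero]
        exact hkill j hj f hfJ _
      have hsurj := surjective_mor₃_mk _ _ _ hT' h0
      haveI := hC (j - 1) (by omega) (by push_cast at hj; omega)
      haveI : Module.Finite A (HX T ((K⟦j - 1⟧)⟦(1 : ℤ)⟧)) :=
        Module.Finite.of_surjective _ hsurj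
      exact Module.Finite.equiv (shEquiv (T := T) K (j - 1) j (by omega))

end Groth.Agent.H2.HT
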