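import Mathlib
import Groth.Agent.H2.HT.FinKill

/-!
# `H^i_T(K)` finite for `i ≤ n` iff annihilated by some `J` with `V(J) ⊆ T`  (helper2)
-/

set_option autoImplicit false
set_option maxHeartbeats 400000
set_option linter.unusedSectionVars false
set_option linter.style.haveILetI false

universe u

open CategoryTheory CategoryTheory.Limits Opposite Pretriangulated DerivedCategory

attribute [local instance] HasDerivedCategory.standard

namespace Groth.Agent.H2.HT

variable {A : Type u} [CommRing A] {T : Set (PrimeSpectrum A)}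

theorem zeroLocus_finset_inf_subset {ι : Type*} (s : Finset ι) (F : ι → Ideal A)
    (h : ∀ i ∈ s, PrimeSpectrum.zeroLocus ((F i : Ideal A) : Set A) ⊆ T) :
    PrimeSpectrum.zeroLocus ((s.inf F : Ideal A) : Set A) ⊆ T := by
  classical
  induction s using Finset.induction_on with
  | empty =>
    intro x hx
    simp at hx
  | insert i t hi ih =>
    rw [Finset.inf_insert, PrimeSpectrum.zeroLocus_inf]
    exact Set.union_subset (h i (Finset.mem_insert_self i t))
      (ih fun j hj => h j (Finset.mem_insert_of_mem hj))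

/-- a finite `H_T(X)` is killed by a single ideal `J` with `V(J) ⊆ T` -/
theorem exists_ideal_kill_of_finite (X : Dual.D A) [Module.Finite A (HX T X)] :
    ∃ J : Ideal A, PrimeSpectrum.zeroLocus (J : Set A) ⊆ T ∧
      ∀ x ∈ J, ∀ y : HX T X, x • y = 0 := by
  classical
  obtain ⟨s, hs⟩ := (Module.Finite.fg_top : (⊤ : Submodule A (HX T X)).FG)
  choose Jf hJfT hJf using fun y : HX T X => exists_idealI_smul_eq_zero X y
  refine ⟨s.inf Jf, zeroLocus_finset_inf_subset s Jf (fun i _ => hJfT i), ?_⟩
  intro x hx y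
  have hy : y ∈ Submodule.span A (s : Set (HX T X)) := hs ▸ Submodule.mem_top
  refine Submodule.span_induction (p := fun y _ => x • y = 0) ?_ ?_ ?_ ?_ hy
  · intro z hz
    exact hJf z x ((Finset.inf_le (f := Jf) hz) hx)
  · exact smul_zero x
  · intro z w _ _ hz hw
    rw [smul_add, hz, hw, add_zero]
  · intro b z _ hz
    rw [smul_comm, hz, smul_zero]

variable [IsNoetherianRing A]

/-- **`H^i_T(K)` is finite for `i ≤ n` iff it is annihilated by some `J` with `V(J) ⊆ T`** -/
theorem finite_iff_kill (K : Dual.D A) (a : ℤ) (hKa : ∀ i : ℤ, i < a → Subsingleton (Dual.HD A K i))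
    (hK : ∀ i : ℤ, Module.Finite A (Dual.HD A K i)) (n : ℤ) :
    (∀ i : ℤ, i ≤ n → Module.Finite A (HX T (K⟦i⟧))) ↔
      ∃ J : Ideal A, PrimeSpectrum.zeroLocus (J : Set A) ⊆ T ∧
        ∀ i : ℤ, i ≤ n → ∀ x : A, x ∈ J → ∀ y : HX T (K⟦i⟧), x • y = 0 := by
  haveI hGE : K.IsGE a := by
    rw [isGE_iff]
    intro i hi
    haveI := hKa i hi
    exact ModuleCat.isZero_of_subsingleton _
  constructor
  · intro hfin
    classical
    have hex : ∀ i : ℤ, ∃ J : Ideal A, PrimeSpectrum.zeroLocus (J : Set A) ⊆ T ∧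
        (i ≤ n → ∀ x ∈ J, ∀ y : HX T (K⟦i⟧), x • y = 0) := by
      intro i
      by_cases hi : i ≤ n
      · haveI := hfin i hi
        obtain ⟨J, hJT, hJ⟩ := exists_ideal_kill_of_finite (T := T) (K⟦i⟧)
        exact ⟨J, hJT, fun _ => hJ⟩
      · exact ⟨⊤, by intro x hx; simp at hx, fun h => absurd h hi⟩
    choose Jf hJfT hJf using hex
    refine ⟨(Finset.Icc a n).inf Jf, zeroLocus_finset_inf_subset _ Jf (fun i _ => hJfT i), ?_⟩
    intro i hi x hx y
    by_cases hia : i < a
    · haveI := subsingleton_HX_of_isGE (T := T) K a i hia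
      exact Subsingleton.elim _ _
    · have hmem : i ∈ Finset.Icc a n := Finset.mem_Icc.2 ⟨by omega, hi⟩
      exact hJf i hi x ((Finset.inf_le (f := Jf) hmem) hx) y
  · rintro ⟨J, hJT, hJ⟩ i hi
    by_cases hia : i < a
    · haveI := subsingleton_HX_of_isGE (T := T) K a i hia
      infer_instance
    · obtain ⟨m, hm⟩ : ∃ m : ℕ, a + (m : ℤ) = n + 1 := ⟨(n + 1 - a).toNat, by omega⟩
      refine finite_of_kill (T := T) m a K hGE hK J hJT ?_ i (by omega)
      intro i' hi' x hx y
      exact hJ i' (by omega) x hx y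

end Groth.Agent.H2.HT
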