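import Mathlib
import Groth.Agent.H2.HT.Basic

/-!
# `H_{T''}(X) → H_T(X)` for `T'' ⊆ T`  (helper2)
-/

set_option autoImplicit false
set_option maxHeartbeats 400000
set_option linter.unusedSectionVars false
set_option linter.style.haveILetI false

universe u

open CategoryTheory CategoryTheory.Limits Opposite

attribute [local instance] HasDerivedCategory.standard

namespace Groth.Agent.H2.HT

variable {A : Type u} [CommRing A] {T'' T : Set (PrimeSpectrum A)}

/-- the cocone defining `H_{T''}(X) → H_T(X)` -/
noncomputable def resCocone (h : T'' ⊆ T) (X : Dual.D A) : Cocone (FD T'' X) where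
  pt := HX T X
  ι :=
    { app := fun J => ModuleCat.ofHom (ιI J.unop.obj (J.unop.property.trans h) X)
      naturality := by
        intro J J' f
        apply ModuleCat.hom_ext
        apply LinearMap.ext
        intro α
        exact ιI_res (J'.unop.property.trans h) (J.unop.property.trans h) (leI f.unop) X α }

/-- `H_{T''}(X) → H_T(X)` for `T'' ⊆ T` -/
noncomputable def resT (h : T'' ⊆ T) (X : Dual.D A) : HX T'' X ⟶ HX T X :=
  colimit.desc (FD T'' X) (resCocone h X)

theorem resT_ιI (h : T'' ⊆ T) (X : Dual.D A) (J : Ideal A)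
    (hJ : PrimeSpectrum.zeroLocus (J : Set A) ⊆ T'') (α : sQ J ⟶ X) :
    (resT h X).hom (ιI J hJ X α) = ιI J (hJ.trans h) X α := by
  have h1 := congrArg (fun g => g.hom α) (colimit.ι_desc (resCocone h X) (op (mkI T'' J hJ)))
  exact h1

/-- if `g` kills `H_{T''}(X)`, it kills the classes in `H_T(X)` supported in `T''` -/
theorem smul_ιI_of_kill (h : T'' ⊆ T) (X : Dual.D A) (g : A)
    (hg : ∀ y : HX T'' X, g • y = 0) (J : Ideal A)
    (hJ : PrimeSpectrum.zeroLocus (J : Set A) ⊆ T'') (α : sQ J ⟶ X) :
    g • ιI J (hJ.trans h) X α = 0 := by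
  rw [← resT_ιI h X J hJ α, ← map_smul, hg, map_zero]

end Groth.Agent.H2.HT
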