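import Mathlib
import Groth.Agent.H2.HT.ChangeT
import Groth.Agent.H2.DualCx.Finite

/-!
# Multiplication maps `A/𝔠 → A/J` and the `f`-step for `H_T`  (helper2)

* `mulQ 𝔠 J t h : A/𝔠 → A/J`, `a ↦ a t`; the short exact sequence
  `0 → A/(J : t) → A/J → A/(J + t) → 0`.
* `exists_factor_of_smul_pow_eq_zero` : a morphism `α : A/J → X` in `D(A)` killed by a power of `f`
  factors through `A/(J + f^N)` for some `N`.
-/

set_option autoImplicit false
set_option maxHeartbeats 400000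
set_option linter.unusedSectionVars false
set_option linter.style.haveILetI false

universe u

open CategoryTheory CategoryTheory.Limits Opposite Pretriangulated DerivedCategory

attribute [local instance] HasDerivedCategory.standard

namespace Groth.Agent.H2.HT

variable {A : Type u} [CommRing A]

/-- the colon ideal `(J : t)` -/
def col (J : Ideal A) (t : A) : Ideal A := Submodule.comap (LinearMap.mulRight A t) J

theorem mem_col {J : Ideal A} {t c : A} : c ∈ col J t ↔ c * t ∈ J := Iff.rfl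

theorem le_col (J : Ideal A) (t : A) : J ≤ col J t := fun c hc => J.mul_mem_right t hc

theorem col_mono_mul (J : Ideal A) (t t' : A) : col J t ≤ col J (t * t') := by
  intro c hc
  rw [mem_col] at hc ⊢
  rw [← mul_assoc]
  exact J.mul_mem_right t' hc

/-- multiplication by `t` as a map `A/𝔠 → A/J`, when `𝔠 t ⊆ J` -/
def mulQ (𝔠 J : Ideal A) (t : A) (h : ∀ c ∈ 𝔠, c * t ∈ J) : (A ⧸ 𝔠) →ₗ[A] (A ⧸ J) :=
  Submodule.mapQ 𝔠 J (LinearMap.mulRight A t) (fun c hc => h c hc)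

theorem mulQ_mk (𝔠 J : Ideal A) (t : A) (h : ∀ c ∈ 𝔠, c * t ∈ J) (a : A) :
    mulQ 𝔠 J t h (Submodule.Quotient.mk a) = Submodule.Quotient.mk (a * t) := rfl

theorem mulQ_injective (𝔠 J : Ideal A) (t : A) (h : ∀ c ∈ 𝔠, c * t ∈ J)
    (hc : ∀ c, c * t ∈ J → c ∈ 𝔠) : Function.Injective (mulQ 𝔠 J t h) := by
  rw [injective_iff_map_eq_zero]
  intro x hx
  obtain ⟨a, rfl⟩ := Submodule.Quotient.mk_surjective _ x
  rw [mulQ_mk, Submodule.Quotient.mk_eq_zero] at hx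
  rw [Submodule.Quotient.mk_eq_zero]
  exact hc a hx

theorem mulQ_exact (𝔠 J : Ideal A) (t : A) (h : ∀ c ∈ 𝔠, c * t ∈ J) :
    Function.Exact (mulQ 𝔠 J t h)
      (Submodule.mapQ J (J ⊔ Ideal.span {t}) LinearMap.id le_sup_left) := by
  intro y
  obtain ⟨a, rfl⟩ := Submodule.Quotient.mk_surjective _ y
  constructor
  · intro h0
    have h1 : a ∈ J ⊔ Ideal.span {t} := by
      have : (Submodule.Quotient.mk a : A ⧸ (J ⊔ Ideal.span {t})) = 0 := h0
      rwa [Submodule.Quotient.mk_eq_zero] at this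
    obtain ⟨j, hj, b, hb, rfl⟩ := Submodule.mem_sup.mp h1
    obtain ⟨b', rfl⟩ := Ideal.mem_span_singleton'.mp hb
    refine ⟨Submodule.Quotient.mk b', ?_⟩
    rw [mulQ_mk]
    refine (Submodule.Quotient.eq J).mpr ?_
    have : b' * t - (j + b' * t) = -j := by ring
    rw [this]
    exact J.neg_mem hj
  · rintro ⟨x, hx⟩
    obtain ⟨b, rfl⟩ := Submodule.Quotient.mk_surjective _ x
    rw [mulQ_mk] at hx
    rw [← hx]
    show (Submodule.Quotient.mk (b * t) : A ⧸ (J ⊔ Ideal.span {t})) = 0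
    rw [Submodule.Quotient.mk_eq_zero]
    exact Submodule.mem_sup_right (Ideal.mem_span_singleton'.mpr ⟨b, rfl⟩)

theorem mapQ_surjective {J J' : Ideal A} (h : J ≤ J') :
    Function.Surjective (Submodule.mapQ J J' LinearMap.id h) := by
  intro y
  obtain ⟨a, rfl⟩ := Submodule.Quotient.mk_surjective _ y
  exact ⟨Submodule.Quotient.mk a, rfl⟩

theorem mulQ_mul (𝔠 J : Ideal A) (t t' : A) (h : ∀ c ∈ 𝔠, c * t ∈ J)
    (h' : ∀ c ∈ 𝔠, c * (t * t') ∈ J) : mulQ 𝔠 J (t * t') h' = t' • mulQ 𝔠 J t h := by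
  apply LinearMap.ext
  intro x
  obtain ⟨a, rfl⟩ := Submodule.Quotient.mk_surjective _ x
  rw [LinearMap.smul_apply, mulQ_mk, mulQ_mk, ← Submodule.Quotient.mk_smul]
  congr 1
  rw [smul_eq_mul]
  ring

/-- `mulQ` followed by a projection -/
theorem mapQ_comp_mulQ (𝔠 J J' : Ideal A) (t : A) (h : ∀ c ∈ 𝔠, c * t ∈ J) (hJ : J ≤ J') :
    (Submodule.mapQ J J' LinearMap.id hJ) ∘ₗ mulQ 𝔠 J t h =
      mulQ 𝔠 J' t (fun c hc => hJ (h c hc)) := by
  apply LinearMap.ext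
  intro x
  obtain ⟨a, rfl⟩ := Submodule.Quotient.mk_surjective _ x
  rfl

/-- a projection followed by `mulQ` -/
theorem mulQ_comp_mapQ (𝔠' 𝔠 J : Ideal A) (t : A) (h : ∀ c ∈ 𝔠, c * t ∈ J) (h𝔠 : 𝔠' ≤ 𝔠) :
    mulQ 𝔠 J t h ∘ₗ (Submodule.mapQ 𝔠' 𝔠 LinearMap.id h𝔠) =
      mulQ 𝔠' J t (fun c hc => h c (h𝔠 hc)) := by
  apply LinearMap.ext
  intro x
  obtain ⟨a, rfl⟩ := Submodule.Quotient.mk_surjective _ x
  rfl

/-- when `t ∈ J`-multiplication lands in a projection: `mulQ 𝔠 J t = t • proj` for `𝔠 ≤ J` -/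
theorem mulQ_eq_smul_mapQ (𝔠 J : Ideal A) (t : A) (h𝔠 : 𝔠 ≤ J) :
    mulQ 𝔠 J t (fun c hc => J.mul_mem_right t (h𝔠 hc)) =
      t • Submodule.mapQ 𝔠 J LinearMap.id h𝔠 := by
  apply LinearMap.ext
  intro x
  obtain ⟨a, rfl⟩ := Submodule.Quotient.mk_surjective _ x
  rw [LinearMap.smul_apply, mulQ_mk]
  show (Submodule.Quotient.mk (a * t) : A ⧸ J) = t • Submodule.Quotient.mk a
  rw [← Submodule.Quotient.mk_smul, smul_eq_mul, mul_comm]

/-- composition of two `mulQ` -/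
theorem mulQ_comp_mulQ (𝔠 J J' : Ideal A) (t t' : A) (h : ∀ c ∈ 𝔠, c * t ∈ J)
    (h' : ∀ c ∈ J, c * t' ∈ J') :
    mulQ J J' t' h' ∘ₗ mulQ 𝔠 J t h =
      mulQ 𝔠 J' (t * t') (fun c hc => by rw [← mul_assoc]; exact h' _ (h c hc)) := by
  apply LinearMap.ext
  intro x
  obtain ⟨a, rfl⟩ := Submodule.Quotient.mk_surjective _ x
  show (Submodule.Quotient.mk (a * t * t') : A ⧸ J') = Submodule.Quotient.mk (a * (t * t'))
  rw [mul_assoc]

section Noeth

variable [IsNoetherianRing A]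

/-- the colon ideals `(J : f^k)` stabilize -/
theorem exists_col_stable (J : Ideal A) (f : A) :
    ∃ k₀ : ℕ, ∀ k : ℕ, k₀ ≤ k → col J (f ^ k) = col J (f ^ k₀) := by
  let F : ℕ →o Submodule A A :=
    { toFun := fun k => col J (f ^ k)
      monotone' := by
        intro k k' hkk'
        obtain ⟨d, rfl⟩ := Nat.exists_eq_add_of_le hkk'
        show col J (f ^ k) ≤ col J (f ^ (k + d))
        rw [pow_add]
        exact col_mono_mul J _ _ }
  obtain ⟨n, hn⟩ := monotone_stabilizes_iff_noetherian.mpr (inferInstance : IsNoetherian A A) F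
  exact ⟨n, fun k hk => (hn k hk).symm⟩

/-- the short exact sequence `0 → A/(J : t) → A/J → A/(J + t) → 0` -/
theorem shortExact_mulQ (𝔠 J : Ideal A) (t : A) (h : ∀ c ∈ 𝔠, c * t ∈ J)
    (hc : ∀ c, c * t ∈ J → c ∈ 𝔠) :
    (Groth.Agent.H2.DualCx.sc (mulQ 𝔠 J t h)
      (Submodule.mapQ J (J ⊔ Ideal.span {t}) LinearMap.id le_sup_left)
      (mulQ_exact 𝔠 J t h)).ShortExact :=
  Groth.Agent.H2.DualCx.sc_shortExact _ _ (mulQ_injective 𝔠 J t h hc) (mapQ_surjective _)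
    (mulQ_exact 𝔠 J t h)

/-- **the `f`-step**: a morphism `A/J → X` killed by `f^m` factors through `A/(J + f^N)` -/
theorem exists_factor_of_smul_pow_eq_zero (J : Ideal A) (f : A) {X : Dual.D A} (α : sQ J ⟶ X)
    (m : ℕ) (hα : f ^ m • α = 0) :
    ∃ (N : ℕ) (_ : 1 ≤ N) (β : sQ (J ⊔ Ideal.span {f ^ N}) ⟶ X), sqmap le_sup_left ≫ β = α := by
  obtain ⟨k₀, hk₀⟩ := exists_col_stable J f
  set 𝔠 : Ideal A := col J (f ^ k₀) with h𝔠
  have h0 : ∀ c ∈ 𝔠, c * f ^ k₀ ∈ J := fun c hc => hc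
  have hN : ∀ c ∈ 𝔠, c * f ^ (k₀ + (m + 1)) ∈ J := by
    intro c hc
    rw [pow_add, ← mul_assoc]
    exact J.mul_mem_right _ (h0 c hc)
  have hcN : ∀ c, c * f ^ (k₀ + (m + 1)) ∈ J → c ∈ 𝔠 := by
    intro c hc
    have : c ∈ col J (f ^ (k₀ + (m + 1))) := hc
    rwa [hk₀ (k₀ + (m + 1)) (by omega)] at this
  have hS := shortExact_mulQ 𝔠 J (f ^ (k₀ + (m + 1))) hN hcN
  have hmul : mulQ 𝔠 J (f ^ (k₀ + (m + 1))) hN = f ^ (m + 1) • mulQ 𝔠 J (f ^ k₀) h0 := by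
    have := mulQ_mul 𝔠 J (f ^ k₀) (f ^ (m + 1)) h0 (by rw [← pow_add]; exact hN)
    rw [← this]
    congr 1
    exact pow_add f k₀ (m + 1)
  have hzero : (DerivedCategory.singleFunctor (ModuleCat.{u} A) 0).map
      (ModuleCat.ofHom (mulQ 𝔠 J (f ^ (k₀ + (m + 1))) hN)) ≫ α = 0 := by
    have h1 : (DerivedCategory.singleFunctor (ModuleCat.{u} A) 0).map
        (ModuleCat.ofHom (mulQ 𝔠 J (f ^ (k₀ + (m + 1))) hN)) =
        f ^ (m + 1) • Groth.Agent.H2.DualCx.sg (mulQ 𝔠 J (f ^ k₀) h0) := by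
      rw [hmul]
      exact Groth.Agent.H2.DualCx.sg_smul _ _
    rw [h1, Linear.smul_comp, ← Linear.comp_smul, pow_succ', mul_smul, hα, smul_zero, comp_zero]
  obtain ⟨β, hβ⟩ := Groth.Agent.H2.DualCx.exact_mid hS α hzero
  exact ⟨k₀ + (m + 1), by omega, β, hβ.symm⟩

end Noeth

end Groth.Agent.H2.HT
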