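import Mathlib
import Groth.Agent.H2.HT.MulQ
import Groth.Agent.H2.HT.FinIffKill

/-!
# The coniveau step for `H_T`  (helper2)

`T'' ⊆ T` stable under specialization such that the points of `T ∖ T''` are minimal in `T`.
If `x ∈ H_T(X)` dies in the localizations `H_T(X)_p` at all `p ∈ T ∖ T''` then `x` comes from
`H_{T''}(X)`.
-/

set_option autoImplicit false
set_option maxHeartbeats 400000
set_option linter.unusedSectionVars false
set_option linter.style.haveILetI false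

universe u

open CategoryTheory CategoryTheory.Limits Opposite Pretriangulated DerivedCategory

attribute [local instance] HasDerivedCategory.standard

namespace Groth.Agent.H2.HT

variable {A : Type u} [CommRing A] [IsNoetherianRing A]

/-- avoiding the minimal primes of `J'` outside `T''` -/
theorem exists_avoid_minimalPrimes (J' 𝔞 : Ideal A) (T'' : Set (PrimeSpectrum A))
    (h𝔞 : PrimeSpectrum.zeroLocus (𝔞 : Set A) ⊆ T'') :
    ∃ f ∈ 𝔞, ∀ p : PrimeSpectrum A, p.asIdeal ∈ J'.minimalPrimes → p ∉ T'' → f ∉ p.asIdeal := by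
  classical
  have hfin : (J'.minimalPrimes).Finite := J'.finite_minimalPrimes_of_isNoetherianRing A
  let S : Set (Ideal A) := {p | p ∈ J'.minimalPrimes ∧
    ∀ hp : p.IsPrime, (⟨p, hp⟩ : PrimeSpectrum A) ∉ T''}
  have hSfin : S.Finite := hfin.subset (fun p hp => hp.1)
  by_contra hcon
  push Not at hcon
  have hsub : (𝔞 : Set A) ⊆ ⋃ p ∈ S, (p : Set A) := by
    intro f hf
    obtain ⟨p, hp, hpT, hfp⟩ := hcon f hf
    refine Set.mem_iUnion₂.mpr ⟨p.asIdeal, ⟨hp, fun _ => hpT⟩, hfp⟩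
  obtain ⟨p, hpS, hp⟩ := (Ideal.subset_union_prime_finite hSfin (f := id) 0 0
    (fun p hp _ _ => hp.1.1.1)).mp hsub
  have hpp : p.IsPrime := hpS.1.1.1
  exact hpS.2 hpp (h𝔞 (show (⟨p, hpp⟩ : PrimeSpectrum A) ∈ PrimeSpectrum.zeroLocus (𝔞 : Set A) from hp))

/-- `V(J' + f^N) ⊆ T''` when `f` avoids the minimal primes of `J'` outside `T''` -/
theorem zeroLocus_sup_span_pow_subset {T'' T : Set (PrimeSpectrum A)}
    (hT'' : StableUnderSpecialization T'')
    (hmin : ∀ p ∈ T, p ∉ T'' → ∀ p' : PrimeSpectrum A, p' < p → p' ∉ T)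
    (J' : Ideal A) (hJ' : PrimeSpectrum.zeroLocus (J' : Set A) ⊆ T) (f : A)
    (hf : ∀ p : PrimeSpectrum A, p.asIdeal ∈ J'.minimalPrimes → p ∉ T'' → f ∉ p.asIdeal)
    (N : ℕ) :
    PrimeSpectrum.zeroLocus ((J' ⊔ Ideal.span {f ^ N} : Ideal A) : Set A) ⊆ T'' := by
  intro q hq
  rw [PrimeSpectrum.mem_zeroLocus, SetLike.coe_subset_coe] at hq
  have hJq : J' ≤ q.asIdeal := le_sup_left.trans hq
  have hfq : f ∈ q.asIdeal := by
    have h1 : f ^ N ∈ q.asIdeal := hq (Submodule.mem_sup_right (Ideal.subset_span rfl))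
    exact q.2.mem_of_pow_mem N h1
  obtain ⟨p, hp, hpq⟩ := Ideal.exists_minimalPrimes_le hJq
  have hpp : p.IsPrime := hp.1.1
  let P : PrimeSpectrum A := ⟨p, hpp⟩
  have hPT : P ∈ T := hJ' (show P ∈ PrimeSpectrum.zeroLocus (J' : Set A) from hp.1.2)
  by_cases hP : P ∈ T''
  · exact hT'' ((PrimeSpectrum.le_iff_specializes P q).mp hpq) hP
  · have hfp : f ∉ p := hf P hp hP
    have hlt : P < q := by
      refine lt_of_le_of_ne hpq (fun h => hfp ?_)
      have h1 : p = q.asIdeal := congrArg PrimeSpectrum.asIdeal h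
      rw [h1]
      exact hfq
    by_contra hq''
    have hqT : q ∈ T := hJ' (show q ∈ PrimeSpectrum.zeroLocus (J' : Set A) from hJq)
    exact hmin q hqT hq'' P hlt hPT

/-- **the coniveau step**: an element of `H_T(X)` which dies locally at all points of `T ∖ T''`
comes from `H_{T''}(X)` -/
theorem exists_rep_of_locally_zero {T'' T : Set (PrimeSpectrum A)}
    (hT'' : StableUnderSpecialization T'') (hsub : T'' ⊆ T)
    (hmin : ∀ p ∈ T, p ∉ T'' → ∀ p' : PrimeSpectrum A, p' < p → p' ∉ T)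
    (X : Dual.D A) (x : HX T X)
    (hx : ∀ p ∈ T, p ∉ T'' → ∃ f : A, f ∉ p.asIdeal ∧ f • x = 0) :
    ∃ (J : Ideal A) (hJ : PrimeSpectrum.zeroLocus (J : Set A) ⊆ T'') (β : sQ J ⟶ X),
      ιI J (hJ.trans hsub) X β = x := by
  classical
  obtain ⟨J, hJ, α, rfl⟩ := exists_repI X x
  -- the annihilator of the class
  let 𝔞 : Ideal A := LinearMap.ker (LinearMap.toSpanSingleton A (HX T X) (ιI J hJ X α))
  have h𝔞 : ∀ a, a ∈ 𝔞 ↔ a • ιI J hJ X α = 0 := fun a => by
    show a ∈ LinearMap.ker _ ↔ _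
    rw [LinearMap.mem_ker, LinearMap.toSpanSingleton_apply]
  have hJ𝔞 : J ≤ 𝔞 := fun a ha => (h𝔞 a).2 (smul_ιI hJ a ha α)
  have hV : PrimeSpectrum.zeroLocus (𝔞 : Set A) ⊆ T'' := by
    intro q hq
    by_contra hqT
    have hqT' : q ∈ T := hJ (PrimeSpectrum.zeroLocus_anti_mono hJ𝔞 hq)
    obtain ⟨f, hfq, hf⟩ := hx q hqT' hqT
    exact hfq (hq ((h𝔞 f).2 hf))
  -- finite generation
  obtain ⟨s, hs⟩ := (isNoetherianRing_iff_ideal_fg A).1 inferInstance 𝔞
  have hgen : ∀ g ∈ s, ∃ J' : Ideal A, PrimeSpectrum.zeroLocus (J' : Set A) ⊆ T ∧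
      ∃ h' : J' ≤ J, g • (sqmap h' ≫ α) = 0 := by
    intro g hg
    have hg𝔞 : g ∈ 𝔞 := hs ▸ Ideal.subset_span hg
    have h0 : ιI J hJ X (g • α) = 0 := by
      rw [map_smul]; exact (h𝔞 g).1 hg𝔞
    obtain ⟨J', hJ', h', h0'⟩ := ιI_eq_zero hJ (g • α) h0
    refine ⟨J', hJ', h', ?_⟩
    rw [← Linear.comp_smul]
    exact h0'
  choose! F hFT hF using hgen
  set J' : Ideal A := J ⊓ s.inf F with hJ'def
  have hJ'T : PrimeSpectrum.zeroLocus (J' : Set A) ⊆ T :=
    zeroLocus_inf_subset T hJ (zeroLocus_finset_inf_subset s F hFT)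
  have hJ'J : J' ≤ J := inf_le_left
  set α' : sQ J' ⟶ X := sqmap hJ'J ≫ α with hα'
  have hkill_gen : ∀ g ∈ s, g • α' = 0 := by
    intro g hg
    obtain ⟨h', h0⟩ := hF g hg
    have h1 : J' ≤ F g := inf_le_right.trans (Finset.inf_le hg)
    have h2 : sqmap hJ'J = sqmap h1 ≫ sqmap h' := (sqmap_comp h1 h').symm
    rw [hα', h2, Category.assoc, ← Linear.comp_smul, h0, comp_zero]
  have hkill : ∀ a ∈ 𝔞, a • α' = 0 := by
    intro a ha
    rw [← hs] at ha
    refine Submodule.span_induction (p := fun a _ => a • α' = 0) ?_ ?_ ?_ ?_ ha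
    · intro g hg
      exact hkill_gen g hg
    · exact zero_smul _ _
    · intro a b _ _ ha hb
      rw [add_smul, ha, hb, add_zero]
    · intro b a _ ha
      rw [smul_eq_mul, mul_smul, ha, smul_zero]
  -- prime avoidance
  obtain ⟨f, hf𝔞, hfav⟩ := exists_avoid_minimalPrimes J' 𝔞 T'' hV
  have hfα : f ^ 1 • α' = 0 := by
    rw [pow_one]; exact hkill f hf𝔞
  obtain ⟨N, -, β, hβ⟩ := exists_factor_of_smul_pow_eq_zero J' f α' 1 hfα
  have hVN := zeroLocus_sup_span_pow_subset hT'' hmin J' hJ'T f hfav N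
  refine ⟨J' ⊔ Ideal.span {f ^ N}, hVN, β, ?_⟩
  rw [← ιI_res hJ'T (hVN.trans hsub) le_sup_left X β, hβ, hα']
  exact ιI_res hJ'T hJ hJ'J X α

end Groth.Agent.H2.HT
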