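import Mathlib
import Groth.Agent.H2.HT.Coniveau

/-!
# Killing `H_T(X)` locally at a minimal point of `T`  (helper2)

For `q ∈ T` minimal in `T`, the localization `H_T(X)_q` only depends on the classes supported on
`V(q)`: `LocKill q g X` (every `α : A/q^k → X` is killed by `f g` on some `A/q^k'`, `f ∉ q`) is
equivalent to `∀ x ∈ H_T(X), ∃ f ∉ q, f g x = 0`.
-/

set_option autoImplicit false
set_option maxHeartbeats 400000
set_option linter.unusedSectionVars false
set_option linter.style.haveILetI false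

universe u

open CategoryTheory CategoryTheory.Limits Opposite Pretriangulated DerivedCategory

attribute [local instance] HasDerivedCategory.standard

namespace Groth.Agent.H2.HT

variable {A : Type u} [CommRing A] [IsNoetherianRing A]

/-- if `q` is the only prime between `J` and `q`, then `q^k f' ⊆ J` for some `k` and `f' ∉ q` -/
theorem exists_pow_mul_mem (J q : Ideal A) [hq : q.IsPrime]
    (hmin : ∀ p' : Ideal A, p'.IsPrime → J ≤ p' → p' ≤ q → p' = q) :
    ∃ (k : ℕ) (f' : A), f' ∉ q ∧ ∀ c ∈ q ^ k, c * f' ∈ J := by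
  classical
  let I : Ideal A :=
    { carrier := {a | ∃ f : A, f ∉ q ∧ a * f ∈ J}
      add_mem' := by
        rintro a b ⟨f₁, hf₁, h₁⟩ ⟨f₂, hf₂, h₂⟩
        refine ⟨f₁ * f₂, fun h => (hq.mem_or_mem h).elim hf₁ hf₂, ?_⟩
        have : (a + b) * (f₁ * f₂) = a * f₁ * f₂ + b * f₂ * f₁ := by ring
        rw [this]
        exact J.add_mem (J.mul_mem_right _ h₁) (J.mul_mem_right _ h₂)
      zero_mem' := ⟨1, fun h => hq.ne_top ((Ideal.eq_top_iff_one q).mpr h), by simp⟩
      smul_mem' := by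
        rintro c a ⟨f, hf, h⟩
        refine ⟨f, hf, ?_⟩
        rw [smul_eq_mul, mul_assoc]
        exact J.mul_mem_left c h }
  have hI : ∀ a, a ∈ I ↔ ∃ f : A, f ∉ q ∧ a * f ∈ J := fun a => Iff.rfl
  have hJI : J ≤ I := fun a ha => (hI a).2 ⟨1, fun h => hq.ne_top ((Ideal.eq_top_iff_one q).mpr h),
    by rwa [mul_one]⟩
  have hrad : q ≤ I.radical := by
    rw [Ideal.radical_eq_sInf]
    refine le_sInf ?_
    rintro P ⟨hIP, hP⟩
    obtain ⟨p', hp', hp'P⟩ := Ideal.exists_minimalPrimes_le hIP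
    have hp'prime : p'.IsPrime := hp'.1.1
    have hcol : Submodule.colon (I : Submodule A A) {(1 : A)} = I := by
      ext r
      rw [Submodule.mem_colon_singleton, smul_eq_mul, mul_one]
    have hp'' : p' ∈ (Submodule.colon (I : Submodule A A) {(1 : A)}).minimalPrimes := by
      rw [hcol]; exact hp'
    obtain ⟨x', hx'⟩ := Submodule.exists_eq_colon_of_mem_minimalPrimes hp''
    have hx'I : x' ∉ I := by
      intro h
      have : p' = ⊤ := by
        rw [hx', Ideal.eq_top_iff_one, Submodule.mem_colon_singleton, one_smul]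
        exact h
      exact hp'prime.ne_top this
    have hle : p' ≤ q := by
      intro a ha
      rw [hx', Submodule.mem_colon_singleton, smul_eq_mul] at ha
      obtain ⟨f, hf, h⟩ := (hI _).1 ha
      by_contra haq
      apply hx'I
      refine (hI x').2 ⟨a * f, fun h' => (hq.mem_or_mem h').elim haq hf, ?_⟩
      have : x' * (a * f) = a * x' * f := by ring
      rw [this]
      exact h
    have := hmin p' hp'prime (hJI.trans hp'.1.2) hle
    rw [← this]
    exact hp'P
  obtain ⟨k, hk⟩ := Ideal.exists_pow_le_of_le_radical_of_fg hrad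
    ((isNoetherianRing_iff_ideal_fg A).1 inferInstance q)
  obtain ⟨s, hs⟩ := (isNoetherianRing_iff_ideal_fg A).1 inferInstance (q ^ k)
  have hgen : ∀ c ∈ s, ∃ f : A, f ∉ q ∧ c * f ∈ J := by
    intro c hc
    exact (hI c).1 (hk (hs ▸ Ideal.subset_span hc))
  choose! F hFq hFJ using hgen
  refine ⟨k, ∏ c ∈ s, F c, ?_, ?_⟩
  · intro h
    obtain ⟨c, hc, hcq⟩ := (hq.prod_mem_iff).mp h
    exact hFq c hc hcq
  · intro c hc
    rw [← hs] at hc
    refine Submodule.span_induction (p := fun c _ => c * ∏ c ∈ s, F c ∈ J) ?_ ?_ ?_ ?_ hc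
    · intro c hc
      obtain ⟨d, hd⟩ := Finset.dvd_prod_of_mem F hc
      rw [hd, ← mul_assoc]
      exact J.mul_mem_right _ (hFJ c hc)
    · rw [zero_mul]; exact J.zero_mem
    · intro a b _ _ ha hb
      rw [add_mul]; exact J.add_mem ha hb
    · intro b a _ ha
      rw [smul_eq_mul, mul_assoc]
      exact J.mul_mem_left b ha

/-- `g` kills the classes supported on `V(q)`, locally at `q` -/
def LocKill (q : Ideal A) (g : A) (X : Dual.D A) : Prop :=
  ∀ (k : ℕ) (α : sQ (q ^ k) ⟶ X), ∃ f : A, f ∉ q ∧ ∃ (k' : ℕ) (hk : k ≤ k'),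
    (f * g) • (sqmap (Ideal.pow_le_pow_right hk) ≫ α) = 0

theorem zeroLocus_pow_subset_of_mem {T : Set (PrimeSpectrum A)} (hT : StableUnderSpecialization T)
    (q : PrimeSpectrum A) (hqT : q ∈ T) (k : ℕ) :
    PrimeSpectrum.zeroLocus ((q.asIdeal ^ k : Ideal A) : Set A) ⊆ T := by
  intro p hp
  rw [PrimeSpectrum.mem_zeroLocus, SetLike.coe_subset_coe] at hp
  have : q.asIdeal ≤ p.asIdeal := p.2.le_of_pow_le hp
  exact hT ((PrimeSpectrum.le_iff_specializes q p).mp this) hqT

variable {T : Set (PrimeSpectrum A)}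

/-- from `V(q)` to `T` -/
theorem kill_HX_of_locKill (hT : StableUnderSpecialization T) (q : PrimeSpectrum A) (hqT : q ∈ T)
    (hqmin : ∀ p' : PrimeSpectrum A, p' < q → p' ∉ T) (g : A) (X : Dual.D A)
    (h : LocKill q.asIdeal g X) (x : HX T X) : ∃ f : A, f ∉ q.asIdeal ∧ (f * g) • x = 0 := by
  obtain ⟨J, hJ, α, rfl⟩ := exists_repI X x
  by_cases hJq : J ≤ q.asIdeal
  · have hmin : ∀ p' : Ideal A, p'.IsPrime → J ≤ p' → p' ≤ q.asIdeal → p' = q.asIdeal := by
      intro p' hp' hJp' hp'q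
      by_contra hne
      have hlt : (⟨p', hp'⟩ : PrimeSpectrum A) < q :=
        lt_of_le_of_ne hp'q (fun h => hne (congrArg PrimeSpectrum.asIdeal h))
      exact hqmin _ hlt (hJ (show (⟨p', hp'⟩ : PrimeSpectrum A) ∈
        PrimeSpectrum.zeroLocus (J : Set A) from hJp'))
    obtain ⟨k, f', hf', hkf'⟩ := exists_pow_mul_mem J q.asIdeal hmin
    let μ : sQ (q.asIdeal ^ k) ⟶ sQ J := Groth.Agent.H2.DualCx.sg (mulQ (q.asIdeal ^ k) J f' hkf')
    obtain ⟨f, hf, k', hk, h0⟩ := h k (μ ≫ α)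
    set J'' : Ideal A := J ⊓ q.asIdeal ^ k' with hJ''
    have hJ''T : PrimeSpectrum.zeroLocus (J'' : Set A) ⊆ T :=
      zeroLocus_inf_subset T hJ (zeroLocus_pow_subset_of_mem hT q hqT k')
    have hid : sqmap (inf_le_right : J'' ≤ q.asIdeal ^ k') ≫
        sqmap (Ideal.pow_le_pow_right hk) ≫ μ = f' • sqmap (inf_le_left : J'' ≤ J) := by
      have h1 : mulQ (q.asIdeal ^ k) J f' hkf' ∘ₗ
          (Submodule.mapQ (q.asIdeal ^ k') (q.asIdeal ^ k) LinearMap.id
            (Ideal.pow_le_pow_right hk)) ∘ₗ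
          (Submodule.mapQ J'' (q.asIdeal ^ k') LinearMap.id inf_le_right) =
          f' • Submodule.mapQ J'' J LinearMap.id inf_le_left := by
        apply LinearMap.ext
        intro y
        obtain ⟨a, rfl⟩ := Submodule.Quotient.mk_surjective _ y
        show (Submodule.Quotient.mk (a * f') : A ⧸ J) = f' • Submodule.Quotient.mk a
        rw [← Submodule.Quotient.mk_smul, smul_eq_mul, mul_comm]
      have h2 := congrArg Groth.Agent.H2.DualCx.sg h1
      rw [Groth.Agent.H2.DualCx.sg_comp, Groth.Agent.H2.DualCx.sg_comp,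
        Groth.Agent.H2.DualCx.sg_smul] at h2
      exact h2
    refine ⟨f * f', fun hh => (q.2.mem_or_mem hh).elim hf hf', ?_⟩
    have h3 : (f * f' * g) • (sqmap (inf_le_left : J'' ≤ J) ≫ α) = 0 := by
      have h4 : (f * f' * g) • (sqmap (inf_le_left : J'' ≤ J) ≫ α) =
          (f * g) • ((f' • sqmap (inf_le_left : J'' ≤ J)) ≫ α) := by
        rw [Linear.smul_comp, smul_smul]
        congr 1
        ring
      rw [h4, ← hid, Category.assoc, Category.assoc, ← Linear.comp_smul, h0, comp_zero]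
    rw [← ιI_res hJ''T hJ inf_le_left X α, ← map_smul, h3, map_zero]
  · obtain ⟨f, hfJ, hfq⟩ := Set.not_subset.mp hJq
    refine ⟨f, hfq, ?_⟩
    rw [mul_smul, smul_comm, smul_ιI hJ f hfJ α, smul_zero]

/-- from `T` to `V(q)` -/
theorem locKill_of_kill_HX (hT : StableUnderSpecialization T) (q : PrimeSpectrum A) (hqT : q ∈ T)
    (hqmin : ∀ p' : PrimeSpectrum A, p' < q → p' ∉ T) (g : A) (X : Dual.D A)
    (h : ∀ x : HX T X, ∃ f : A, f ∉ q.asIdeal ∧ (f * g) • x = 0) : LocKill q.asIdeal g X := by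
  intro k α
  have hkT := zeroLocus_pow_subset_of_mem hT q hqT k
  obtain ⟨f, hf, hx⟩ := h (ιI (q.asIdeal ^ k) hkT X α)
  rw [← map_smul] at hx
  obtain ⟨J', hJ'T, hJ'k, h0⟩ := ιI_eq_zero hkT _ hx
  by_cases hJq : J' ≤ q.asIdeal
  · have hmin : ∀ p' : Ideal A, p'.IsPrime → J' ≤ p' → p' ≤ q.asIdeal → p' = q.asIdeal := by
      intro p' hp' hJp' hp'q
      by_contra hne
      have hlt : (⟨p', hp'⟩ : PrimeSpectrum A) < q :=
        lt_of_le_of_ne hp'q (fun h => hne (congrArg PrimeSpectrum.asIdeal h))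
      exact hqmin _ hlt (hJ'T (show (⟨p', hp'⟩ : PrimeSpectrum A) ∈
        PrimeSpectrum.zeroLocus (J' : Set A) from hJp'))
    obtain ⟨k₁, f', hf', hkf'⟩ := exists_pow_mul_mem J' q.asIdeal hmin
    have hkf'' : ∀ c ∈ q.asIdeal ^ (k₁ + k), c * f' ∈ J' := fun c hc =>
      hkf' c (Ideal.pow_le_pow_right (Nat.le_add_right k₁ k) hc)
    let μ : sQ (q.asIdeal ^ (k₁ + k)) ⟶ sQ J' :=
      Groth.Agent.H2.DualCx.sg (mulQ (q.asIdeal ^ (k₁ + k)) J' f' hkf'')
    have hid : μ ≫ sqmap hJ'k =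
        f' • sqmap (Ideal.pow_le_pow_right (Nat.le_add_left k k₁)) := by
      have h1 : (Submodule.mapQ J' (q.asIdeal ^ k) LinearMap.id hJ'k) ∘ₗ
          mulQ (q.asIdeal ^ (k₁ + k)) J' f' hkf'' =
          f' • Submodule.mapQ (q.asIdeal ^ (k₁ + k)) (q.asIdeal ^ k) LinearMap.id
            (Ideal.pow_le_pow_right (Nat.le_add_left k k₁)) := by
        apply LinearMap.ext
        intro y
        obtain ⟨a, rfl⟩ := Submodule.Quotient.mk_surjective _ y
        show (Submodule.Quotient.mk (a * f') : A ⧸ q.asIdeal ^ k) = f' • Submodule.Quotient.mk a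
        rw [← Submodule.Quotient.mk_smul, smul_eq_mul, mul_comm]
      have h2 := congrArg Groth.Agent.H2.DualCx.sg h1
      rw [Groth.Agent.H2.DualCx.sg_comp, Groth.Agent.H2.DualCx.sg_smul] at h2
      exact h2
    refine ⟨f * f', fun hh => (q.2.mem_or_mem hh).elim hf hf', k₁ + k, Nat.le_add_left k k₁, ?_⟩
    have h4 : (f * f' * g) • (sqmap (Ideal.pow_le_pow_right (Nat.le_add_left k k₁)) ≫ α) =
        (f' • sqmap (Ideal.pow_le_pow_right (Nat.le_add_left k k₁))) ≫ ((f * g) • α) := by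
      rw [Linear.smul_comp, Linear.comp_smul, smul_smul]
      congr 1
      ring
    rw [h4, ← hid, Category.assoc, h0, comp_zero]
  · obtain ⟨f'', hfJ, hfq⟩ := Set.not_subset.mp hJq
    refine ⟨f'', hfq, k, le_refl k, ?_⟩
    have h5 : f'' • α = 0 := smul_hom_sQ (q.asIdeal ^ k) f'' (hJ'k hfJ) α
    rw [mul_smul, smul_comm, ← Linear.comp_smul, h5, comp_zero, smul_zero]

end Groth.Agent.H2.HT
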