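import Mathlib
import Groth.Agent.H2.HT.LocKill
import Groth.Agent.H2.DualCx.LES

/-!
# Kernel of `H_{T''}(X) → H_T(X)`  (helper2)

`T'' ⊆ T` with `T ∖ T''` consisting of minimal points of `T`.  If `g` kills `H_Z(X[-1])` for all
closed `Z ⊆ T` then `g` kills the kernel of `H_{T''}(X) → H_T(X)`.
-/

set_option autoImplicit false
set_option maxHeartbeats 800000
set_option linter.unusedSectionVars false
set_option linter.style.haveILetI false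

universe u

open CategoryTheory CategoryTheory.Limits Opposite Pretriangulated DerivedCategory

attribute [local instance] HasDerivedCategory.standard

namespace Groth.Agent.H2.HT

variable {A : Type u} [CommRing A] [IsNoetherianRing A]

/-- an Artin–Rees estimate for colon ideals -/
theorem exists_artinRees_colon (J : Ideal A) (f : A) (r k : ℕ) :
    ∃ (k₁ r'' : ℕ), 1 ≤ r'' ∧ ∀ a : A, a * f ^ (k + k₁) ∈ J ^ r'' → a * f ^ k₁ ∈ J ^ r := by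
  obtain ⟨k₁, hk₁⟩ := exists_col_stable (⊥ : Ideal A) f
  obtain ⟨c, hc⟩ := Ideal.exists_pow_inf_eq_pow_smul J
    (Ideal.span {f ^ (k + k₁)} : Submodule A A)
  refine ⟨k₁, r + c + 1, by omega, ?_⟩
  intro a ha
  have h1 : a * f ^ (k + k₁) ∈ J ^ (r + c + 1) • (⊤ : Submodule A A) ⊓
      (Ideal.span {f ^ (k + k₁)} : Submodule A A) := by
    refine ⟨?_, Ideal.mem_span_singleton'.mpr ⟨a, rfl⟩⟩
    have : J ^ (r + c + 1) • (⊤ : Submodule A A) = J ^ (r + c + 1) := by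
      show J ^ (r + c + 1) * (⊤ : Ideal A) = _
      exact Ideal.mul_top _
    rw [this]
    exact ha
  rw [hc (r + c + 1) (by omega)] at h1
  have h2 : a * f ^ (k + k₁) ∈ J ^ (r + c + 1 - c) •
      (Ideal.span {f ^ (k + k₁)} : Submodule A A) :=
    Submodule.smul_mono le_rfl inf_le_right h1
  obtain ⟨b, hb, hba⟩ := Submodule.mem_smul_span_singleton.mp h2
  have hb' : b ∈ J ^ r := Ideal.pow_le_pow_right (by omega) hb
  have h3 : (a - b) ∈ col (⊥ : Ideal A) (f ^ (k + k₁)) := by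
    rw [mem_col, Ideal.mem_bot, sub_mul, sub_eq_zero]
    rw [smul_eq_mul] at hba
    exact hba.symm
  rw [hk₁ (k + k₁) (by omega), mem_col, Ideal.mem_bot, sub_mul, sub_eq_zero] at h3
  rw [h3]
  exact (J ^ r).mul_mem_right _ hb'

variable {T'' T : Set (PrimeSpectrum A)}

/-- **kernel control** -/
theorem smul_eq_zero_of_resT_eq_zero (hT'' : StableUnderSpecialization T'') (hsub : T'' ⊆ T)
    (hmin : ∀ p ∈ T, p ∉ T'' → ∀ p' : PrimeSpectrum A, p' < p → p' ∉ T)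
    (X' X : Dual.D A) (e : X'⟦(1 : ℤ)⟧ ≅ X) (g : A)
    (hg : ∀ (J : Ideal A), PrimeSpectrum.zeroLocus (J : Set A) ⊆ T →
      ∀ z : HX (PrimeSpectrum.zeroLocus (J : Set A)) X', g • z = 0)
    (y : HX T'' X) (hy : (resT hsub X).hom y = 0) : g • y = 0 := by
  obtain ⟨J₁, hJ₁, β, rfl⟩ := exists_repI X y
  rw [resT_ιI] at hy
  obtain ⟨J₂, hJ₂T, h21, h0⟩ := ιI_eq_zero (hJ₁.trans hsub) β hy
  obtain ⟨f, hfJ₁, hfav⟩ := exists_avoid_minimalPrimes J₂ J₁ T'' hJ₁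
  -- level 1 sequence
  set 𝔠 : Ideal A := col J₂ (f ^ 1) with h𝔠def
  have h𝔠 : ∀ c ∈ 𝔠, c * f ^ 1 ∈ J₂ := fun c hc => hc
  have h𝔠' : ∀ c, c * f ^ 1 ∈ J₂ → c ∈ 𝔠 := fun c hc => hc
  have hS := shortExact_mulQ 𝔠 J₂ (f ^ 1) h𝔠 h𝔠'
  have hJ₃₁ : J₂ ⊔ Ideal.span {f ^ 1} ≤ J₁ := by
    refine sup_le h21 ?_
    rw [Ideal.span_singleton_le_iff_mem, pow_one]
    exact hfJ₁
  set β₃ : sQ (J₂ ⊔ Ideal.span {f ^ 1}) ⟶ X := sqmap hJ₃₁ ≫ β with hβ₃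
  have hβ₃0 : sqmap (le_sup_left : J₂ ≤ J₂ ⊔ Ideal.span {f ^ 1}) ≫ β₃ = 0 := by
    rw [hβ₃, ← Category.assoc, sqmap_comp]
    exact h0
  obtain ⟨γ', hγ'⟩ := Groth.Agent.H2.DualCx.exact_right hS β₃ hβ₃0
  obtain ⟨γ, hγ⟩ := (shiftFunctor (Dual.D A) (1 : ℤ)).map_surjective (γ' ≫ e.inv)
  have hγ'' : γ' = γ⟦(1 : ℤ)⟧' ≫ e.hom := by
    rw [hγ, Category.assoc, e.inv_hom_id, Category.comp_id]
  -- `g` kills the class of `γ`
  have h𝔠V : PrimeSpectrum.zeroLocus (𝔠 : Set A) ⊆ PrimeSpectrum.zeroLocus (J₂ : Set A) :=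
    PrimeSpectrum.zeroLocus_anti_mono (le_col J₂ (f ^ 1))
  have hz := hg J₂ hJ₂T (ιI 𝔠 h𝔠V X' γ)
  rw [← map_smul] at hz
  obtain ⟨𝔡, h𝔡V, h𝔡𝔠, h𝔡0⟩ := ιI_eq_zero h𝔠V _ hz
  have hrad : J₂ ≤ 𝔡.radical := (PrimeSpectrum.zeroLocus_subset_zeroLocus_iff 𝔡 J₂).mp h𝔡V
  obtain ⟨r, hr⟩ := Ideal.exists_pow_le_of_le_radical_of_fg hrad
    ((isNoetherianRing_iff_ideal_fg A).1 inferInstance J₂)
  have hr𝔠 : J₂ ^ r ≤ 𝔠 := hr.trans h𝔡𝔠
  have hr0 : sqmap hr𝔠 ≫ (g • γ) = 0 := by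
    rw [← sqmap_comp hr h𝔡𝔠, Category.assoc, h𝔡0, comp_zero]
  -- Artin–Rees
  obtain ⟨k₁, r'', hr''1, hAR⟩ := exists_artinRees_colon J₂ f r 1
  set 𝔠'' : Ideal A := col (J₂ ^ r'') (f ^ (1 + k₁)) with h𝔠''def
  have h𝔠'' : ∀ c ∈ 𝔠'', c * f ^ (1 + k₁) ∈ J₂ ^ r'' := fun c hc => hc
  have h𝔠''' : ∀ c, c * f ^ (1 + k₁) ∈ J₂ ^ r'' → c ∈ 𝔠'' := fun c hc => hc
  have hS'' := shortExact_mulQ 𝔠'' (J₂ ^ r'') (f ^ (1 + k₁)) h𝔠'' h𝔠'''
  have hpow : J₂ ^ r'' ≤ J₂ := Ideal.pow_le_self (by omega)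
  have hτ₁ : ∀ c ∈ 𝔠'', c * f ^ k₁ ∈ 𝔠 := by
    intro c hc
    rw [h𝔠def, mem_col]
    have : c * f ^ k₁ * f ^ 1 = c * f ^ (1 + k₁) := by rw [pow_add]; ring
    rw [this]
    exact hpow (h𝔠'' c hc)
  have hJ₃'' : J₂ ^ r'' ⊔ Ideal.span {f ^ (1 + k₁)} ≤ J₂ ⊔ Ideal.span {f ^ 1} := by
    refine sup_le (hpow.trans le_sup_left) ?_
    rw [Ideal.span_singleton_le_iff_mem]
    refine Submodule.mem_sup_right ?_
    rw [pow_add]
    exact Ideal.mul_mem_right _ _ (Ideal.subset_span rfl)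
  let φ : Groth.Agent.H2.DualCx.sc (mulQ 𝔠'' (J₂ ^ r'') (f ^ (1 + k₁)) h𝔠'')
      (Submodule.mapQ (J₂ ^ r'') (J₂ ^ r'' ⊔ Ideal.span {f ^ (1 + k₁)}) LinearMap.id le_sup_left)
      (mulQ_exact 𝔠'' (J₂ ^ r'') (f ^ (1 + k₁)) h𝔠'') ⟶
      Groth.Agent.H2.DualCx.sc (mulQ 𝔠 J₂ (f ^ 1) h𝔠)
      (Submodule.mapQ J₂ (J₂ ⊔ Ideal.span {f ^ 1}) LinearMap.id le_sup_left)
      (mulQ_exact 𝔠 J₂ (f ^ 1) h𝔠) :=
    ShortComplex.homMk (ModuleCat.ofHom (mulQ 𝔠'' 𝔠 (f ^ k₁) hτ₁)) (qmap hpow) (qmap hJ₃'')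
      (by
        apply ModuleCat.hom_ext
        apply LinearMap.ext
        intro x
        obtain ⟨a, rfl⟩ := Submodule.Quotient.mk_surjective _ x
        show (Submodule.Quotient.mk (a * f ^ k₁ * f ^ 1) : A ⧸ J₂) =
          Submodule.Quotient.mk (a * f ^ (1 + k₁))
        congr 1
        rw [pow_add]; ring)
      (by
        apply ModuleCat.hom_ext
        apply LinearMap.ext
        intro x
        obtain ⟨a, rfl⟩ := Submodule.Quotient.mk_surjective _ x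
        rfl)
  have hc3 : hS''.singleδ ≫
      ((DerivedCategory.singleFunctor (ModuleCat.{u} A) 0).map
        (ModuleCat.ofHom (mulQ 𝔠'' 𝔠 (f ^ k₁) hτ₁)))⟦(1 : ℤ)⟧' =
      sqmap hJ₃'' ≫ hS.singleδ :=
    (ShortComplex.ShortExact.singleTriangle.map hS'' hS φ).comm₃
  -- `τ₁` factors through `A/J₂^r`
  have hAR' : ∀ c ∈ 𝔠'', c * f ^ k₁ ∈ J₂ ^ r := fun c hc => hAR c (h𝔠'' c hc)
  have hfac : (DerivedCategory.singleFunctor (ModuleCat.{u} A) 0).map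
      (ModuleCat.ofHom (mulQ 𝔠'' 𝔠 (f ^ k₁) hτ₁)) =
      Groth.Agent.H2.DualCx.sg (mulQ 𝔠'' (J₂ ^ r) (f ^ k₁) hAR') ≫ sqmap hr𝔠 := by
    have h1 := mapQ_comp_mulQ 𝔠'' (J₂ ^ r) 𝔠 (f ^ k₁) hAR' hr𝔠
    have h2 := congrArg Groth.Agent.H2.DualCx.sg h1
    rw [Groth.Agent.H2.DualCx.sg_comp] at h2
    exact h2.symm
  have hkey : g • (sqmap hJ₃'' ≫ β₃) = 0 := by
    rw [hγ', ← Category.assoc, ← hc3, Category.assoc, hγ'', ← Category.assoc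
      (((DerivedCategory.singleFunctor (ModuleCat.{u} A) 0).map
        (ModuleCat.ofHom (mulQ 𝔠'' 𝔠 (f ^ k₁) hτ₁)))⟦(1 : ℤ)⟧'), ← Functor.map_comp, hfac,
      Category.assoc]
    rw [← Linear.comp_smul, ← Linear.smul_comp, ← Functor.map_smul, ← Linear.comp_smul,
      ← Linear.comp_smul, hr0, comp_zero, Functor.map_zero, zero_comp, comp_zero]
  have hV'' := zeroLocus_sup_span_pow_subset hT'' hmin J₂ hJ₂T f hfav 1
  have hV''' : PrimeSpectrum.zeroLocus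
      ((J₂ ^ r'' ⊔ Ideal.span {f ^ (1 + k₁)} : Ideal A) : Set A) ⊆ T'' := by
    intro q hq
    apply zeroLocus_sup_span_pow_subset hT'' hmin J₂ hJ₂T f hfav (1 + k₁)
    rw [PrimeSpectrum.mem_zeroLocus, SetLike.coe_subset_coe] at hq ⊢
    refine sup_le ?_ (le_sup_right.trans hq)
    exact q.2.le_of_pow_le (le_sup_left.trans hq)
  have hfin : ιI J₁ hJ₁ X β =
      ιI (J₂ ^ r'' ⊔ Ideal.span {f ^ (1 + k₁)}) hV''' X (sqmap hJ₃'' ≫ β₃) := by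
    rw [hβ₃, ← Category.assoc, sqmap_comp]
    exact (ιI_res hV''' hJ₁ (hJ₃''.trans hJ₃₁) X β).symm
  rw [hfin, ← map_smul, hkey, map_zero]

end Groth.Agent.H2.HT
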