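import Mathlib
import Groth.Agent.H2.HT.KerCtl
import Groth.Agent.H2.HT.Cone
import Groth.Agent.H2.HT.TorsT

/-!
# The core of Faltings' annihilator theorem  (helper2)

`δ` a bounded strictly increasing function on `Spec A`, `T` stable under specialization.

* `kill_of_locKill` : if `𝔍` kills the local pieces `H_q(X)_q` for all `q ∈ T`, then a power of `𝔍`
  kills `H_T(X)`.
* `exists_locKill_of_kill` : conversely (one degree at a time).
* `faltings_core` : the equivalence with the support condition on `Hom(K, ω[j])`, given local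
  duality in annihilator form as a hypothesis.
-/

set_option autoImplicit false
set_option maxHeartbeats 800000
set_option linter.unusedSectionVars false
set_option linter.style.haveILetI false

universe u

open CategoryTheory CategoryTheory.Limits Opposite Pretriangulated DerivedCategory

attribute [local instance] HasDerivedCategory.standard

namespace Groth.Agent.H2.HT

variable {A : Type u} [CommRing A] [IsNoetherianRing A]

/-- the points of `T` of level `≥ m` -/
def Tge (T : Set (PrimeSpectrum A)) (δ : PrimeSpectrum A → ℤ) (m : ℤ) : Set (PrimeSpectrum A) :=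
  {p | p ∈ T ∧ m ≤ δ p}

variable {T : Set (PrimeSpectrum A)} {δ : PrimeSpectrum A → ℤ}

theorem stable_Tge (hT : StableUnderSpecialization T) (hδ : StrictMono δ) (m : ℤ) :
    StableUnderSpecialization (Tge T δ m) := by
  intro p q hpq hp
  refine ⟨hT hpq hp.1, hp.2.trans (hδ.monotone ((PrimeSpectrum.le_iff_specializes p q).mpr hpq))⟩

theorem Tge_subset (m : ℤ) : Tge T δ m ⊆ T := fun _ hp => hp.1

theorem Tge_succ_subset (m : ℤ) : Tge T δ (m + 1) ⊆ Tge T δ m :=
  fun _ hp => ⟨hp.1, by have := hp.2; omega⟩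

theorem Tge_eq_self (lo : ℤ) (hlo : ∀ p, lo ≤ δ p) : Tge T δ lo = T := by
  ext p
  exact ⟨fun h => h.1, fun h => ⟨h, hlo p⟩⟩

theorem Tge_min (hδ : StrictMono δ) (m : ℤ) (p : PrimeSpectrum A) (hp'' : p ∉ Tge T δ (m + 1))
    (hpT : p ∈ T) (p' : PrimeSpectrum A) (h : p' < p) : p' ∉ Tge T δ m := by
  intro hp'
  have h1 := hδ h
  have h2 : ¬ (m + 1 ≤ δ p) := fun h3 => hp'' ⟨hpT, h3⟩
  have h3 := hp'.2
  omega

theorem eq_zero_of_forall_notMem (h : ∀ p : PrimeSpectrum A, p ∉ T) (X : Dual.D A) (x : HX T X) :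
    x = 0 := by
  obtain ⟨J, hJ, α, rfl⟩ := exists_repI X x
  have hJtop : J = ⊤ := by
    rw [← PrimeSpectrum.zeroLocus_empty_iff_eq_top]
    exact Set.eq_empty_of_forall_notMem (fun p hp => h p (hJ hp))
  have := smul_ιI hJ 1 (by rw [hJtop]; exact Submodule.mem_top) α
  rwa [one_smul] at this

/-- descending induction on the level -/
theorem kill_Tge_of_locKill (hδ : StrictMono δ) (hi : ℤ) (hhi : ∀ p, δ p ≤ hi)
    (hT : StableUnderSpecialization T) (X : Dual.D A) (𝔍 : Ideal A)
    (hloc : ∀ q ∈ T, ∀ g ∈ 𝔍, LocKill q.asIdeal g X) :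
    ∀ (n : ℕ) (m : ℤ), hi + 1 - m ≤ n → ∀ x : HX (Tge T δ m) X, ∀ a ∈ 𝔍 ^ n, a • x = 0 := by
  intro n
  induction n with
  | zero =>
    intro m hm x a _
    have h0 : ∀ p : PrimeSpectrum A, p ∉ Tge T δ m := by
      intro p hp
      have := hp.2
      have := hhi p
      push_cast at hm
      omega
    rw [eq_zero_of_forall_notMem h0 X x, smul_zero]
  | succ n ih =>
    intro m hm x a ha
    rw [pow_succ] at ha
    refine Submodule.mul_induction_on ha ?_ ?_
    · intro b hb g hg
      have hloczero : ∀ p ∈ Tge T δ m, p ∉ Tge T δ (m + 1) →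
          ∃ f : A, f ∉ p.asIdeal ∧ f • (g • x) = 0 := by
        intro p hp hp''
        obtain ⟨f, hf, h0⟩ := kill_HX_of_locKill (stable_Tge hT hδ m) p hp
          (Tge_min hδ m p hp'' hp.1) g X (hloc p hp.1 g hg) x
        exact ⟨f, hf, by rw [← mul_smul]; exact h0⟩
      obtain ⟨J, hJ, β, hβ⟩ := exists_rep_of_locally_zero (stable_Tge hT hδ (m + 1))
        (Tge_succ_subset m) (fun p hp hp'' p' h => Tge_min hδ m p hp'' hp.1 p' h) X (g • x) hloczero
      rw [mul_smul, ← hβ]
      exact smul_ιI_of_kill (Tge_succ_subset m) X b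
        (fun y => ih (m + 1) (by push_cast at hm ⊢; omega) y b hb) J hJ β
    · intro a b ha hb
      rw [add_smul, ha, hb, add_zero]

/-- **forward direction**: local annihilation at all points of `T` gives global annihilation -/
theorem kill_of_locKill (hδ : StrictMono δ) (lo hi : ℤ) (hlo : ∀ p, lo ≤ δ p)
    (hhi : ∀ p, δ p ≤ hi) (hT : StableUnderSpecialization T) (X : Dual.D A) (𝔍 : Ideal A)
    (hloc : ∀ q ∈ T, ∀ g ∈ 𝔍, LocKill q.asIdeal g X) :
    ∀ x : HX T X, ∀ a ∈ 𝔍 ^ (hi + 1 - lo).toNat, a • x = 0 := by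
  have h := kill_Tge_of_locKill hδ hi hhi hT X 𝔍 hloc (hi + 1 - lo).toNat lo (by omega)
  rw [Tge_eq_self lo hlo] at h
  exact h

/-- **backward direction, one degree**: if a power of `𝔍` kills `H_{T₁}(X')` for all `T₁ ⊆ T` and
`𝔍` kills `H_T(X)`, `X = X'[1]`, then a power of `𝔍` kills all the local pieces of `X` -/
theorem exists_locKill_of_kill (hδ : StrictMono δ) (lo hi : ℤ) (hlo : ∀ p, lo ≤ δ p)
    (hhi : ∀ p, δ p ≤ hi) (hT : StableUnderSpecialization T) (X' X : Dual.D A)
    (e : X'⟦(1 : ℤ)⟧ ≅ X) (𝔍 : Ideal A) (n' : ℕ)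
    (h' : ∀ T₁ : Set (PrimeSpectrum A), T₁ ⊆ T → StableUnderSpecialization T₁ →
      ∀ g ∈ 𝔍 ^ n', ∀ z : HX T₁ X', g • z = 0)
    (h1 : ∀ g ∈ 𝔍, ∀ x : HX T X, g • x = 0) :
    ∃ n : ℕ, ∀ q ∈ T, ∀ g ∈ 𝔍 ^ n, LocKill q.asIdeal g X := by
  have claim : ∀ (j : ℕ), ∀ g ∈ 𝔍 ^ (1 + j * n'), ∀ y : HX (Tge T δ (lo + j)) X, g • y = 0 := by
    intro j
    induction j with
    | zero =>
      intro g hg
      have hcast : lo + ((0 : ℕ) : ℤ) = lo := by simp
      rw [hcast]
      intro y
      have h2 := h1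
      rw [← Tge_eq_self (T := T) lo hlo] at h2
      have hg' : g ∈ 𝔍 := by simpa using hg
      exact h2 g hg' y
    | succ j ih =>
      intro g hg y
      have hpow : 𝔍 ^ (1 + (j + 1) * n') = 𝔍 ^ (1 + j * n') * 𝔍 ^ n' := by
        rw [← pow_add]; congr 1; ring
      rw [hpow] at hg
      have hcast : lo + ((j + 1 : ℕ) : ℤ) = lo + (j : ℤ) + 1 := by push_cast; ring
      revert y
      rw [hcast]
      intro y
      refine Submodule.mul_induction_on hg ?_ ?_
      · intro b hb g' hg'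
        rw [mul_comm, mul_smul]
        apply smul_eq_zero_of_resT_eq_zero (stable_Tge hT hδ (lo + j + 1))
          (Tge_succ_subset (lo + j))
          (fun p hp hp'' p' h => Tge_min hδ (lo + j) p hp'' hp.1 p' h) X' X e g'
        · intro J hJ z
          exact h' _ (hJ.trans (Tge_subset _))
            (PrimeSpectrum.isClosed_zeroLocus _).stableUnderSpecialization g' hg' z
        · rw [map_smul, ih b hb]
      · intro a b ha hb
        rw [add_smul, ha, hb, add_zero]
  refine ⟨1 + (hi - lo).toNat * n', ?_⟩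
  intro q hq g hg
  set j : ℕ := (δ q - lo).toNat with hj
  have hjδ : lo + (j : ℤ) = δ q := by
    have := hlo q
    omega
  have hjle : j ≤ (hi - lo).toNat := by
    have := hhi q
    omega
  have hg' : g ∈ 𝔍 ^ (1 + j * n') :=
    Ideal.pow_le_pow_right (by nlinarith [Nat.mul_le_mul_right n' hjle]) hg
  have hqm : q ∈ Tge T δ (lo + j) := ⟨hq, by omega⟩
  have hqmin : ∀ p' : PrimeSpectrum A, p' < q → p' ∉ Tge T δ (lo + j) := by
    intro p' h hp'
    have := hδ h
    have := hp'.2
    omega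
  apply locKill_of_kill_HX (stable_Tge hT hδ (lo + j)) q hqm hqmin g X
  intro x
  refine ⟨1, fun h1q => q.2.ne_top ((Ideal.eq_top_iff_one _).mpr h1q), ?_⟩
  rw [one_mul]
  exact claim j g hg' x

end Groth.Agent.H2.HT
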