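import Mathlib
import Groth.Agent.H2.HT.FaltingsCore

/-!
# Faltings' annihilator theorem, assuming local duality in annihilator form  (helper2)
-/

set_option autoImplicit false
set_option maxHeartbeats 800000
set_option linter.unusedSectionVars false
set_option linter.style.haveILetI false

universe u v

open CategoryTheory CategoryTheory.Limits Opposite Pretriangulated DerivedCategory

attribute [local instance] HasDerivedCategory.standard

namespace Groth.Agent.H2.HT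

variable {A : Type u} [CommRing A] [IsNoetherianRing A]

/-- no maps `A/J → K[i]` for `i < a`, `K ∈ D^{≥ a}` -/
theorem hom_sQ_eq_zero_of_isGE (K : Dual.D A) (a i : ℤ) [K.IsGE a] (hi : i < a) (J : Ideal A)
    (α : sQ J ⟶ K⟦i⟧) : α = 0 := by
  haveI : (K⟦i⟧).IsGE (a - i) :=
    (DerivedCategory.TStructure.t (C := ModuleCat.{u} A)).isGE_shift K a i (a - i) (by omega)
  exact (DerivedCategory.TStructure.t (C := ModuleCat.{u} A)).zero_of_isLE_of_isGE α 0 (a - i)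
    (by omega) (inferInstanceAs ((sQ J).IsLE 0)) (inferInstanceAs ((K⟦i⟧).IsGE (a - i)))

theorem locKill_of_isGE (K : Dual.D A) (a i : ℤ) [K.IsGE a] (hi : i < a) (q : Ideal A)
    [hq : q.IsPrime] (g : A) : LocKill q g (K⟦i⟧) := by
  intro k α
  refine ⟨1, fun h => hq.ne_top ((Ideal.eq_top_iff_one _).mpr h), k, le_refl k, ?_⟩
  rw [hom_sQ_eq_zero_of_isGE K a i hi _ α, comp_zero, smul_zero]

section Support

variable {E : Type v} [AddCommGroup E] [Module A E] [Module.Finite A E]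

/-- if `E_p = 0` for all `p ⊆ q` outside `T'`, then `E_q` is killed by the annihilator of the
`T'`-torsion of `E` -/
theorem exists_kill_local_of_support (T' : Set (PrimeSpectrum A))
    (hT' : StableUnderSpecialization T') (𝔍₀ : Ideal A)
    (h𝔍₀ : ∀ a ∈ 𝔍₀, ∀ m ∈ torsT T' E, a • m = 0) (q : PrimeSpectrum A)
    (hsupp : ∀ p : PrimeSpectrum A, p ∉ T' → p ≤ q → p ∉ Module.support A E) (g : A)
    (hg : g ∈ 𝔍₀) : ∃ f : A, f ∉ q.asIdeal ∧ ∀ t : E, (f * g) • t = 0 := by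
  classical
  haveI : IsNoetherian A E := isNoetherian_of_isNoetherianRing_of_finite A E
  have hN0 := torsT_quotient_eq_bot T' E
  have elt : ∀ t : E, ∃ f : A, f ∉ q.asIdeal ∧ f • t ∈ torsT T' E := by
    intro t
    let 𝔟 : Ideal A := (torsT T' E).colon {t}
    have h𝔟 : ∀ r, r ∈ 𝔟 ↔ r • t ∈ torsT T' E := fun r => Submodule.mem_colon_singleton
    by_cases hle : 𝔟 ≤ q.asIdeal
    · exfalso
      obtain ⟨p, hp, hpq⟩ := Ideal.exists_minimalPrimes_le hle
      have hpp : p.IsPrime := hp.1.1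
      let P : PrimeSpectrum A := ⟨p, hpp⟩
      have hPT' : P ∉ T' := by
        intro hPT'
        have hmin : ∀ p' : Ideal A, p'.IsPrime → 𝔟 ≤ p' → p' ≤ p → p' = p :=
          fun p' hp' h1 h2 => le_antisymm h2 (hp.2 ⟨hp', h1⟩ h2)
        obtain ⟨k, f', hf', hkf'⟩ := exists_pow_mul_mem 𝔟 p hmin
        have h1 : (Submodule.Quotient.mk (f' • t) : E ⧸ torsT T' E) ∈
            torsT T' (E ⧸ torsT T' E) := by
          refine ⟨p ^ k, zeroLocus_pow_subset_of_mem hT' P hPT' k, ?_⟩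
          intro c hc
          rw [← Submodule.Quotient.mk_smul, Submodule.Quotient.mk_eq_zero, ← mul_smul]
          exact (h𝔟 _).1 (hkf' c hc)
        rw [hN0, Submodule.mem_bot, Submodule.Quotient.mk_eq_zero] at h1
        exact hf' (hp.1.2 ((h𝔟 f').2 h1))
      have h2 := hsupp P hPT' hpq
      rw [Module.notMem_support_iff'] at h2
      obtain ⟨r, hr, hrt⟩ := h2 t
      apply hr
      apply hp.1.2
      rw [h𝔟, hrt]
      exact Submodule.zero_mem _
    · obtain ⟨f, hf𝔟, hfq⟩ := Set.not_subset.mp hle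
      exact ⟨f, hfq, (h𝔟 f).1 hf𝔟⟩
  obtain ⟨s, hs⟩ := (Module.Finite.fg_top : (⊤ : Submodule A E).FG)
  choose F hFq hF using elt
  refine ⟨∏ t ∈ s, F t, ?_, ?_⟩
  · intro h
    obtain ⟨t, _, htq⟩ := (q.2.prod_mem_iff).mp h
    exact hFq t htq
  · intro t
    have ht : t ∈ Submodule.span A (s : Set E) := hs ▸ Submodule.mem_top
    refine Submodule.span_induction (p := fun t _ => ((∏ t ∈ s, F t) * g) • t = 0) ?_ ?_ ?_ ?_ ht
    · intro t ht
      obtain ⟨d, hd⟩ := Finset.dvd_prod_of_mem F ht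
      have : (∏ t ∈ s, F t) * g = (d * g) * F t := by rw [hd]; ring
      rw [this, mul_smul, mul_smul, h𝔍₀ g hg _ (hF t), smul_zero]
    · exact smul_zero _
    · intro x y _ _ hx hy
      rw [smul_add, hx, hy, add_zero]
    · intro b x _ hx
      rw [smul_comm, hx, smul_zero]

end Support

variable {T : Set (PrimeSpectrum A)} {δ : PrimeSpectrum A → ℤ}

/-- **backward direction, all degrees** -/
theorem exists_locKill_all (hδ : StrictMono δ) (lo hi : ℤ) (hlo : ∀ p, lo ≤ δ p)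
    (hhi : ∀ p, δ p ≤ hi) (hT : StableUnderSpecialization T) (K : Dual.D A) (a₀ : ℤ) [K.IsGE a₀]
    (𝔍 : Ideal A) (s : ℤ) (h1 : ∀ i : ℤ, i ≤ s → ∀ g ∈ 𝔍, ∀ x : HX T (K⟦i⟧), g • x = 0) :
    ∀ i : ℤ, i ≤ s → ∃ n : ℕ, ∀ q ∈ T, ∀ g ∈ 𝔍 ^ n, LocKill q.asIdeal g (K⟦i⟧) := by
  have key : ∀ (j : ℕ) (i : ℤ), i = a₀ - 1 + j → i ≤ s →
      (∃ n : ℕ, ∀ q ∈ T, ∀ g ∈ 𝔍 ^ n, LocKill q.asIdeal g (K⟦i⟧)) ∧
      (∃ n' : ℕ, ∀ T₁ : Set (PrimeSpectrum A), T₁ ⊆ T → StableUnderSpecialization T₁ →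
        ∀ g ∈ 𝔍 ^ n', ∀ z : HX T₁ (K⟦i⟧), g • z = 0) := by
    intro j
    induction j with
    | zero =>
      intro i hij _
      have hi' : i < a₀ := by simp at hij; omega
      refine ⟨⟨0, fun q _ g _ => locKill_of_isGE K a₀ i hi' q.asIdeal g⟩, ⟨0, ?_⟩⟩
      intro T₁ _ _ g _ z
      haveI := subsingleton_HX_of_isGE (T := T₁) K a₀ i hi'
      rw [Subsingleton.elim z 0, smul_zero]
    | succ j ih =>
      intro i hij his
      obtain ⟨-, n', hn'⟩ := ih (i - 1) (by push_cast at hij; omega) (by omega)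
      obtain ⟨n, hn⟩ := exists_locKill_of_kill hδ lo hi hlo hhi hT (K⟦i - 1⟧) (K⟦i⟧)
        (shIso K (i - 1) i (by omega)) 𝔍 n' hn' (h1 i his)
      refine ⟨⟨n, hn⟩, ⟨n * (hi + 1 - lo).toNat, ?_⟩⟩
      intro T₁ hT₁ hT₁s g hg z
      rw [pow_mul] at hg
      exact kill_of_locKill hδ lo hi hlo hhi hT₁s (K⟦i⟧) (𝔍 ^ n)
        (fun q hq g hg => hn q (hT₁ hq) g hg) z g hg
  intro i his
  by_cases hi' : i < a₀
  · exact ⟨0, fun q _ g _ => locKill_of_isGE K a₀ i hi' q.asIdeal g⟩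
  · exact (key (i - (a₀ - 1)).toNat i (by omega) his).1

/-- **Faltings' annihilator theorem**, modulo local duality (hypothesis `hLD`) -/
theorem faltings_core (ω K : Dual.D A) (hδ : StrictMono δ) (lo hi : ℤ) (hlo : ∀ p, lo ≤ δ p)
    (hhi : ∀ p, δ p ≤ hi) (T' : Set (PrimeSpectrum A)) (hT : StableUnderSpecialization T)
    (hT' : StableUnderSpecialization T') (a₀ : ℤ) [K.IsGE a₀]
    (hfin : ∀ j : ℤ, Module.Finite A (K ⟶ ω⟦j⟧))
    (hLD : ∀ (q : PrimeSpectrum A) (i : ℤ) (g : A), LocKill q.asIdeal g (K⟦i⟧) ↔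
      ∃ f : A, f ∉ q.asIdeal ∧ ∀ t : K ⟶ ω⟦δ q - i⟧, (f * g) • t = 0) (s : ℤ) :
    (∃ J : Ideal A, PrimeSpectrum.zeroLocus (J : Set A) ⊆ T' ∧
      ∀ i : ℤ, i ≤ s → ∀ a ∈ J, ∀ x : HX T (K⟦i⟧), a • x = 0) ↔
    (∀ p q : PrimeSpectrum A, p ∉ T' → q ∈ T → p ≤ q → ∀ i : ℤ, i ≤ s →
      p ∉ Module.support A (K ⟶ ω⟦δ q - i⟧)) := by
  classical
  constructor
  · rintro ⟨J, hJT', hJ⟩ p q hpT' hqT hpq i his
    obtain ⟨n, hn⟩ := exists_locKill_all hδ lo hi hlo hhi hT K a₀ J s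
      (fun i hi g hg x => hJ i hi g hg x) i his
    have hJp : ¬ (J ^ n ≤ p.asIdeal) := by
      intro h
      exact hpT' (hJT' (show p ∈ PrimeSpectrum.zeroLocus (J : Set A) from p.2.le_of_pow_le h))
    obtain ⟨g, hgJ, hgp⟩ := Set.not_subset.mp hJp
    obtain ⟨f, hfq, hf⟩ := (hLD q i g).1 (hn q hqT g hgJ)
    rw [Module.notMem_support_iff']
    intro t
    refine ⟨f * g, fun h => (p.2.mem_or_mem h).elim (fun h' => hfq (hpq h')) hgp, hf t⟩
  · intro h2
    have hex : ∀ j : ℤ, ∃ J₀ : Ideal A, PrimeSpectrum.zeroLocus (J₀ : Set A) ⊆ T' ∧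
        ∀ a ∈ J₀, ∀ m ∈ torsT T' (K ⟶ ω⟦j⟧), a • m = 0 := by
      intro j
      haveI := hfin j
      haveI : IsNoetherian A (K ⟶ ω⟦j⟧) := isNoetherian_of_isNoetherianRing_of_finite A _
      exact exists_ideal_kill_torsT T' (K ⟶ ω⟦j⟧)
    choose F hFT' hF using hex
    set 𝔍 : Ideal A := (Finset.Icc (lo - s) (hi - a₀)).inf F with h𝔍
    have h𝔍T' : PrimeSpectrum.zeroLocus (𝔍 : Set A) ⊆ T' :=
      zeroLocus_finset_inf_subset _ F (fun j _ => hFT' j)
    have hloc : ∀ i : ℤ, i ≤ s → ∀ q ∈ T, ∀ g ∈ 𝔍, LocKill q.asIdeal g (K⟦i⟧) := by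
      intro i his q hqT g hg
      by_cases hi' : i < a₀
      · exact locKill_of_isGE K a₀ i hi' q.asIdeal g
      · rw [hLD q i g]
        haveI := hfin (δ q - i)
        have hj : δ q - i ∈ Finset.Icc (lo - s) (hi - a₀) := by
          rw [Finset.mem_Icc]
          have := hlo q
          have := hhi q
          constructor <;> omega
        exact exists_kill_local_of_support T' hT' (F (δ q - i)) (hF (δ q - i)) q
          (fun p hpT' hpq => h2 p q hpT' hqT hpq i his) g ((Finset.inf_le (f := F) hj) hg)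
    refine ⟨𝔍 ^ (hi + 1 - lo).toNat, ?_, ?_⟩
    · intro p hp
      rw [PrimeSpectrum.mem_zeroLocus, SetLike.coe_subset_coe] at hp
      exact h𝔍T' (show p ∈ PrimeSpectrum.zeroLocus (𝔍 : Set A) from p.2.le_of_pow_le hp)
    · intro i his a ha x
      exact kill_of_locKill hδ lo hi hlo hhi hT (K⟦i⟧) 𝔍 (hloc i his) x a ha

end Groth.Agent.H2.HT
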