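import Mathlib
import Groth.Agent.H2.HT.LocKill

/-!
# Elements of `Dual2.HDI A I K i = colim_n Hom(A/I^n, K[i])`  (helper2)
-/

set_option autoImplicit false
set_option maxHeartbeats 400000
set_option linter.unusedSectionVars false
set_option linter.style.haveILetI false

universe u

open CategoryTheory CategoryTheory.Limits Opposite

attribute [local instance] HasDerivedCategory.standard

namespace Groth.Agent.H2.HT

section General

theorem forget_pres_zero (A : Type u) [Ring A] :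
    PreservesFilteredColimitsOfSize.{0, 0} (forget (ModuleCat.{u + 1} A)) := by
  have := forget_pres.{u, u + 1} A
  exact preservesFilteredColimitsOfSize_shrink.{0, u + 1, 0, u + 1} _

variable {A : Type u} [Ring A] {J : Type} [SmallCategory J] [IsFiltered J]

/-- an element dying in a filtered colimit (indexed by a category in `Type`) of big modules dies at
a finite stage -/
theorem colimit_ι_eq_zero₀ (F : J ⥤ ModuleCat.{u + 1} A) {j : J} (y : F.obj j)
    (hy : (colimit.ι F j).hom y = 0) : ∃ (k : J) (f : j ⟶ k), (F.map f).hom y = 0 := by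
  have := forget_pres_zero A
  have h0 : (colimit.ι F j).hom y = (colimit.ι F j).hom (0 : F.obj j) := by
    rw [hy, map_zero]
  obtain ⟨k, f, g, hfg⟩ := (Concrete.colimit_rep_eq_iff_exists (F := F) y (0 : F.obj j)).mp h0
  refine ⟨k, f, ?_⟩
  have h1 : (F.map g).hom (0 : F.obj j) = 0 := map_zero _
  exact hfg.trans h1

end General

variable {A : Type u} [CommRing A] (I : Ideal A) (Y : Dual.D A)

/-- the diagram defining `HDI` -/
noncomputable abbrev FP : ℕᵒᵖᵒᵖ ⥤ ModuleCat.{u + 1} A :=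
  (localCohomology.ringModIdeals (localCohomology.idealPowersDiagram I) ⋙
      DerivedCategory.singleFunctor (ModuleCat.{u} A) 0).op ⋙ (linearYoneda A (Dual.D A)).obj Y

example (K : Dual.D A) (i : ℤ) : Dual2.HDI A I K i = colimit (FP I (K⟦i⟧)) := rfl

/-- the class of `α : A/I^n → Y` -/
noncomputable def ιP (n : ℕ) : (sQ (I ^ n) ⟶ Y) →ₗ[A] (colimit (FP I Y) : ModuleCat.{u + 1} A) :=
  (colimit.ι (FP I Y) (op (op n))).hom

theorem FP_map {n m : ℕ} (h : n ≤ m) (α : sQ (I ^ n) ⟶ Y) :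
    ((FP I Y).map ((homOfLE h).op.op : op (op n) ⟶ op (op m))).hom α =
      sqmap (Ideal.pow_le_pow_right h) ≫ α := rfl

theorem ιP_res {n m : ℕ} (h : n ≤ m) (α : sQ (I ^ n) ⟶ Y) :
    ιP I Y m (sqmap (Ideal.pow_le_pow_right h) ≫ α) = ιP I Y n α := by
  have h1 := congrArg (fun g => g.hom α)
    (colimit.w (FP I Y) ((homOfLE h).op.op : op (op n) ⟶ op (op m)))
  exact h1

theorem exists_repP (x : (colimit (FP I Y) : ModuleCat.{u + 1} A)) :
    ∃ (n : ℕ) (α : sQ (I ^ n) ⟶ Y), ιP I Y n α = x := by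
  obtain ⟨j, α, h⟩ := Groth.Agent.H9.RG.colimit_exists_rep' (FP I Y) x
  exact ⟨j.unop.unop, α, h⟩

theorem ιP_eq_zero {n : ℕ} (α : sQ (I ^ n) ⟶ Y) (h : ιP I Y n α = 0) :
    ∃ (m : ℕ) (hm : n ≤ m), sqmap (Ideal.pow_le_pow_right hm) ≫ α = 0 := by
  obtain ⟨k, f, hf⟩ := colimit_ι_eq_zero₀ (FP I Y) (j := op (op n)) α h
  have hle : n ≤ k.unop.unop := leOfHom f.unop.unop
  refine ⟨k.unop.unop, hle, ?_⟩
  have : f = ((homOfLE hle).op.op : op (op n) ⟶ op (op k.unop.unop)) := Subsingleton.elim _ _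
  rw [this] at hf
  exact hf

variable {I Y}

/-- `LocKill` in terms of `HDI` -/
theorem locKill_iff_HDI (q : Ideal A) (g : A) (K : Dual.D A) (i : ℤ) :
    LocKill q g (K⟦i⟧) ↔
      ∀ y : Dual2.HDI A q K i, ∃ f : A, f ∉ q ∧ (f * g) • y = 0 := by
  constructor
  · intro h y
    obtain ⟨k, α, rfl⟩ := exists_repP q (K⟦i⟧) y
    obtain ⟨f, hf, k', hk, h0⟩ := h k α
    refine ⟨f, hf, ?_⟩
    rw [← ιP_res q (K⟦i⟧) hk α, ← map_smul, h0, map_zero]
  · intro h k α
    obtain ⟨f, hf, h0⟩ := h (ιP q (K⟦i⟧) k α)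
    rw [← map_smul] at h0
    obtain ⟨m, hm, h1⟩ := ιP_eq_zero q (K⟦i⟧) _ h0
    refine ⟨f, hf, m, hm, ?_⟩
    rw [← Linear.comp_smul]
    exact h1

/-- annihilation of `H_{V(I)}` gives annihilation of `HDI` -/
theorem smul_HDI_eq_zero_of_HX [IsNoetherianRing A] (I : Ideal A) (g : A) (K : Dual.D A) (i : ℤ)
    (h : ∀ x : HX (PrimeSpectrum.zeroLocus (I : Set A)) (K⟦i⟧), g • x = 0)
    (y : Dual2.HDI A I K i) : g • y = 0 := by
  obtain ⟨n, α, rfl⟩ := exists_repP I (K⟦i⟧) y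
  have hn : PrimeSpectrum.zeroLocus ((I ^ n : Ideal A) : Set A) ⊆
      PrimeSpectrum.zeroLocus (I : Set A) := by
    intro p hp
    rw [PrimeSpectrum.mem_zeroLocus, SetLike.coe_subset_coe] at hp ⊢
    exact p.2.le_of_pow_le hp
  have h0 := h (ιI (I ^ n) hn (K⟦i⟧) α)
  rw [← map_smul] at h0
  obtain ⟨J', hJ', hJ'n, h1⟩ := ιI_eq_zero hn _ h0
  have hrad : I ≤ J'.radical := (PrimeSpectrum.zeroLocus_subset_zeroLocus_iff J' I).mp hJ'
  obtain ⟨m, hm⟩ := Ideal.exists_pow_le_of_le_radical_of_fg hrad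
    ((isNoetherianRing_iff_ideal_fg A).1 inferInstance I)
  have hm' : I ^ (m + n) ≤ J' := (Ideal.pow_le_pow_right (Nat.le_add_right m n)).trans hm
  rw [← ιP_res I (K⟦i⟧) (Nat.le_add_left n m) α, ← map_smul]
  have h2 : sqmap (Ideal.pow_le_pow_right (Nat.le_add_left n m)) = sqmap hm' ≫ sqmap hJ'n :=
    (sqmap_comp hm' hJ'n).symm
  rw [← Linear.comp_smul, h2, Category.assoc, h1, comp_zero, map_zero]

end Groth.Agent.H2.HT
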