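import Mathlib

/-!
# Annihilators of `B ⊗_A N` for `B = A_q`; `extendScalars` in a bigger universe  (helper2)
-/

set_option autoImplicit false
set_option linter.unusedSectionVars false
set_option linter.style.haveILetI false

universe u v

open CategoryTheory TensorProduct

namespace Groth.Agent.H2.HT

section Bridge

variable {A B : Type u} [CommRing A] [CommRing B] [Algebra A B]

/-- `B` with its restricted `A`-module structure is `B`. -/
noncomputable def restrictSelfEquiv' :
    ((ModuleCat.restrictScalars (algebraMap A B)).obj (ModuleCat.of B B)) ≃ₗ[A] B where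
  toFun x := x
  invFun x := x
  map_add' _ _ := rfl
  map_smul' a x := by
    rw [ModuleCat.restrictScalars.smul_def, RingHom.id_apply]
    show algebraMap A B a * (show B from x) = a • (show B from x)
    rw [Algebra.smul_def]
  left_inv _ := rfl
  right_inv _ := rfl

/-- the `A`-linear bridge (universe polymorphic in the module) -/
noncomputable def bridgeA' (N : ModuleCat.{v} A) :
    TensorProduct A ((ModuleCat.restrictScalars (algebraMap A B)).obj (ModuleCat.of B B)) N ≃ₗ[A]
      B ⊗[A] N :=
  TensorProduct.congr restrictSelfEquiv' (LinearEquiv.refl A N)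

theorem bridgeA'_tmul (N : ModuleCat.{v} A)
    (s : (ModuleCat.restrictScalars (algebraMap A B)).obj (ModuleCat.of B B)) (n : N) :
    bridgeA' (B := B) N (s ⊗ₜ n) = (show B from s) ⊗ₜ n := rfl

theorem bridgeA'_smul (N : ModuleCat.{v} A) (b : B)
    (t : ((ModuleCat.extendScalars.{u, u, v} (algebraMap A B)).obj N)) :
    bridgeA' (B := B) N (b • t) = b • bridgeA' (B := B) N t := by
  refine TensorProduct.induction_on
    (motive := fun t => bridgeA' (B := B) N
      (HSMul.hSMul (α := B)
        (β := ↑((ModuleCat.extendScalars.{u, u, v} (algebraMap A B)).obj N)) b t) =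
        b • bridgeA' (B := B) N t) t ?_ ?_ ?_
  · have h0 : (HSMul.hSMul (α := B)
        (β := ↑((ModuleCat.extendScalars.{u, u, v} (algebraMap A B)).obj N)) b 0) = 0 :=
      smul_zero b
    rw [map_zero, smul_zero]
    exact (congrArg _ h0).trans (map_zero _)
  · intro s n
    rw [bridgeA'_tmul, TensorProduct.smul_tmul']
    exact bridgeA'_tmul N _ n
  · intro x y hx hy
    have h0 : (HSMul.hSMul (α := B)
        (β := ↑((ModuleCat.extendScalars.{u, u, v} (algebraMap A B)).obj N)) b (x + y)) =
        HSMul.hSMul (α := B)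
          (β := ↑((ModuleCat.extendScalars.{u, u, v} (algebraMap A B)).obj N)) b x +
        HSMul.hSMul (α := B)
          (β := ↑((ModuleCat.extendScalars.{u, u, v} (algebraMap A B)).obj N)) b y :=
      smul_add b _ _
    rw [map_add, smul_add, ← hx, ← hy, ← map_add]
    exact congrArg _ h0

/-- the bridge between `extendScalars` and the standard base change, any universe -/
noncomputable def bridge' (N : ModuleCat.{v} A) :
    ((ModuleCat.extendScalars.{u, u, v} (algebraMap A B)).obj N) ≃ₗ[B] B ⊗[A] N :=
  { (bridgeA' (B := B) N).toAddEquiv with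
    map_smul' := bridgeA'_smul N }

end Bridge

section Loc

variable {A : Type u} [CommRing A] (q : Ideal A) [q.IsPrime]
  (N : Type v) [AddCommGroup N] [Module A N]

/-- `g` kills `A_q ⊗ N` iff it kills `N` locally at `q` -/
theorem smul_tensor_eq_zero_iff (g : A) :
    (∀ z : Localization.AtPrime q ⊗[A] N, algebraMap A (Localization.AtPrime q) g • z = 0) ↔
      ∀ y : N, ∃ f : A, f ∉ q ∧ (f * g) • y = 0 := by
  let φ : N →ₗ[A] Localization.AtPrime q ⊗[A] N :=
    TensorProduct.mk A (Localization.AtPrime q) N 1
  haveI hloc : IsLocalizedModule q.primeCompl φ :=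
    (isLocalizedModule_iff_isBaseChange q.primeCompl (Localization.AtPrime q) φ).mpr
      (TensorProduct.isBaseChange A N (Localization.AtPrime q))
  constructor
  · intro h y
    have h1 := h (φ y)
    rw [algebraMap_smul, ← map_smul] at h1
    obtain ⟨c, hc⟩ := (IsLocalizedModule.eq_zero_iff q.primeCompl φ).mp h1
    refine ⟨c.1, c.2, ?_⟩
    rw [mul_smul]
    exact hc
  · intro h z
    obtain ⟨⟨y, s⟩, hs⟩ := IsLocalizedModule.surj q.primeCompl φ z
    obtain ⟨f, hf, hfy⟩ := h y
    have h1 : φ (g • y) = 0 :=
      (IsLocalizedModule.eq_zero_iff q.primeCompl φ).mpr ⟨⟨f, hf⟩, by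
        show f • g • y = 0
        rw [← mul_smul]; exact hfy⟩
    have h2 : s • (algebraMap A (Localization.AtPrime q) g • z) = 0 := by
      rw [algebraMap_smul, smul_comm, hs, ← map_smul]
      exact h1
    have hbij := (Module.End.isUnit_iff _).mp (IsLocalizedModule.map_units φ s)
    apply hbij.1
    rw [map_zero, Module.algebraMap_end_apply]
    exact h2

/-- for a finite module the local annihilation is uniform -/
theorem exists_uniform_of_finite [Module.Finite A N] (g : A)
    (h : ∀ y : N, ∃ f : A, f ∉ q ∧ (f * g) • y = 0) :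
    ∃ f : A, f ∉ q ∧ ∀ y : N, (f * g) • y = 0 := by
  classical
  obtain ⟨s, hs⟩ := (Module.Finite.fg_top : (⊤ : Submodule A N).FG)
  choose F hFq hF using h
  refine ⟨∏ t ∈ s, F t, ?_, ?_⟩
  · intro h
    obtain ⟨t, _, htq⟩ := (Ideal.IsPrime.prod_mem_iff (hp := inferInstance)).mp h
    exact hFq t htq
  · intro y
    have hy : y ∈ Submodule.span A (s : Set N) := hs ▸ Submodule.mem_top
    refine Submodule.span_induction (p := fun y _ => ((∏ t ∈ s, F t) * g) • y = 0) ?_ ?_ ?_ ?_ hy
    · intro t ht
      obtain ⟨d, hd⟩ := Finset.dvd_prod_of_mem F ht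
      have : (∏ t ∈ s, F t) * g = d * (F t * g) := by rw [hd]; ring
      rw [this, mul_smul, hF t, smul_zero]
    · exact smul_zero _
    · intro x y _ _ hx hy
      rw [smul_add, hx, hy, add_zero]
    · intro b x _ hx
      rw [smul_comm, hx, smul_zero]

end Loc

end Groth.Agent.H2.HT
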