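import Mathlib
import Groth.Agent.H2.HT.HDIElem
import Groth.Agent.H2.HT.LocTensor
import Groth.Agent.H2.DualCx.PLocalDim
import Groth.Agent.H9.LD.VanishDual
import Groth.Agent.H9.RG.FlatBC2
import Groth.Agent.H9.RG.HDI3
import Groth.Agent.H26.FlatBCDual2
import Groth.Agent.H28.DualShift
import Groth.Agent.H35.LTensorRing

/-!
# Local duality at a prime of a Noetherian ring with a dualizing complex, annihilator form (helper2)
-/

set_option autoImplicit false
set_option maxHeartbeats 800000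
set_option linter.unusedSectionVars false
set_option linter.style.haveILetI false

universe u v

open CategoryTheory CategoryTheory.Limits Opposite Pretriangulated DerivedCategory TensorProduct
  IsLocalRing

attribute [local instance] HasDerivedCategory.standard

namespace Groth.Agent.H2.HT

theorem kill_iff_of_equiv {R : Type*} [CommRing R] {M M' : Type*} [AddCommGroup M] [Module R M]
    [AddCommGroup M'] [Module R M'] (e : M ≃ₗ[R] M') (b : R) :
    (∀ x : M, b • x = 0) ↔ (∀ x' : M', b • x' = 0) := by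
  constructor
  · intro h x'
    have h1 : b • x' = e (b • e.symm x') := by rw [map_smul, e.apply_symm_apply]
    rw [h1, h, map_zero]
  · intro h x
    have h1 : b • x = e.symm (b • e x) := by rw [map_smul, e.symm_apply_apply]
    rw [h1, h, map_zero]

section Local

variable {B : Type u} [CommRing B] [IsLocalRing B] [IsNoetherianRing B]

/-- **local duality over a local ring, annihilator form** -/
theorem annihilator_hom_eq_HDI (ω' : Dual.D B) (hω' : Dual.IsDualizing B ω')
    (hn : Dual.IsNormalized B ω') (K' : Dual.D B)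
    (hK : ∀ n : ℤ, Module.Finite B (Dual.HD B K' n))
    (hbd : ∃ c d : ℤ, ∀ i : ℤ, (i < c ∨ d < i) → Subsingleton (Dual.HD B K' i))
    (n m : ℤ) (h : n + m = 0) :
    Module.annihilator B (K' ⟶ ω'⟦n⟧) =
      Module.annihilator B (Dual2.HDI B (maximalIdeal B) K' m) := by
  haveI := Groth.Agent.H9.RG.hasRgammaI (maximalIdeal B)
  obtain ⟨E, _, _, f, hf⟩ := Groth.Agent.H2.exists_isInjectiveHull (R := B) (ResidueField B)
  obtain ⟨a, b, hab⟩ := hω'.finite_injective_dimension
  have hfin : ∀ j : ℤ, Module.Finite B (K' ⟶ ω'⟦j⟧) := fun j =>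
    Groth.Agent.H9.LD.finite_hom_of_bounded ω' a (fun M' _ _ i hi => hab M' i (Or.inl hi))
      hω'.finite_cohomology K' hK hbd j
  obtain ⟨e⟩ := Groth.Agent.H9.LD.nonempty_completion_hom_equiv_dual ω' hω' hn E f hf K' hfin n m h
  obtain ⟨e'⟩ := Groth.Agent.H9.RG.nonempty_hd_equiv_hdi (maximalIdeal B) m K'
  haveI := hfin n
  rw [← Groth.Agent.H9.LD.annihilator_adicCompletion (K' ⟶ ω'⟦n⟧), e.annihilator_eq,
    Groth.Agent.H9.LD.annihilator_dual f hf, e'.annihilator_eq]

end Local

section Prime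

open Groth.Agent.H26.FlatBCHom Groth.Agent.H26.FlatBCDual Groth.Agent.H2.DualCx

attribute [local instance] homModuleA

variable {A : Type u} [CommRing A] [IsNoetherianRing A] {ω : Dual.D A}
  (hω : Dual.IsDualizing A ω) (q : PrimeSpectrum A)

/-- flat base change of `Hom` to `A_q` and annihilators -/
theorem kill_LB_hom_iff (X Y : Dual.D A) (n : ℤ)
    (hBC : BC (B := Localization.AtPrime q.asIdeal) X (Y⟦n⟧)) (g : A) :
    (∀ t : (LB A (Localization.AtPrime q.asIdeal)).obj X ⟶
        ((LB A (Localization.AtPrime q.asIdeal)).obj Y)⟦n⟧,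
      algebraMap A (Localization.AtPrime q.asIdeal) g • t = 0) ↔
    (∀ t : X ⟶ Y⟦n⟧, ∃ f : A, f ∉ q.asIdeal ∧ (f * g) • t = 0) := by
  rw [← smul_tensor_eq_zero_iff q.asIdeal (X ⟶ Y⟦n⟧) g]
  let e1 : (Localization.AtPrime q.asIdeal ⊗[A] (X ⟶ Y⟦n⟧)) ≃ₗ[Localization.AtPrime q.asIdeal]
      ((LB A (Localization.AtPrime q.asIdeal)).obj X ⟶
        (LB A (Localization.AtPrime q.asIdeal)).obj (Y⟦n⟧)) :=
    LinearEquiv.ofBijective (theta X (Y⟦n⟧)) hBC
  let e2 : ((LB A (Localization.AtPrime q.asIdeal)).obj X ⟶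
        (LB A (Localization.AtPrime q.asIdeal)).obj (Y⟦n⟧)) ≃ₗ[Localization.AtPrime q.asIdeal]
      ((LB A (Localization.AtPrime q.asIdeal)).obj X ⟶
        ((LB A (Localization.AtPrime q.asIdeal)).obj Y)⟦n⟧) :=
    Linear.homCongr (Localization.AtPrime q.asIdeal) (Iso.refl _)
      (((LB A (Localization.AtPrime q.asIdeal)).commShiftIso n).app Y)
  exact (kill_iff_of_equiv (e1.trans e2) _).symm

/-- `HDI` and base change to `A_q`: annihilators -/
theorem kill_HDI_LB_iff (K : Dual.D A) (i : ℤ) (g : A) :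
    (∀ y : Dual2.HDI (Localization.AtPrime q.asIdeal)
        (maximalIdeal (Localization.AtPrime q.asIdeal))
        ((LB A (Localization.AtPrime q.asIdeal)).obj K) i,
      algebraMap A (Localization.AtPrime q.asIdeal) g • y = 0) ↔
    (∀ y : Dual2.HDI A q.asIdeal K i, ∃ f : A, f ∉ q.asIdeal ∧ (f * g) • y = 0) := by
  haveI : IsNoetherianRing (Localization.AtPrime q.asIdeal) :=
    IsLocalization.isNoetherianRing q.asIdeal.primeCompl _ inferInstance
  haveI := Groth.Agent.H35.LT.hasLBaseChange (algebraMap A (Localization.AtPrime q.asIdeal))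
  obtain ⟨e1⟩ := Groth.Agent.H9.RG.nonempty_hdi_baseChange_iso
    (B := Localization.AtPrime q.asIdeal) q.asIdeal K i
  obtain ⟨e2⟩ := Groth.Agent.H9.RG.nonempty_hdi_iso_of_iso
    (q.asIdeal.map (algebraMap A (Localization.AtPrime q.asIdeal)))
    ((lbcIso (A := A) (B := Localization.AtPrime q.asIdeal)).app K) i
  have hI : q.asIdeal.map (algebraMap A (Localization.AtPrime q.asIdeal)) =
      maximalIdeal (Localization.AtPrime q.asIdeal) :=
    Localization.AtPrime.map_eq_maximalIdeal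
  rw [hI] at e1 e2
  rw [← smul_tensor_eq_zero_iff q.asIdeal (Dual2.HDI A q.asIdeal K i) g]
  exact kill_iff_of_equiv (e2.symm.toLinearEquiv.trans (e1.toLinearEquiv.trans
    (bridge' (B := Localization.AtPrime q.asIdeal) (Dual2.HDI A q.asIdeal K i)))) _

include hω in
theorem isDualizing_LB_shift :
    Dual.IsDualizing (Localization.AtPrime q.asIdeal)
      ((LB A (Localization.AtPrime q.asIdeal)).obj (ω⟦topDeg hω q⟧)) := by
  haveI : IsNoetherianRing (Localization.AtPrime q.asIdeal) :=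
    IsLocalization.isNoetherianRing q.asIdeal.primeCompl _ inferInstance
  exact isDualizing_LB_localization q.asIdeal.primeCompl _
    (Groth.Agent.H28.DualShift.isDualizing_shift ω hω _)

/-- the residue field of `A_q` is the base change of `A/q` -/
noncomputable def residueIso :
    (LB A (Localization.AtPrime q.asIdeal)).obj (Dual.inD A (A ⧸ q.asIdeal)) ≅
      Dual.inD (Localization.AtPrime q.asIdeal) (ResidueField (Localization.AtPrime q.asIdeal)) :=
  eps (ModuleCat.of A (A ⧸ q.asIdeal)) ≪≫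
    (DerivedCategory.singleFunctor (ModuleCat.{u} (Localization.AtPrime q.asIdeal)) 0).mapIso
      (F0QuotIso (B := Localization.AtPrime q.asIdeal) q.asIdeal ≪≫
        (Submodule.quotEquivOfEq _ _
          (Localization.AtPrime.map_eq_maximalIdeal (I := q.asIdeal))).toModuleIso)

theorem isNormalized_LB_shift :
    Dual.IsNormalized (Localization.AtPrime q.asIdeal)
      ((LB A (Localization.AtPrime q.asIdeal)).obj (ω⟦topDeg hω q⟧)) := by
  intro j hj
  obtain ⟨a, b, hGE, hLE, -⟩ := exists_bounds ω hω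
  have hGE' : (ω⟦topDeg hω q⟧).IsGE (a - topDeg hω q) :=
    (DerivedCategory.TStructure.t (C := ModuleCat.{u} A)).isGE_shift ω a _ _ (by omega)
  have hLE' : (ω⟦topDeg hω q⟧).IsLE (b - topDeg hω q) :=
    (DerivedCategory.TStructure.t (C := ModuleCat.{u} A)).isLE_shift ω b _ _ (by omega)
  have hBC : BC (B := Localization.AtPrime q.asIdeal) (Dual.inD A (A ⧸ q.asIdeal))
      ((ω⟦topDeg hω q⟧)⟦j⟧) :=
    BC_single_of_bounded (ModuleCat.of A (A ⧸ q.asIdeal)) (ω⟦topDeg hω q⟧)
      (a - topDeg hω q) (b - topDeg hω q) hGE' hLE' j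
  have hloc : ∀ t : Dual.inD A (A ⧸ q.asIdeal) ⟶ (ω⟦topDeg hω q⟧)⟦j⟧,
      ∃ f : A, f ∉ q.asIdeal ∧ (f * 1) • t = 0 := by
    have hsupp : q ∉ Module.support A (T (ω⟦topDeg hω q⟧) j (A ⧸ q.asIdeal)) := by
      rw [(TShiftEquiv ω (topDeg hω q) j (A ⧸ q.asIdeal)).support_eq,
        mem_support_T_quot_self_iff' hω q]
      omega
    rw [Module.notMem_support_iff'] at hsupp
    intro t
    obtain ⟨r, hr, hrt⟩ := hsupp t
    exact ⟨r, hr, by rw [mul_one]; exact hrt⟩
  have h1 := (kill_LB_hom_iff q _ _ j hBC 1).mpr hloc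
  refine ⟨fun x y => ?_⟩
  have key : ∀ x : Dual.inD (Localization.AtPrime q.asIdeal)
      (ResidueField (Localization.AtPrime q.asIdeal)) ⟶
      ((LB A (Localization.AtPrime q.asIdeal)).obj (ω⟦topDeg hω q⟧))⟦j⟧, x = 0 := by
    intro x
    have h2 := h1 ((residueIso q).hom ≫ x)
    rw [map_one, one_smul] at h2
    exact (cancel_epi (residueIso q).hom).mp (h2.trans comp_zero.symm)
  rw [key x, key y]

include hω in
/-- **local duality at a prime, annihilator form** -/
theorem ldann (K : Dual.D A) (a b : ℤ) (hGE : K.IsGE a) (hLE : K.IsLE b)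
    (hK : ∀ i : ℤ, Module.Finite A (Dual.HD A K i)) (i : ℤ) (g : A) :
    LocKill q.asIdeal g (K⟦i⟧) ↔
      ∃ f : A, f ∉ q.asIdeal ∧ ∀ t : K ⟶ ω⟦topDeg hω q - i⟧, (f * g) • t = 0 := by
  haveI : IsNoetherianRing (Localization.AtPrime q.asIdeal) :=
    IsLocalization.isNoetherianRing q.asIdeal.primeCompl _ inferInstance
  have hωB := isDualizing_LB_shift hω q
  have hnB := isNormalized_LB_shift hω q
  have hωW : Dual.IsDualizing A (ω⟦topDeg hω q⟧) :=
    Groth.Agent.H28.DualShift.isDualizing_shift ω hω _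
  have hvan : ∀ j : ℤ, (j < a ∨ b < j) → Subsingleton (Dual.HD A K j) := by
    intro j hj
    rcases hj with hj | hj
    · exact ModuleCat.subsingleton_of_isZero ((DerivedCategory.isGE_iff K a).mp hGE j hj)
    · exact ModuleCat.subsingleton_of_isZero ((DerivedCategory.isLE_iff K b).mp hLE j hj)
  have hK' : ∀ n : ℤ, Module.Finite (Localization.AtPrime q.asIdeal)
      (Dual.HD (Localization.AtPrime q.asIdeal)
        ((LB A (Localization.AtPrime q.asIdeal)).obj K) n) :=
    fun n => finite_HD_LB K n (hK n)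
  have hbd' : ∃ c d : ℤ, ∀ j : ℤ, (j < c ∨ d < j) →
      Subsingleton (Dual.HD (Localization.AtPrime q.asIdeal)
        ((LB A (Localization.AtPrime q.asIdeal)).obj K) j) :=
    ⟨a, b, fun j hj => subsingleton_HD_LB K j (hvan j hj)⟩
  have hann := annihilator_hom_eq_HDI
    ((LB A (Localization.AtPrime q.asIdeal)).obj (ω⟦topDeg hω q⟧)) hωB hnB
    ((LB A (Localization.AtPrime q.asIdeal)).obj K) hK' hbd' (-i) i (by omega)
  obtain ⟨c, d, hWc, hWd, hWab⟩ := exists_bounds (ω⟦topDeg hω q⟧) hωW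
  have hBC : BC (B := Localization.AtPrime q.asIdeal) K ((ω⟦topDeg hω q⟧)⟦-i⟧) :=
    BC_of_bounded K (ω⟦topDeg hω q⟧) a b c d hGE hLE hK hWc hWd (-i)
  haveI hfinHom : Module.Finite A (K ⟶ (ω⟦topDeg hω q⟧)⟦-i⟧) :=
    Groth.Agent.H9.LD.finite_hom_of_bounded (ω⟦topDeg hω q⟧) c
      (fun M' _ _ j hj => hWab M' j (Or.inl hj)) hωW.finite_cohomology K hK ⟨a, b, hvan⟩ (-i)
  let eS : (K ⟶ (ω⟦topDeg hω q⟧)⟦-i⟧) ≃ₗ[A] (K ⟶ ω⟦topDeg hω q - i⟧) :=
    Linear.homCongr A (Iso.refl _)
      ((shiftFunctorAdd' (Dual.D A) (topDeg hω q) (-i) (topDeg hω q - i) (by omega)).app ω).symm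
  rw [locKill_iff_HDI, ← kill_HDI_LB_iff q K i g]
  have h1 : (∀ y : Dual2.HDI (Localization.AtPrime q.asIdeal)
        (maximalIdeal (Localization.AtPrime q.asIdeal))
        ((LB A (Localization.AtPrime q.asIdeal)).obj K) i,
      algebraMap A (Localization.AtPrime q.asIdeal) g • y = 0) ↔
      (∀ t : (LB A (Localization.AtPrime q.asIdeal)).obj K ⟶
        ((LB A (Localization.AtPrime q.asIdeal)).obj (ω⟦topDeg hω q⟧))⟦-i⟧,
      algebraMap A (Localization.AtPrime q.asIdeal) g • t = 0) := by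
    rw [← Module.mem_annihilator, ← Module.mem_annihilator, hann]
  rw [h1, kill_LB_hom_iff q K (ω⟦topDeg hω q⟧) (-i) hBC g]
  constructor
  · intro h
    obtain ⟨f, hf, hft⟩ := exists_uniform_of_finite q.asIdeal (K ⟶ (ω⟦topDeg hω q⟧)⟦-i⟧) g h
    refine ⟨f, hf, fun t => ?_⟩
    have h2 : (f * g) • t = eS ((f * g) • eS.symm t) := by
      rw [map_smul, LinearEquiv.apply_symm_apply]
    rw [h2, hft, map_zero]
  · rintro ⟨f, hf, hft⟩ t
    refine ⟨f, hf, ?_⟩
    have h2 : (f * g) • t = eS.symm ((f * g) • eS t) := by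
      rw [map_smul, LinearEquiv.symm_apply_apply]
    rw [h2, hft, map_zero]

end Prime

end Groth.Agent.H2.HT
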