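import Mathlib
import Groth.Agent.H2.HT.FaltingsCore2
import Groth.Agent.H2.HT.PrimeLD
import Groth.Agent.H9.DCF.Bounded

/-!
# Transfer along the truncation `τ≤N K → K`  (helper2)

For `i ≤ N` the map `(τ≤N K)[i] → K[i]` induces bijections on `Hom(Y, -)` for `Y ∈ D^{≤0}`, hence on
`H_T` and on the local annihilator condition `LocKill`.
-/

set_option autoImplicit false
set_option maxHeartbeats 800000
set_option linter.unusedSectionVars false
set_option linter.style.haveILetI false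

universe u v

open CategoryTheory CategoryTheory.Limits Opposite Pretriangulated DerivedCategory

attribute [local instance] HasDerivedCategory.standard

namespace Groth.Agent.H2.HT

open Groth.Agent.H9.LD (tS)

variable {A : Type u} [CommRing A]

/-- `τ≤N K` -/
noncomputable abbrev tr (N : ℤ) (K : Dual.D A) : Dual.D A := ((tS A).truncLE N).obj K

/-- `τ≤N K → K` -/
noncomputable abbrev trι (N : ℤ) (K : Dual.D A) : tr N K ⟶ K := ((tS A).truncLEι N).app K

instance isLE_tr (N : ℤ) (K : Dual.D A) : (tr N K).IsLE N :=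
  inferInstanceAs ((tS A).IsLE (((tS A).truncLE N).obj K) N)

theorem isGE_tr (N : ℤ) (K : Dual.D A) (a : ℤ) [K.IsGE a] : (tr N K).IsGE a := by
  haveI : (tS A).IsGE K a := ‹K.IsGE a›
  exact inferInstanceAs ((tS A).IsGE (((tS A).truncLE N).obj K) a)

theorem bijective_comp_trι (K : Dual.D A) (N i : ℤ) (hi : i ≤ N) (Y : Dual.D A) [Y.IsLE 0] :
    Function.Bijective (fun α : Y ⟶ (tr N K)⟦i⟧ => α ≫ (trι N K)⟦i⟧') := by
  let X : Dual.D A := Y⟦-i⟧
  haveI hX : X.IsLE N := by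
    haveI : (tS A).IsLE Y 0 := ‹Y.IsLE 0›
    haveI : (tS A).IsLE X i := (tS A).isLE_shift Y 0 (-i) i (by omega)
    exact (tS A).isLE_of_le X i N hi
  haveI hX' : (tS A).IsLE X N := hX
  let e : X⟦i⟧ ≅ Y := (shiftFunctorCompIsoId (Dual.D A) (-i) i (by omega)).app Y
  constructor
  · intro α₁ α₂ h
    dsimp only at h
    obtain ⟨γ₁, h₁⟩ := (shiftFunctor (Dual.D A) i).map_surjective (e.hom ≫ α₁)
    obtain ⟨γ₂, h₂⟩ := (shiftFunctor (Dual.D A) i).map_surjective (e.hom ≫ α₂)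
    have h3 : (shiftFunctor (Dual.D A) i).map (γ₁ ≫ trι N K) =
        (shiftFunctor (Dual.D A) i).map (γ₂ ≫ trι N K) := by
      rw [Functor.map_comp, Functor.map_comp, h₁, h₂, Category.assoc, Category.assoc, h]
    have h4 : γ₁ ≫ trι N K = γ₂ ≫ trι N K := (shiftFunctor (Dual.D A) i).map_injective h3
    have h5 : γ₁ = γ₂ := (tS A).to_truncLE_obj_ext h4
    have h6 : e.hom ≫ α₁ = e.hom ≫ α₂ := by rw [← h₁, ← h₂, h5]
    exact (cancel_epi e.hom).1 h6
  · intro β
    obtain ⟨γ, hγ⟩ := (shiftFunctor (Dual.D A) i).map_surjective (e.hom ≫ β)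
    refine ⟨e.inv ≫ ((tS A).liftTruncLE γ N)⟦i⟧', ?_⟩
    dsimp only
    rw [Category.assoc, ← Functor.map_comp, (tS A).liftTruncLE_ι γ N, hγ, Iso.inv_hom_id_assoc]

variable [IsNoetherianRing A]

/-- `H_T((τ≤N K)[i]) → H_T(K[i])` is bijective for `i ≤ N` -/
theorem bijective_mapX_trι (T : Set (PrimeSpectrum A)) (K : Dual.D A) (N i : ℤ) (hi : i ≤ N) :
    Function.Bijective (mapX T ((trι N K)⟦i⟧')).hom := by
  constructor
  · rw [injective_iff_map_eq_zero]
    intro x hx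
    obtain ⟨J, hJ, α, rfl⟩ := exists_repI _ x
    rw [mapX_ιI] at hx
    obtain ⟨J', hJ', hle, h0⟩ := ιI_eq_zero hJ _ hx
    haveI : (sQ J').IsLE 0 := inferInstanceAs ((sQ J').IsLE 0)
    have h1 : sqmap hle ≫ α = 0 := by
      apply (bijective_comp_trι K N i hi (sQ J')).1
      dsimp only
      rw [Category.assoc, h0, zero_comp]
    exact ιI_eq_zero_of hJ' hJ hle α h1
  · intro x
    obtain ⟨J, hJ, β, rfl⟩ := exists_repI _ x
    haveI : (sQ J).IsLE 0 := inferInstanceAs ((sQ J).IsLE 0)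
    obtain ⟨α, hα⟩ := (bijective_comp_trι K N i hi (sQ J)).2 β
    refine ⟨ιI J hJ _ α, ?_⟩
    rw [mapX_ιI]
    exact congrArg _ hα

theorem kill_HX_tr_iff (T : Set (PrimeSpectrum A)) (K : Dual.D A) (N i : ℤ) (hi : i ≤ N) (a : A) :
    (∀ x : HX T ((tr N K)⟦i⟧), a • x = 0) ↔ (∀ x : HX T (K⟦i⟧), a • x = 0) :=
  kill_iff_of_equiv (LinearEquiv.ofBijective _ (bijective_mapX_trι T K N i hi)) a

theorem locKill_tr_iff (K : Dual.D A) (N i : ℤ) (hi : i ≤ N) (q : Ideal A) (g : A) :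
    LocKill q g ((tr N K)⟦i⟧) ↔ LocKill q g (K⟦i⟧) := by
  constructor
  · intro h k β
    haveI : (sQ (q ^ k)).IsLE 0 := inferInstanceAs ((sQ (q ^ k)).IsLE 0)
    obtain ⟨α, hα⟩ := (bijective_comp_trι K N i hi (sQ (q ^ k))).2 β
    obtain ⟨f, hf, k', hk, h0⟩ := h k α
    refine ⟨f, hf, k', hk, ?_⟩
    dsimp only at hα
    rw [← hα, ← Category.assoc, ← Linear.smul_comp, h0, zero_comp]
  · intro h k α
    obtain ⟨f, hf, k', hk, h0⟩ := h k (α ≫ (trι N K)⟦i⟧')
    refine ⟨f, hf, k', hk, ?_⟩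
    haveI : (sQ (q ^ k')).IsLE 0 := inferInstanceAs ((sQ (q ^ k')).IsLE 0)
    apply (bijective_comp_trι K N i hi (sQ (q ^ k'))).1
    dsimp only
    rw [Linear.smul_comp, Category.assoc, h0, zero_comp]

end Groth.Agent.H2.HT
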