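import Mathlib
import Groth.Agent.H2.HT.TruncTransfer
import Groth.Agent.H33.TorsionLoc
import Groth.Agent.H35.BoundedInductionDeg

/-!
# Killing `Hom(C, K[i])` from killing the low cohomology of `K`  (helper2)

If `f` kills `H^j(K)` for `j ≤ n`, `K ∈ D^{≥ a}` and `C ∈ D^{≤ d}`, then a power of `f` kills
`Hom(C, K[i])` for `i + d ≤ n`.
-/

set_option autoImplicit false
set_option maxHeartbeats 800000
set_option linter.unusedSectionVars false
set_option linter.style.haveILetI false

universe u v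

open CategoryTheory CategoryTheory.Limits Opposite Pretriangulated DerivedCategory

attribute [local instance] HasDerivedCategory.standard

namespace Groth.Agent.H2.HT.CK

open Groth.Agent.H9.LD (tS)
open Groth.Agent.H33.TorsionLoc
open Groth.Agent.H2.HT

variable {A : Type u} [CommRing A]

/-- `Hom(Y, (τ≤N K)[i]) → Hom(Y, K[i])` is surjective for `Y ∈ D^{≤ d}`, `i + d ≤ N` -/
theorem surjective_comp_trι (K : Dual.D A) (N i d : ℤ) (hi : i + d ≤ N) (Y : Dual.D A) [Y.IsLE d] :
    Function.Surjective (fun α : Y ⟶ (tr N K)⟦i⟧ => α ≫ (trι N K)⟦i⟧') := by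
  let X : Dual.D A := Y⟦-i⟧
  haveI hX : X.IsLE N := by
    haveI : (tS A).IsLE Y d := ‹Y.IsLE d›
    haveI : (tS A).IsLE X (d + i) := (tS A).isLE_shift Y d (-i) (d + i) (by omega)
    exact (tS A).isLE_of_le X (d + i) N (by omega)
  haveI hX' : (tS A).IsLE X N := hX
  let e : X⟦i⟧ ≅ Y := (shiftFunctorCompIsoId (Dual.D A) (-i) i (by omega)).app Y
  intro β
  obtain ⟨γ, hγ⟩ := (shiftFunctor (Dual.D A) i).map_surjective (e.hom ≫ β)
  refine ⟨e.inv ≫ ((tS A).liftTruncLE γ N)⟦i⟧', ?_⟩
  dsimp only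
  rw [Category.assoc, ← Functor.map_comp, (tS A).liftTruncLE_ι γ N, hγ, Iso.inv_hom_id_assoc]

/-- modules killed by an element of `S` -/
def killedMod (S : Submonoid A) : ObjectProperty (ModuleCat.{u} A) :=
  fun M => ∃ s ∈ S, ∀ x : M, s • x = 0

instance (S : Submonoid A) : (killedMod S).IsClosedUnderIsomorphisms where
  of_iso {X Y} e := by
    rintro ⟨s, hs, h⟩
    refine ⟨s, hs, fun y => ?_⟩
    have h1 : y = e.hom.hom (e.inv.hom y) := by
      have := congrArg (fun t => t.hom y) e.inv_hom_id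
      exact this.symm
    rw [h1, ← map_smul, h, map_zero]

/-- a bounded object all of whose cohomology modules are killed by elements of `S` is killed by an
element of `S` -/
theorem killed_of_kill_HD (S : Submonoid A) (Z : Dual.D A) (a b : ℤ) (hGE : Z.IsGE a)
    (hLE : Z.IsLE b) (h : ∀ q : ℤ, ∃ s ∈ S, ∀ x : Dual.HD A Z q, s • x = 0) :
    killed S Z := by
  refine Groth.Agent.H35.bounded_induction_deg' (killed S (T := Dual.D A))
    (fun _ => killedMod S) ?_ ?_ ?_ ?_ Z a b hGE hLE h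
  · intro Z hZ
    exact ⟨1, S.one_mem, hZ.eq_of_src _ _⟩
  · intro T hT h₁ h₃
    exact killed_ext₂ T hT h₁ h₃
  · rintro M n ⟨s, hs, hM⟩
    refine ⟨s, hs, ?_⟩
    have h0 : s • 𝟙 M = 0 := by
      ext x
      exact hM x
    rw [← CategoryTheory.Functor.map_id, ← Functor.map_smul, h0, Functor.map_zero]
  · intro n M hM
    exact ⟨1, S.one_mem, fun x => by
      haveI := ModuleCat.subsingleton_of_isZero hM
      exact Subsingleton.elim _ _⟩

/-- the main transfer lemma -/
theorem exists_pow_kill_hom (f : A) (K : Dual.D A) (a : ℤ) [K.IsGE a] (n : ℤ)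
    (hK : ∀ j : ℤ, j ≤ n → ∀ x : Dual.HD A K j, f • x = 0) (C : Dual.D A) (d : ℤ) [C.IsLE d] :
    ∃ N : ℕ, ∀ i : ℤ, i + d ≤ n → ∀ α : C ⟶ K⟦i⟧, f ^ N • α = 0 := by
  haveI hGE : (tr n K).IsGE a := isGE_tr n K a
  have hLE : (tr n K).IsLE n := isLE_tr n K
  have hkill : killed (Submonoid.powers f) (tr n K) := by
    refine killed_of_kill_HD _ _ a n hGE hLE (fun q => ?_)
    by_cases hq : n < q
    · haveI := Groth.Agent.H9.DCF.subsingleton_HD_of_isLE (tr n K) n q hq
      exact ⟨1, Submonoid.one_mem _, fun x => Subsingleton.elim _ _⟩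
    · refine ⟨f, Submonoid.mem_powers f, fun x => ?_⟩
      have hT := (tS A).triangleLEGT_distinguished n K
      haveI hGE' : (((tS A).truncGT n).obj K).IsGE (n + 1) :=
        inferInstanceAs ((tS A).IsGE (((tS A).truncGT n).obj K) (n + 1))
      have hz0 : IsZero ((homologyFunctor (ModuleCat.{u} A) (q - 1)).obj
          (((tS A).truncGT n).obj K)) :=
        isZero_of_isGE _ (n + 1) (q - 1) (by omega)
      have hm : Mono ((homologyFunctor (ModuleCat.{u} A) q).map ((tS A).truncLEι n |>.app K)) :=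
        (HomologySequence.mono_homologyMap_mor₁_iff _ hT (q - 1) q (by omega)).2
          (hz0.eq_of_src _ _)
      have hinj := (ModuleCat.mono_iff_injective _).1 hm
      apply hinj
      rw [map_smul, map_zero]
      exact hK q (by omega) _
  obtain ⟨s, ⟨N, rfl⟩, hs⟩ := hkill
  refine ⟨N, fun i hi α => ?_⟩
  obtain ⟨β, rfl⟩ := surjective_comp_trι K n i d hi C α
  have h1 : f ^ N • (β ≫ (trι n K)⟦i⟧') = β ≫ (f ^ N • 𝟙 (tr n K))⟦i⟧' ≫ (trι n K)⟦i⟧' := by
    rw [Functor.map_smul, CategoryTheory.Functor.map_id, Linear.smul_comp, Category.id_comp,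
      Linear.comp_smul]
  rw [h1, hs, Functor.map_zero, zero_comp, comp_zero]

end Groth.Agent.H2.HT.CK
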