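import Mathlib
import Groth.Agent.H2.HT.TruncTransfer
import Groth.Agent.H2.DualCx.Between

/-!
# Faltings' annihilator theorem for bounded below complexes with finite cohomology  (helper2)
-/

set_option autoImplicit false
set_option maxHeartbeats 800000
set_option linter.unusedSectionVars false
set_option linter.style.haveILetI false

universe u v

open CategoryTheory CategoryTheory.Limits Opposite Pretriangulated DerivedCategory

attribute [local instance] HasDerivedCategory.standard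

namespace Groth.Agent.H2.HT

open Groth.Agent.H9.LD (tS)
open Groth.Agent.H2.DualCx

variable {A : Type u} [CommRing A] [IsNoetherianRing A] {ω : Dual.D A}
  (hω : Dual.IsDualizing A ω)

include hω in
theorem topDeg_bounds : ∃ lo hi : ℤ, ∀ p : PrimeSpectrum A,
    lo ≤ topDeg hω p ∧ topDeg hω p ≤ hi := by
  obtain ⟨a, b, hab⟩ := hω.finite_injective_dimension
  refine ⟨a, b, fun p => ?_⟩
  have h := topDeg_mem hω p
  constructor
  · by_contra hlt
    push Not at hlt
    haveI := hab (A ⧸ p.asIdeal) (topDeg hω p) (Or.inl hlt)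
    rw [Module.support_eq_empty] at h
    exact h
  · by_contra hlt
    push Not at hlt
    haveI := hab (A ⧸ p.asIdeal) (topDeg hω p) (Or.inr hlt)
    rw [Module.support_eq_empty] at h
    exact h

theorem ldann' (q : PrimeSpectrum A) (K : Dual.D A) (a b : ℤ) (hGE : K.IsGE a) (hLE : K.IsLE b)
    (hK : ∀ i : ℤ, Module.Finite A (Dual.HD A K i)) (i j : ℤ) (hij : topDeg hω q - i = j)
    (g : A) :
    LocKill q.asIdeal g (K⟦i⟧) ↔
      ∃ f : A, f ∉ q.asIdeal ∧ ∀ t : K ⟶ ω⟦j⟧, (f * g) • t = 0 := by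
  subst hij
  exact ldann hω q K a b hGE hLE hK i g

include hω in
theorem finite_hom_of_bdd (K : Dual.D A) (a b : ℤ) (hGE : K.IsGE a) (hLE : K.IsLE b)
    (hK : ∀ i : ℤ, Module.Finite A (Dual.HD A K i)) (j : ℤ) : Module.Finite A (K ⟶ ω⟦j⟧) := by
  obtain ⟨c, d, hcd⟩ := hω.finite_injective_dimension
  refine Groth.Agent.H9.LD.finite_hom_of_bounded ω c (fun M' _ _ i hi => hcd M' i (Or.inl hi))
    hω.finite_cohomology K hK ⟨a, b, fun i hi => ?_⟩ j
  rcases hi with hi | hi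
  · exact ModuleCat.subsingleton_of_isZero ((DerivedCategory.isGE_iff K a).mp hGE i hi)
  · exact ModuleCat.subsingleton_of_isZero ((DerivedCategory.isLE_iff K b).mp hLE i hi)

theorem notMem_support_hom_iff (q : PrimeSpectrum A) (K : Dual.D A) (a b : ℤ) (hGE : K.IsGE a)
    (hLE : K.IsLE b) (hK : ∀ i : ℤ, Module.Finite A (Dual.HD A K i)) (i j : ℤ)
    (hij : topDeg hω q - i = j) :
    q ∉ Module.support A (K ⟶ ω⟦j⟧) ↔ LocKill q.asIdeal 1 (K⟦i⟧) := by
  haveI := finite_hom_of_bdd hω K a b hGE hLE hK j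
  rw [ldann' hω q K a b hGE hLE hK i j hij 1, Module.notMem_support_iff']
  constructor
  · intro h
    exact exists_uniform_of_finite q.asIdeal (K ⟶ ω⟦j⟧) 1 (fun t => by
      obtain ⟨r, hr, hrt⟩ := h t
      exact ⟨r, hr, by rw [mul_one]; exact hrt⟩)
  · rintro ⟨f, hf, h⟩ t
    refine ⟨f, hf, ?_⟩
    have := h t
    rwa [mul_one] at this

/-- **Faltings' annihilator theorem** for `K ∈ D^+_{Coh}(A)`. -/
theorem faltings_general (K : Dual.D A) (a₀ : ℤ) [K.IsGE a₀]
    (hK : ∀ i : ℤ, Module.Finite A (Dual.HD A K i)) {T : Set (PrimeSpectrum A)}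
    (T' : Set (PrimeSpectrum A)) (hT : StableUnderSpecialization T)
    (hT' : StableUnderSpecialization T') (s : ℤ) :
    (∃ J : Ideal A, PrimeSpectrum.zeroLocus (J : Set A) ⊆ T' ∧
      ∀ i : ℤ, i ≤ s → ∀ a ∈ J, ∀ x : HX T (K⟦i⟧), a • x = 0) ↔
    (∀ p q : PrimeSpectrum A, p ∉ T' → q ∈ T → p ≤ q → ∀ i : ℤ, i ≤ s →
      LocKill p.asIdeal 1 (K⟦i - (topDeg hω q - topDeg hω p)⟧)) := by
  obtain ⟨lo, hi, hlohi⟩ := topDeg_bounds hω
  haveI hGE : (tr s K).IsGE a₀ := isGE_tr s K a₀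
  have hLE : (tr s K).IsLE s := isLE_tr s K
  have hK' : ∀ i : ℤ, Module.Finite A (Dual.HD A (tr s K) i) :=
    fun i => Groth.Agent.H9.DCF.finite_HD_truncLE K hK s i
  have core := faltings_core (T := T) (δ := topDeg hω) ω (tr s K)
    (fun p q hpq => topDeg_lt hω hpq) lo hi (fun p => (hlohi p).1) (fun p => (hlohi p).2) T' hT hT'
    a₀ (fun j => finite_hom_of_bdd hω (tr s K) a₀ s hGE hLE hK' j)
    (fun q i g => ldann hω q (tr s K) a₀ s hGE hLE hK' i g) s
  have hL : (∃ J : Ideal A, PrimeSpectrum.zeroLocus (J : Set A) ⊆ T' ∧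
      ∀ i : ℤ, i ≤ s → ∀ a ∈ J, ∀ x : HX T (K⟦i⟧), a • x = 0) ↔
      (∃ J : Ideal A, PrimeSpectrum.zeroLocus (J : Set A) ⊆ T' ∧
      ∀ i : ℤ, i ≤ s → ∀ a ∈ J, ∀ x : HX T ((tr s K)⟦i⟧), a • x = 0) := by
    constructor
    · rintro ⟨J, hJ, h⟩
      exact ⟨J, hJ, fun i hi a ha => (kill_HX_tr_iff T K s i hi a).2 (h i hi a ha)⟩
    · rintro ⟨J, hJ, h⟩
      exact ⟨J, hJ, fun i hi a ha => (kill_HX_tr_iff T K s i hi a).1 (h i hi a ha)⟩
  rw [hL, core]
  constructor
  · intro h p q hp hq hpq i hi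
    have h1 := h p q hp hq hpq i hi
    have hmono := topDeg_mono hω hpq
    rw [notMem_support_hom_iff hω p (tr s K) a₀ s hGE hLE hK'
      (i - (topDeg hω q - topDeg hω p)) (topDeg hω q - i) (by omega)] at h1
    exact (locKill_tr_iff K s _ (by omega) p.asIdeal 1).1 h1
  · intro h p q hp hq hpq i hi
    have h1 := h p q hp hq hpq i hi
    have hmono := topDeg_mono hω hpq
    rw [notMem_support_hom_iff hω p (tr s K) a₀ s hGE hLE hK'
      (i - (topDeg hω q - topDeg hω p)) (topDeg hω q - i) (by omega)]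
    exact (locKill_tr_iff K s _ (by omega) p.asIdeal 1).2 h1

end Groth.Agent.H2.HT
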