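import Mathlib
import Groth.Agent.H2.HT.Basic
import Groth.Agent.H58.ExtCompare
import Groth.Agent.H9.LD.HDICompare

/-!
# `H^i_T(M) ≃ H^i_T(M[0])`: the module-level `Dual2.HT` versus the derived `Dual2.HDT`  (helper2)
-/

set_option autoImplicit false
set_option maxHeartbeats 400000
set_option linter.unusedSectionVars false
set_option linter.style.haveILetI false

universe u

open CategoryTheory CategoryTheory.Limits Opposite

attribute [local instance] HasDerivedCategory.standard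

namespace Groth.Agent.H2.HT

open Groth.Agent.H58.ExtCompare

variable {A : Type u} [CommRing A] (T : Set (PrimeSpectrum A)) (i : ℕ) (M : ModuleCat.{u} A)

/-- `A/J` as an object -/
abbrev QJ (J : Ideal A) : ModuleCat.{u} A := ModuleCat.of A (A ⧸ J)

/-- the big diagram -/
noncomputable abbrev bigDiagramT : (Dual2.IdealsIn T)ᵒᵖ ⥤ ModuleCat.{u} A ⥤ ModuleCat.{u} A :=
  localCohomology.diagram (Dual2.idealsInDiagram T) i

/-- the evaluated diagram `J ↦ Ext^i(A/J, M)` (old Ext) -/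
noncomputable abbrev lcDiagramT : (Dual2.IdealsIn T)ᵒᵖ ⥤ ModuleCat.{u} A :=
  bigDiagramT T i ⋙ (evaluation _ _).obj M

/-- the colimit cocone with point `H^i_T(M)` -/
noncomputable def lcCoconeT : Cocone (lcDiagramT T i M) :=
  ((evaluation _ _).obj M).mapCocone (colimit.cocone (bigDiagramT T i))

noncomputable def lcIsColimitT : IsColimit (lcCoconeT T i M) :=
  isColimitOfPreserves _ (colimit.isColimit _)

/-- old Ext group -/
noncomputable abbrev oldExtJ (J : Ideal A) : ModuleCat.{u} A :=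
  ((Ext A (ModuleCat.{u} A) i).obj (op (QJ J))).obj M

/-- old transition -/
noncomputable abbrev oldMapJ {J' J : Ideal A} (h : J' ≤ J) : oldExtJ i M J ⟶ oldExtJ i M J' :=
  ((Ext A (ModuleCat.{u} A) i).map (qmap h).op).app M

variable {T}

/-- the class in `H^i_T(M)` of an element of old `Ext^i(A/J, M)` -/
noncomputable def ιOldT (J : Ideal A) (hJ : PrimeSpectrum.zeroLocus (J : Set A) ⊆ T) :
    oldExtJ i M J →ₗ[A] (Dual2.HT T i M) :=
  ((lcCoconeT T i M).ι.app (op (mkI T J hJ))).hom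

theorem ιOldT_exists_rep (x : Dual2.HT T i M) :
    ∃ (J : Ideal A) (hJ : PrimeSpectrum.zeroLocus (J : Set A) ⊆ T) (y : oldExtJ i M J),
      ιOldT i M J hJ y = x := by
  obtain ⟨j, y, hy⟩ := Concrete.isColimit_exists_rep (lcDiagramT T i M) (lcIsColimitT T i M) x
  exact ⟨j.unop.obj, j.unop.property, y, hy⟩

theorem ιOldT_map {J' J : Ideal A} (hJ' : PrimeSpectrum.zeroLocus (J' : Set A) ⊆ T)
    (hJ : PrimeSpectrum.zeroLocus (J : Set A) ⊆ T) (h : J' ≤ J) (y : oldExtJ i M J) :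
    ιOldT i M J' hJ' ((oldMapJ i M h).hom y) = ιOldT i M J hJ y := by
  have h1 := (lcCoconeT T i M).w (homI (J' := mkI T J' hJ') (J := mkI T J hJ) h).op
  have h2 := ConcreteCategory.congr_hom h1 y
  exact h2

theorem ιOldT_eq_zero {J : Ideal A} (hJ : PrimeSpectrum.zeroLocus (J : Set A) ⊆ T)
    (y : oldExtJ i M J) (hy : ιOldT i M J hJ y = 0) :
    ∃ (J' : Ideal A) (_ : PrimeSpectrum.zeroLocus (J' : Set A) ⊆ T) (h : J' ≤ J),
      (oldMapJ i M h).hom y = 0 := by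
  have h0 : ιOldT i M J hJ y = ιOldT i M J hJ 0 := by rw [hy, map_zero]
  obtain ⟨k, a, b, hab⟩ := Concrete.isColimit_exists_of_rep_eq (lcDiagramT T i M)
    (lcIsColimitT T i M) (i := op (mkI T J hJ)) (j := op (mkI T J hJ)) y 0 h0
  refine ⟨k.unop.obj, k.unop.property, leI a.unop, ?_⟩
  have h1 : (lcDiagramT T i M).map b (0 : oldExtJ i M J) = 0 := map_zero _
  exact hab.trans h1

/-- the class in `H^i_T(M)` of an element of `Ext^i(A/J, M)` -/
noncomputable def ιT (J : Ideal A) (hJ : PrimeSpectrum.zeroLocus (J : Set A) ⊆ T) :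
    Abelian.Ext (QJ J) M i →ₗ[A] (Dual2.HT T i M) :=
  ιOldT i M J hJ ∘ₗ (extEquiv (R := A) (QJ J) M i).symm.toLinearMap

theorem ιT_apply (J : Ideal A) (hJ : PrimeSpectrum.zeroLocus (J : Set A) ⊆ T)
    (e : Abelian.Ext (QJ J) M i) :
    ιT i M J hJ e = ιOldT i M J hJ ((extEquiv (R := A) (QJ J) M i).symm e) := rfl

theorem ιT_exists_rep (x : Dual2.HT T i M) :
    ∃ (J : Ideal A) (hJ : PrimeSpectrum.zeroLocus (J : Set A) ⊆ T) (e : Abelian.Ext (QJ J) M i),
      ιT i M J hJ e = x := by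
  obtain ⟨J, hJ, y, rfl⟩ := ιOldT_exists_rep i M x
  refine ⟨J, hJ, extEquiv (R := A) (QJ J) M i y, ?_⟩
  rw [ιT_apply, LinearEquiv.symm_apply_apply]

theorem extEquiv_symm_comp' {J' J : Ideal A} (h : J' ≤ J) (e : Abelian.Ext (QJ J) M i) :
    (extEquiv (R := A) (QJ J') M i).symm ((Abelian.Ext.mk₀ (qmap h)).comp e (zero_add i)) =
      (oldMapJ i M h).hom ((extEquiv (R := A) (QJ J) M i).symm e) := by
  apply (extEquiv (R := A) (QJ J') M i).injective
  rw [LinearEquiv.apply_symm_apply, extEquiv_naturality_left, LinearEquiv.apply_symm_apply]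

theorem ιT_restrict {J' J : Ideal A} (hJ' : PrimeSpectrum.zeroLocus (J' : Set A) ⊆ T)
    (hJ : PrimeSpectrum.zeroLocus (J : Set A) ⊆ T) (h : J' ≤ J) (e : Abelian.Ext (QJ J) M i) :
    ιT i M J' hJ' ((Abelian.Ext.mk₀ (qmap h)).comp e (zero_add i)) = ιT i M J hJ e := by
  rw [ιT_apply, ιT_apply, extEquiv_symm_comp', ιOldT_map]

theorem ιT_eq_zero {J : Ideal A} (hJ : PrimeSpectrum.zeroLocus (J : Set A) ⊆ T)
    (e : Abelian.Ext (QJ J) M i) (he : ιT i M J hJ e = 0) :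
    ∃ (J' : Ideal A) (_ : PrimeSpectrum.zeroLocus (J' : Set A) ⊆ T) (h : J' ≤ J),
      (Abelian.Ext.mk₀ (qmap h)).comp e (zero_add i) = 0 := by
  rw [ιT_apply] at he
  obtain ⟨J', hJ', h, h0⟩ := ιOldT_eq_zero i M hJ _ he
  refine ⟨J', hJ', h, ?_⟩
  apply (extEquiv (R := A) (QJ J') M i).symm.injective
  rw [extEquiv_symm_comp', h0, map_zero]

/-! ### comparison with the derived version -/

open Groth.Agent.H9.LD in
/-- the leg `Hom(A/J, M[i]) → H^i_T(M)` -/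
noncomputable def cmpLegT (J : Ideal A) (hJ : PrimeSpectrum.zeroLocus (J : Set A) ⊆ T) :
    (sQ J ⟶ (sM M)⟦(i : ℤ)⟧) →ₗ[A] (Dual2.HT T i M) :=
  ιT i M J hJ ∘ₗ
    (Abelian.Ext.homLinearEquiv (R := A) (X := QJ J) (Y := M) (n := i)).symm.toLinearMap

open Groth.Agent.H9.LD in
theorem cmpLegT_apply (J : Ideal A) (hJ : PrimeSpectrum.zeroLocus (J : Set A) ⊆ T)
    (α : sQ J ⟶ (sM M)⟦(i : ℤ)⟧) :
    cmpLegT i M J hJ α = ιT i M J hJ
      ((Abelian.Ext.homEquiv (X := QJ J) (Y := M) (n := i)).symm α) := rfl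

open Groth.Agent.H9.LD in
theorem cmpLegT_res {J' J : Ideal A} (hJ' : PrimeSpectrum.zeroLocus (J' : Set A) ⊆ T)
    (hJ : PrimeSpectrum.zeroLocus (J : Set A) ⊆ T) (h : J' ≤ J)
    (α : sQ J ⟶ (sM M)⟦(i : ℤ)⟧) :
    cmpLegT i M J' hJ' (sqmap h ≫ α) = cmpLegT i M J hJ α := by
  rw [cmpLegT_apply, cmpLegT_apply]
  have h1 := homEquiv_symm_precomp (qmap h) i (Y := M) α
  refine Eq.trans (congrArg _ h1) ?_
  exact ιT_restrict i M hJ' hJ h _

open Groth.Agent.H9.LD in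
theorem cmpLegT_eq_zero {J : Ideal A} (hJ : PrimeSpectrum.zeroLocus (J : Set A) ⊆ T)
    (α : sQ J ⟶ (sM M)⟦(i : ℤ)⟧) (hα : cmpLegT i M J hJ α = 0) :
    ∃ (J' : Ideal A) (_ : PrimeSpectrum.zeroLocus (J' : Set A) ⊆ T) (h : J' ≤ J),
      sqmap h ≫ α = 0 := by
  rw [cmpLegT_apply] at hα
  obtain ⟨J', hJ', h, h0⟩ := ιT_eq_zero i M hJ _ hα
  refine ⟨J', hJ', h, ?_⟩
  have h1 := homEquiv_symm_precomp (qmap h) i (Y := M) α
  rw [h0] at h1
  have h2 := congrArg (Abelian.Ext.homEquiv (X := QJ J') (Y := M) (n := i)) h1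
  rw [Equiv.apply_symm_apply] at h2
  refine h2.trans ?_
  exact Abelian.Ext.zero_hom (X := QJ J') (Y := M) (n := i)

open Groth.Agent.H9.LD in
theorem cmpLegT_surjective (x : Dual2.HT T i M) :
    ∃ (J : Ideal A) (hJ : PrimeSpectrum.zeroLocus (J : Set A) ⊆ T)
      (α : sQ J ⟶ (sM M)⟦(i : ℤ)⟧), cmpLegT i M J hJ α = x := by
  obtain ⟨J, hJ, e, rfl⟩ := ιT_exists_rep i M x
  let α : sQ J ⟶ (sM M)⟦(i : ℤ)⟧ :=
    Abelian.Ext.homEquiv (X := QJ J) (Y := M) (n := i) e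
  refine ⟨J, hJ, α, ?_⟩
  have h1 := cmpLegT_apply i M J hJ α
  refine h1.trans ?_
  exact congrArg _ (Equiv.symm_apply_apply _ e)

open Groth.Agent.H9.LD in
/-- the cocone with point `H^i_T(M)` -/
noncomputable def cmpCoconeT : Cocone (FD T ((sM M)⟦(i : ℤ)⟧)) where
  pt := ModuleCat.of A (ULift.{u + 1} (Dual2.HT T i M))
  ι :=
    { app := fun j => ModuleCat.ofHom
        ((ULift.moduleEquiv (R := A) (M := Dual2.HT T i M)).symm.toLinearMap ∘ₗ
          cmpLegT i M j.unop.obj j.unop.property)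
      naturality := by
        intro j j' f
        ext α
        apply ULift.ext
        exact cmpLegT_res i M j'.unop.property j.unop.property (leI f.unop) α }

open Groth.Agent.H9.LD in
/-- the comparison map -/
noncomputable def cmpDescT :
    HX T ((sM M)⟦(i : ℤ)⟧) ⟶ ModuleCat.of A (ULift.{u + 1} (Dual2.HT T i M)) :=
  colimit.desc (FD T ((sM M)⟦(i : ℤ)⟧)) (cmpCoconeT i M)

open Groth.Agent.H9.LD in
theorem cmpDescT_ιI (J : Ideal A) (hJ : PrimeSpectrum.zeroLocus (J : Set A) ⊆ T)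
    (α : sQ J ⟶ (sM M)⟦(i : ℤ)⟧) :
    (cmpDescT (T := T) i M).hom (ιI J hJ _ α) = ULift.up (cmpLegT i M J hJ α) := by
  have := congrArg (fun f => f.hom α)
    (colimit.ι_desc (cmpCoconeT (T := T) i M) (op (mkI T J hJ)))
  exact this

open Groth.Agent.H9.LD in
theorem cmpDescT_bijective : Function.Bijective (cmpDescT (T := T) i M).hom := by
  constructor
  · rw [injective_iff_map_eq_zero]
    intro x hx
    obtain ⟨J, hJ, α, rfl⟩ := exists_repI _ x
    rw [cmpDescT_ιI] at hx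
    have h2 : cmpLegT i M J hJ α = 0 := congrArg ULift.down hx
    obtain ⟨J', hJ', h, h3⟩ := cmpLegT_eq_zero i M hJ α h2
    exact ιI_eq_zero_of hJ' hJ h α h3
  · intro y
    obtain ⟨J, hJ, α, hα⟩ := cmpLegT_surjective i M y.down
    refine ⟨ιI J hJ _ α, ?_⟩
    rw [cmpDescT_ιI, hα]

open Groth.Agent.H9.LD in
/-- **comparison**: `H_T(M[0][i]) ≃ H^i_T(M)` -/
theorem nonempty_HX_equiv_HT :
    Nonempty (HX T ((sM M)⟦(i : ℤ)⟧) ≃ₗ[A] Dual2.HT T i M) := by
  have e1 : HX T ((sM M)⟦(i : ℤ)⟧) ≃ₗ[A] ULift.{u + 1} (Dual2.HT T i M) :=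
    LinearEquiv.ofBijective (cmpDescT (T := T) i M).hom (cmpDescT_bijective i M)
  exact ⟨e1.trans ULift.moduleEquiv⟩

end Groth.Agent.H2.HT
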