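import Mathlib
import Groth.Agent.H2.HT.FinIffKill
import Groth.Agent.H2.HT.Compare

/-!
# Module case of "finite iff annihilated" for `H^i_T(M)`  (helper2)
-/

set_option autoImplicit false
set_option maxHeartbeats 400000
set_option linter.unusedSectionVars false
set_option linter.style.haveILetI false

universe u

open CategoryTheory CategoryTheory.Limits Opposite Pretriangulated DerivedCategory

attribute [local instance] HasDerivedCategory.standard

namespace Groth.Agent.H2.HT

variable {A : Type u} [CommRing A] [IsNoetherianRing A] {T : Set (PrimeSpectrum A)}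
  (M : Type u) [AddCommGroup M] [Module A M]

theorem subsingleton_HD_inD_neg (i : ℤ) (hi : i < 0) : Subsingleton (Dual.HD A (Dual.inD A M) i) :=
  Groth.Agent.H9.DCF.subsingleton_HD_inD M i (by omega)

theorem finite_HD_inD [Module.Finite A M] (i : ℤ) : Module.Finite A (Dual.HD A (Dual.inD A M) i) := by
  by_cases hi : i = 0
  · subst hi
    let e : Dual.HD A (Dual.inD A M) 0 ≃ₗ[A] M :=
      ((singleFunctorCompHomologyFunctorIso (ModuleCat.{u} A) 0).app (ModuleCat.of A M)).toLinearEquiv
    exact Module.Finite.equiv e.symm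
  · haveI := Groth.Agent.H9.DCF.subsingleton_HD_inD (A := A) M i hi
    infer_instance

/-- the comparison for type-level modules -/
theorem nonempty_HX_inD_equiv_HT (i : ℕ) :
    Nonempty (HX T ((Dual.inD A M)⟦(i : ℤ)⟧) ≃ₗ[A] Dual2.HT T i M) :=
  nonempty_HX_equiv_HT i (ModuleCat.of A M)

/-- **module case** -/
theorem finite_iff_kill_module [Module.Finite A M] (n : ℕ) :
    (∀ i : ℕ, i ≤ n → Module.Finite A (Dual2.HT T i M)) ↔
      ∃ J : Ideal A, PrimeSpectrum.zeroLocus (J : Set A) ⊆ T ∧
        ∀ i : ℕ, i ≤ n → ∀ a ∈ J, ∀ x : Dual2.HT T i M, a • x = 0 := by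
  have key := finite_iff_kill (T := T) (Dual.inD A M) 0 (subsingleton_HD_inD_neg M)
    (finite_HD_inD M) (n : ℤ)
  constructor
  · intro hfin
    have h1 : ∀ j : ℤ, j ≤ (n : ℤ) → Module.Finite A (HX T ((Dual.inD A M)⟦j⟧)) := by
      intro j hj
      by_cases hj0 : j < 0
      · haveI : (Dual.inD A M).IsGE 0 := inferInstance
        haveI := subsingleton_HX_of_isGE (T := T) (Dual.inD A M) 0 j hj0
        infer_instance
      · obtain ⟨i, rfl⟩ : ∃ i : ℕ, j = (i : ℤ) := ⟨j.toNat, by omega⟩
        obtain ⟨e⟩ := nonempty_HX_inD_equiv_HT (T := T) M i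
        haveI := hfin i (by omega)
        exact Module.Finite.equiv e.symm
    obtain ⟨J, hJT, hJ⟩ := key.1 h1
    refine ⟨J, hJT, fun i hi a ha x => ?_⟩
    obtain ⟨e⟩ := nonempty_HX_inD_equiv_HT (T := T) M i
    have := hJ (i : ℤ) (by omega) a ha (e.symm x)
    rw [← map_smul] at this
    exact e.symm.injective (this.trans (map_zero _).symm)
  · rintro ⟨J, hJT, hJ⟩ i hi
    have h1 : ∀ j : ℤ, j ≤ (n : ℤ) → ∀ x : A, x ∈ J →
        ∀ y : HX T ((Dual.inD A M)⟦j⟧), x • y = 0 := by
      intro j hj x hx y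
      by_cases hj0 : j < 0
      · haveI : (Dual.inD A M).IsGE 0 := inferInstance
        haveI := subsingleton_HX_of_isGE (T := T) (Dual.inD A M) 0 j hj0
        exact Subsingleton.elim _ _
      · obtain ⟨i, rfl⟩ : ∃ i : ℕ, j = (i : ℤ) := ⟨j.toNat, by omega⟩
        obtain ⟨e⟩ := nonempty_HX_inD_equiv_HT (T := T) M i
        have := hJ i (by omega) x hx (e y)
        rw [← map_smul] at this
        exact e.injective (this.trans (map_zero _).symm)
    have h2 := key.2 ⟨J, hJT, h1⟩ (i : ℤ) (by omega)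
    obtain ⟨e⟩ := nonempty_HX_inD_equiv_HT (T := T) M i
    haveI := h2
    exact Module.Finite.equiv e

end Groth.Agent.H2.HT
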