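import Mathlib
import Groth.Agent.H2.HT.FaltingsGeneral
import Groth.Agent.H2.HT.ModuleCase
import Groth.Agent.H2.DualCx.DepthSuppGen
import Groth.Agent.H9.LD.HDICompare

/-!
# Faltings' annihilator theorem for finite modules  (helper2)
-/

set_option autoImplicit false
set_option maxHeartbeats 800000
set_option linter.unusedSectionVars false
set_option linter.style.haveILetI false

universe u v

open CategoryTheory CategoryTheory.Limits Opposite Pretriangulated DerivedCategory IsLocalRing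

attribute [local instance] HasDerivedCategory.standard

namespace Groth.Agent.H2.HT

open Groth.Agent.H2.DualCx

variable {A : Type u} [CommRing A] [IsNoetherianRing A]

theorem locKill_congr_index' (q : Ideal A) (g : A) (K : Dual.D A) {i j : ℤ} (h : i = j) :
    LocKill q g (K⟦i⟧) ↔ LocKill q g (K⟦j⟧) := by
  subst h
  rfl

section

variable {T : Set (PrimeSpectrum A)} (M : Type u) [AddCommGroup M] [Module A M]

theorem kill_HT_iff_kill_HX (J : Ideal A) (s : ℕ) :
    (∀ i : ℕ, i ≤ s → ∀ a ∈ J, ∀ x : Dual2.HT T i M, a • x = 0) ↔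
    (∀ i : ℤ, i ≤ (s : ℤ) → ∀ a ∈ J, ∀ x : HX T ((Dual.inD A M)⟦i⟧), a • x = 0) := by
  constructor
  · intro h j hj a ha y
    by_cases hj0 : j < 0
    · haveI : (Dual.inD A M).IsGE 0 := inferInstance
      haveI := subsingleton_HX_of_isGE (T := T) (Dual.inD A M) 0 j hj0
      exact Subsingleton.elim _ _
    · obtain ⟨i, rfl⟩ : ∃ i : ℕ, j = (i : ℤ) := ⟨j.toNat, by omega⟩
      obtain ⟨e⟩ := nonempty_HX_inD_equiv_HT (T := T) M i
      have := h i (by omega) a ha (e y)
      rw [← map_smul] at this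
      exact e.injective (this.trans (map_zero _).symm)
  · intro h i hi a ha x
    obtain ⟨e⟩ := nonempty_HX_inD_equiv_HT (T := T) M i
    have := h (i : ℤ) (by omega) a ha (e.symm x)
    rw [← map_smul] at this
    exact e.symm.injective (this.trans (map_zero _).symm)

end

variable {ω : Dual.D A} (hω : Dual.IsDualizing A ω)

include hω in
/-- the local annihilation condition for a finite module is a depth condition -/
theorem locKill_inD_iff_depth (p : PrimeSpectrum A) (M : Type u) [AddCommGroup M] [Module A M]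
    [Module.Finite A M] (m : ℤ) :
    (∀ j : ℤ, j ≤ m → LocKill p.asIdeal 1 ((Dual.inD A M)⟦j⟧)) ↔
      ∀ r : ℕ, LocCoh.depth (Localization.AtPrime p.asIdeal)
        (LocalizedModule p.asIdeal.primeCompl M) = r → m < r := by
  have hGE : (Dual.inD A M).IsGE 0 := inferInstance
  have hLE : (Dual.inD A M).IsLE 0 := inferInstance
  have hloc : ∀ j : ℤ, LocKill p.asIdeal 1 ((Dual.inD A M)⟦j⟧) ↔
      p ∉ Module.support A (T ω (topDeg hω p - j) M) := fun j =>
    (notMem_support_hom_iff hω p (Dual.inD A M) 0 0 hGE hLE (finite_HD_inD M) j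
      (topDeg hω p - j) rfl).symm
  have hds := depth_support_gen (finT_of_isDualizing' hω) p (topDeg hω p)
    (fun N _ _ _ k hk => topDeg_max hω p N k hk) (topDeg_mem hω p)
  constructor
  · intro h r hr
    by_contra hcon
    push Not at hcon
    have h1 := (hloc (r : ℤ)).1 (h r hcon)
    exact h1 ((hds r M).2 hr)
  · intro h j hj
    rw [hloc]
    by_cases hj0 : j < 0
    · exact topDeg_max hω p M _ (by omega)
    · obtain ⟨i, rfl⟩ : ∃ i : ℕ, j = (i : ℤ) := ⟨j.toNat, by omega⟩
      have hle : ((i + 1 : ℕ) : ℕ∞) ≤ LocCoh.depth (Localization.AtPrime p.asIdeal)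
          (LocalizedModule p.asIdeal.primeCompl M) := by
        by_contra hcon
        push Not at hcon
        obtain ⟨r, hr⟩ := ENat.ne_top_iff_exists.mp (ne_top_of_lt hcon)
        have h2 := h r hr.symm
        rw [← hr] at hcon
        have h3 : r < i + 1 := by exact_mod_cast hcon
        omega
      exact (hds (i + 1) M).1 hle _ (by push_cast; omega)

theorem withBot_lt_iff (s h : ℕ) (d : ℕ∞) :
    ((s : WithBot ℕ∞) < ((d : ℕ∞) : WithBot ℕ∞) + ((h : ℕ) : WithBot ℕ∞)) ↔
      ∀ r : ℕ, d = r → (s : ℤ) - h < r := by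
  induction d using ENat.recTopCoe with
  | top =>
    constructor
    · intro _ r hr
      exact absurd hr (ENat.top_ne_natCast r)
    · intro _
      have h1 : (((⊤ : ℕ∞) : WithBot ℕ∞)) + ((h : ℕ) : WithBot ℕ∞) = ((⊤ : ℕ∞) : WithBot ℕ∞) := by
        have : ((h : ℕ) : WithBot ℕ∞) = (((h : ℕ) : ℕ∞) : WithBot ℕ∞) := rfl
        rw [this, ← WithBot.coe_add, top_add]
      rw [h1]
      have : ((s : ℕ) : WithBot ℕ∞) = (((s : ℕ) : ℕ∞) : WithBot ℕ∞) := rfl
      rw [this, WithBot.coe_lt_coe]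
      exact ENat.natCast_lt_top s
  | coe d =>
    have h1 : (((d : ℕ∞) : WithBot ℕ∞)) + ((h : ℕ) : WithBot ℕ∞) = (((d + h : ℕ) : ℕ∞) : WithBot ℕ∞) := by
      have : ((h : ℕ) : WithBot ℕ∞) = (((h : ℕ) : ℕ∞) : WithBot ℕ∞) := rfl
      rw [this, ← WithBot.coe_add]
      push_cast
      rfl
    have h2 : ((s : ℕ) : WithBot ℕ∞) = (((s : ℕ) : ℕ∞) : WithBot ℕ∞) := rfl
    rw [h1, h2, WithBot.coe_lt_coe, Nat.cast_lt]
    constructor
    · intro hlt r hr
      have : d = r := by exact_mod_cast hr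
      omega
    · intro hr
      have := hr d rfl
      omega

include hω in
/-- **Faltings' annihilator theorem for finite modules** (statement S1711 without `T ⊆ T'`) -/
theorem faltings_module (T T' : Set (PrimeSpectrum A)) (hT : StableUnderSpecialization T)
    (hT' : StableUnderSpecialization T') (s : ℕ) (M : Type u) [AddCommGroup M] [Module A M]
    [Module.Finite A M] :
    (∃ J : Ideal A, PrimeSpectrum.zeroLocus (J : Set A) ⊆ T' ∧
      ∀ i : ℕ, i ≤ s → ∀ a ∈ J, ∀ x : Dual2.HT T i M, a • x = 0) ↔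
    (∀ p q : PrimeSpectrum A, p ∉ T' → q ∈ T → p ≤ q →
      (s : WithBot ℕ∞) < ((LocCoh.depth (Localization.AtPrime p.asIdeal)
        (LocalizedModule p.asIdeal.primeCompl M) : ℕ∞) : WithBot ℕ∞) +
        Order.krullDim (Set.Icc p q)) := by
  haveI : (Dual.inD A M).IsGE 0 := inferInstance
  have main := faltings_general hω (Dual.inD A M) 0 (finite_HD_inD M) (T := T) T' hT hT' (s : ℤ)
  have hL : (∃ J : Ideal A, PrimeSpectrum.zeroLocus (J : Set A) ⊆ T' ∧
      ∀ i : ℕ, i ≤ s → ∀ a ∈ J, ∀ x : Dual2.HT T i M, a • x = 0) ↔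
      (∃ J : Ideal A, PrimeSpectrum.zeroLocus (J : Set A) ⊆ T' ∧
      ∀ i : ℤ, i ≤ (s : ℤ) → ∀ a ∈ J, ∀ x : HX T ((Dual.inD A M)⟦i⟧), a • x = 0) := by
    constructor
    · rintro ⟨J, hJ, h⟩
      exact ⟨J, hJ, (kill_HT_iff_kill_HX M J s).1 h⟩
    · rintro ⟨J, hJ, h⟩
      exact ⟨J, hJ, (kill_HT_iff_kill_HX M J s).2 h⟩
  rw [hL, main]
  have key : ∀ p q : PrimeSpectrum A, p ≤ q →
      ((∀ i : ℤ, i ≤ (s : ℤ) →
        LocKill p.asIdeal 1 ((Dual.inD A M)⟦i - (topDeg hω q - topDeg hω p)⟧)) ↔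
      ((s : WithBot ℕ∞) < ((LocCoh.depth (Localization.AtPrime p.asIdeal)
        (LocalizedModule p.asIdeal.primeCompl M) : ℕ∞) : WithBot ℕ∞) +
        Order.krullDim (Set.Icc p q))) := by
    intro p q hpq
    have hmono := topDeg_mono hω hpq
    rw [krullDim_Icc_eq hω hpq, withBot_lt_iff,
      ← locKill_inD_iff_depth hω p M ((s : ℤ) - ((topDeg hω q - topDeg hω p).toNat : ℕ))]
    have hh : (((topDeg hω q - topDeg hω p).toNat : ℕ) : ℤ) = topDeg hω q - topDeg hω p := by
      omega
    constructor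
    · intro h j hj
      have := h (j + (topDeg hω q - topDeg hω p)) (by omega)
      exact (locKill_congr_index' p.asIdeal 1 _ (by omega)).1 this
    · intro h i hi
      exact h _ (by omega)
  constructor
  · intro h p q hp hq hpq
    exact (key p q hpq).1 (h p q hp hq hpq)
  · intro h p q hp hq hpq
    exact (key p q hpq).2 (h p q hp hq hpq)

include hω in
/-- annihilators of `H^i_I(M)` away from a prime `p ∌ I` (statement S1765) -/
theorem exists_kill_H_away (I : Ideal A) (M : Type u) [AddCommGroup M] [Module A M]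
    [Module.Finite A M] (p : PrimeSpectrum A) (hp : ¬ I ≤ p.asIdeal) (s : ℕ)
    (h : ∀ p' q : PrimeSpectrum A, p' ≤ p → I ≤ q.asIdeal → p' ≤ q →
      (s : WithBot ℕ∞) < ((LocCoh.depth (Localization.AtPrime p'.asIdeal)
        (LocalizedModule p'.asIdeal.primeCompl M) : ℕ∞) : WithBot ℕ∞) +
        Order.krullDim (Set.Icc p' q)) :
    ∃ f : A, f ∉ p.asIdeal ∧ ∀ i : ℕ, i ≤ s → ∀ x : LocCoh.H I i M, f • x = 0 := by
  let T : Set (PrimeSpectrum A) := PrimeSpectrum.zeroLocus (I : Set A)
  let T' : Set (PrimeSpectrum A) := {P | ¬ P ≤ p}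
  have hT : StableUnderSpecialization T :=
    (PrimeSpectrum.isClosed_zeroLocus _).stableUnderSpecialization
  have hT' : StableUnderSpecialization T' := by
    intro P P' hPP' hP hle
    exact hP (((PrimeSpectrum.le_iff_specializes P P').mpr hPP').trans hle)
  obtain ⟨J, hJT', hJ⟩ := (faltings_module hω T T' hT hT' s M).2 (by
    intro p' q hp' hq hpq
    have hp'p : p' ≤ p := not_not.mp hp'
    have hIq : I ≤ q.asIdeal := by
      rwa [PrimeSpectrum.mem_zeroLocus, SetLike.coe_subset_coe] at hq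
    exact h p' q hp'p hIq hpq)
  have hJp : ¬ ((J : Set A) ⊆ p.asIdeal) := fun hle =>
    (hJT' (show p ∈ PrimeSpectrum.zeroLocus (J : Set A) from hle)) le_rfl
  obtain ⟨f, hfJ, hfp⟩ := Set.not_subset.mp hJp
  refine ⟨f, hfp, fun i hi x => ?_⟩
  have h1 := (kill_HT_iff_kill_HX (T := T) M J s).1 hJ (i : ℤ) (by omega) f hfJ
  have h2 := smul_HDI_eq_zero_of_HX I f (Dual.inD A M) (i : ℤ) h1
  obtain ⟨e⟩ := Groth.Agent.H9.LD.nonempty_hdi_inD_equiv_H I i M
  have := h2 (e.symm x)
  rw [← map_smul] at this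
  exact e.symm.injective (this.trans (map_zero _).symm)

end Groth.Agent.H2.HT
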