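import Mathlib
import Groth.Agent.H2.HT.ComplKill
import Groth.Agent.H2.HT.FaltingsModule
import Groth.Agent.H9.DC.CechCompletion
import Groth.Agent.H9.RH.HDEquiv
import Groth.Agent.S11623

/-!
# Annihilators of the cohomology of the derived completion of `RΓ_m(M)`  (helper2)

`exists_kill_completion`: statement S8794.
-/

set_option autoImplicit false
set_option maxHeartbeats 800000
set_option linter.unusedSectionVars false
set_option linter.style.haveILetI false

universe u

open CategoryTheory CategoryTheory.Limits Opposite Pretriangulated DerivedCategory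

attribute [local instance] HasDerivedCategory.standard

namespace Groth.Agent.H2.HT.CK

open Groth.Agent.H2.DualCx Groth.Agent.H2.HT IsLocalRing

variable {A : Type u} [CommRing A] [IsNoetherianRing A]

/-- the extended Čech complex of `A` lies in `D^{≤ d}` when `cd(A, I) ≤ d` -/
theorem isLE_Q_extCech (I : Ideal A) (d : ℕ) (hcd : LocCoh.CdLE A I d) (fs : List A)
    (hfs : fs ≠ []) (hI : Ideal.span {x : A | x ∈ fs} = I) :
    (Q.obj (DerCA.extCech (ModuleCat.of A A) fs) : Dual.D A).IsLE d := by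
  rw [DerivedCategory.isLE_iff]
  intro i hi
  obtain ⟨k, rfl⟩ : ∃ k : ℕ, i = (k : ℤ) := ⟨i.toNat, by omega⟩
  have hk : d < k := by exact_mod_cast hi
  obtain ⟨e⟩ := Groth.Agent.S11623.result A fs hfs A k
  rw [hI] at e
  haveI : Subsingleton (LocCoh.H I k A) := hcd A k hk
  have hz : IsZero ((localCohomology I k).obj (ModuleCat.of A A)) :=
    ModuleCat.isZero_of_subsingleton _
  exact (hz.of_iso e).of_iso
    ((homologyFunctorFactors (ModuleCat.{u} A) (k : ℤ)).app _)

variable {ω : Dual.D A} (hω : Dual.IsDualizing A ω)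

include hω in
/-- Faltings: an element outside `p` killing `H^j_m(M)` for `j ≤ n` -/
theorem exists_kill_HDI_closed [IsLocalRing A] (M : Type u) [AddCommGroup M] [Module A M]
    [Module.Finite A M] (p : PrimeSpectrum A) (n : ℕ)
    (h : (((n : ℕ) : ℕ∞) : WithBot ℕ∞) <
      ((LocCoh.depth (Localization.AtPrime p.asIdeal)
        (LocalizedModule p.asIdeal.primeCompl M) : ℕ∞) : WithBot ℕ∞) +
      ringKrullDim (A ⧸ p.asIdeal)) :
    ∃ f : A, f ∉ p.asIdeal ∧ ∀ j : ℤ, j ≤ n →
      ∀ y : Dual2.HDI A (maximalIdeal A) (Dual.inD A M) j, f • y = 0 := by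
  let T : Set (PrimeSpectrum A) := PrimeSpectrum.zeroLocus (maximalIdeal A : Set A)
  let T' : Set (PrimeSpectrum A) := {P | ¬ P ≤ p}
  have hT : StableUnderSpecialization T :=
    (PrimeSpectrum.isClosed_zeroLocus _).stableUnderSpecialization
  have hT' : StableUnderSpecialization T' := by
    intro P P' hPP' hP hle
    exact hP (((PrimeSpectrum.le_iff_specializes P P').mpr hPP').trans hle)
  have hGE : (Dual.inD A M).IsGE 0 := inferInstance
  have hLE : (Dual.inD A M).IsLE 0 := inferInstance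
  have hpm : p ≤ closedPoint A := IsLocalRing.le_maximalIdeal p.2.ne_top
  -- dimension of `A/p`
  have hdim : ringKrullDim (A ⧸ p.asIdeal) =
      (((topDeg hω (closedPoint A) - topDeg hω p).toNat : ℕ) : WithBot ℕ∞) := by
    rw [ringKrullDim_quotient, ← krullDim_Icc_eq hω hpm]
    have hset : PrimeSpectrum.zeroLocus (p.asIdeal : Set A) = Set.Icc p (closedPoint A) := by
      ext P
      rw [PrimeSpectrum.mem_zeroLocus, SetLike.coe_subset_coe, Set.mem_Icc]
      exact ⟨fun h => ⟨h, IsLocalRing.le_maximalIdeal P.2.ne_top⟩, fun h => h.1⟩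
    rw [hset]
  rw [hdim] at h
  have h' : ((n : ℕ) : WithBot ℕ∞) <
      ((LocCoh.depth (Localization.AtPrime p.asIdeal)
        (LocalizedModule p.asIdeal.primeCompl M) : ℕ∞) : WithBot ℕ∞) +
      (((topDeg hω (closedPoint A) - topDeg hω p).toNat : ℕ) : WithBot ℕ∞) := h
  rw [withBot_lt_iff] at h'
  have hmono := topDeg_mono hω hpm
  have hh : (((topDeg hω (closedPoint A) - topDeg hω p).toNat : ℕ) : ℤ) =
      topDeg hω (closedPoint A) - topDeg hω p := by omega
  -- at `p`
  have hatp : ∀ i : ℤ, i ≤ n →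
      p ∉ Module.support A (Dual.inD A M ⟶ ω⟦topDeg hω (closedPoint A) - i⟧) := by
    intro i hi
    have h1 := (locKill_inD_iff_depth hω p M
      ((n : ℤ) - ((topDeg hω (closedPoint A) - topDeg hω p).toNat : ℕ))).2 h'
      (i - (topDeg hω (closedPoint A) - topDeg hω p)) (by omega)
    exact (notMem_support_hom_iff hω p (Dual.inD A M) 0 0 hGE hLE (finite_HD_inD M)
      (i - (topDeg hω (closedPoint A) - topDeg hω p)) (topDeg hω (closedPoint A) - i)
      (by omega)).2 h1
  obtain ⟨J, hJT', hJ⟩ := (faltings_general hω (Dual.inD A M) 0 (finite_HD_inD M) (T := T) T'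
      hT hT' (n : ℤ)).2 (by
    intro p' q hp' hq hp'q i hi
    have hp'p : p' ≤ p := not_not.mp hp'
    have hq' : q = closedPoint A := by
      apply PrimeSpectrum.ext
      have h1 : maximalIdeal A ≤ q.asIdeal := by
        rwa [PrimeSpectrum.mem_zeroLocus, SetLike.coe_subset_coe] at hq
      exact ((IsLocalRing.maximalIdeal.isMaximal A).eq_of_le q.2.ne_top h1).symm
    subst hq'
    refine (notMem_support_hom_iff hω p' (Dual.inD A M) 0 0 hGE hLE (finite_HD_inD M)
      (i - (topDeg hω (closedPoint A) - topDeg hω p')) (topDeg hω (closedPoint A) - i)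
      (by omega)).1 ?_
    intro hmem
    exact hatp i hi (Module.mem_support_mono hp'p hmem))
  have hJp : ¬ ((J : Set A) ⊆ p.asIdeal) := fun hle =>
    (hJT' (show p ∈ PrimeSpectrum.zeroLocus (J : Set A) from hle)) le_rfl
  obtain ⟨f, hfJ, hfp⟩ := Set.not_subset.mp hJp
  refine ⟨f, hfp, fun j hj y => ?_⟩
  exact smul_HDI_eq_zero_of_HX (maximalIdeal A) f (Dual.inD A M) j
    (fun x => hJ j hj f hfJ x) y

include hω in
/-- **S8794** -/
theorem exists_kill_completion [IsLocalRing A] (I : Ideal A)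
    [DRing.HasRgammaI (IsLocalRing.maximalIdeal A)] [DRing.HasDerivedCompletion I]
    (M : Type u) [AddCommGroup M] [Module A M] [Module.Finite A M] (p : PrimeSpectrum A)
    (s d : ℕ) (h2 : LocCoh.CdLE A I d)
    (h3 : (((d + s : ℕ) : ℕ∞) : WithBot ℕ∞) <
      ((LocCoh.depth (Localization.AtPrime p.asIdeal)
        (LocalizedModule p.asIdeal.primeCompl M) : ℕ∞) : WithBot ℕ∞) +
      ringKrullDim (A ⧸ p.asIdeal)) :
    ∃ f : A, f ∉ p.asIdeal ∧ ∀ i : ℤ, i ≤ s →
      ∀ x : Dual.HD A ((DRing.derivedCompletion I).obj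
        ((DRing.RgammaI (IsLocalRing.maximalIdeal A)).obj (Dual.inD A M))).obj i, f • x = 0 := by
  classical
  obtain ⟨f, hfp, hf⟩ := exists_kill_HDI_closed hω M p (d + s) h3
  -- the complex `K = RΓ_m(M)`
  let K : Dual.D A := (DRing.RgammaI (IsLocalRing.maximalIdeal A)).obj (Dual.inD A M)
  have hKkill : ∀ j : ℤ, j ≤ ((d + s : ℕ) : ℤ) → ∀ x : Dual.HD A K j, f • x = 0 := by
    intro j hj x
    obtain ⟨e⟩ := Groth.Agent.H9.RG.nonempty_hd_equiv_hdi (maximalIdeal A) j (Dual.inD A M)
    have := hf j hj (e x)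
    rw [← map_smul] at this
    exact e.injective (this.trans (map_zero _).symm)
  haveI hKGE : K.IsGE 0 := by
    rw [DerivedCategory.isGE_iff]
    intro j hj
    obtain ⟨e⟩ := Groth.Agent.H9.RG.nonempty_hd_equiv_hdi (maximalIdeal A) j (Dual.inD A M)
    haveI : (Dual.inD A M).IsGE 0 := inferInstance
    haveI := subsingleton_HX_of_isGE
      (T := PrimeSpectrum.zeroLocus (maximalIdeal A : Set A)) (Dual.inD A M) 0 j hj
    haveI : Subsingleton (Dual2.HDI A (maximalIdeal A) (Dual.inD A M) j) := by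
      refine ⟨fun y y' => ?_⟩
      have h1 : ∀ z : Dual2.HDI A (maximalIdeal A) (Dual.inD A M) j, z = 0 := by
        intro z
        have := smul_HDI_eq_zero_of_HX (maximalIdeal A) (1 : A) (Dual.inD A M) j
          (fun x => Subsingleton.elim _ _) z
        rwa [one_smul] at this
      rw [h1 y, h1 y']
    haveI : Subsingleton (Dual.HD A K j) := e.toEquiv.subsingleton
    exact ModuleCat.isZero_of_subsingleton _
  -- generators of `I`
  obtain ⟨gs, hgs⟩ : ∃ gs : Finset A, Ideal.span (gs : Set A) = I :=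
    (IsNoetherian.noetherian I)
  let fs : List A := 0 :: gs.toList
  have hfs : fs ≠ [] := List.cons_ne_nil _ _
  have hI : Ideal.span {x : A | x ∈ fs} = I := by
    have : {x : A | x ∈ fs} = insert (0 : A) (gs : Set A) := by
      ext x
      simp [fs]
    rw [this, Ideal.span_insert_zero, hgs]
  let Č : DRing.Cx A := DerCA.extCech (ModuleCat.of A A) fs
  haveI hC : (Q.obj Č : Dual.D A).IsLE ((d : ℕ) : ℤ) := isLE_Q_extCech I d h2 fs hfs hI
  obtain ⟨N, hN⟩ := exists_pow_kill_hom f K 0 ((d + s : ℕ) : ℤ) hKkill (Q.obj Č) (d : ℤ)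
  refine ⟨f ^ N, fun hmem => hfp (p.2.mem_of_pow_mem N hmem), fun i hi x => ?_⟩
  haveI := Groth.Agent.H9.RH.hasRHomCx Č
  obtain ⟨e1⟩ := Groth.Agent.H9.DC.nonempty_derivedCompletion_iso_RHomCx_extCech fs I hI K
  obtain ⟨e2⟩ := Groth.Agent.H9.RH.nonempty_HD_RHomCx_equiv Č K i
  let e3 : Dual.HD A ((DRing.derivedCompletion I).obj K).obj i ≃ₗ[A]
      Dual.HD A ((DRing.RHomCx Č).obj K) i :=
    ((homologyFunctor (ModuleCat.{u} A) i).mapIso e1).toLinearEquiv
  have h4 := hN i (by push_cast; omega) (e2 (e3 x))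
  rw [← map_smul, ← map_smul] at h4
  exact e3.injective (e2.injective (h4.trans ((map_zero e2).symm.trans
    (congrArg e2 (map_zero e3).symm))))

end Groth.Agent.H2.HT.CK
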