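import Mathlib
import Groth.Agent.H2.HT.ComplKillMain
import Groth.Agent.H9.LD.TorsionHom
import Groth.Agent.H9.LD.HDICompare
import Groth.Prelude.Def_Formal2

/-!
# Annihilators of the cohomology of the derived completion of `RΓ_J(M)`  (helper2)

`exists_kill_completion_J`: statement S8793.
-/

set_option autoImplicit false
set_option maxHeartbeats 800000
set_option linter.unusedSectionVars false
set_option linter.style.haveILetI false

universe u

open CategoryTheory CategoryTheory.Limits Opposite Pretriangulated DerivedCategory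

attribute [local instance] HasDerivedCategory.standard

namespace Groth.Agent.H2.HT.CK

open Groth.Agent.H2.DualCx Groth.Agent.H2.HT IsLocalRing Groth.Agent.H9.RG Groth.Agent.H9.LD

variable {A : Type u} [CommRing A]

/-- `dim (A/p)_q` is the Krull dimension of the interval `[p, q]` -/
theorem dimBetween_eq (p q : PrimeSpectrum A) (hpq : p ≤ q) :
    Formal2.dimBetween A p.asIdeal q.asIdeal = Order.krullDim (Set.Icc p q) := by
  show ringKrullDim (Localization.AtPrime q.asIdeal ⧸
    p.asIdeal.map (algebraMap A (Localization.AtPrime q.asIdeal))) = _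
  rw [ringKrullDim_quotient]
  apply le_antisymm
  · let φ : ↥(PrimeSpectrum.zeroLocus
        ((p.asIdeal.map (algebraMap A (Localization.AtPrime q.asIdeal)) :
          Ideal (Localization.AtPrime q.asIdeal)) : Set (Localization.AtPrime q.asIdeal))) →
        ↥(Set.Icc p q) := fun P' =>
      ⟨⟨P'.1.asIdeal.comap (algebraMap A (Localization.AtPrime q.asIdeal)), inferInstance⟩, by
        constructor
        · show p.asIdeal ≤ _
          have h1 : p.asIdeal.map (algebraMap A (Localization.AtPrime q.asIdeal)) ≤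
              P'.1.asIdeal := by
            have := P'.2
            rwa [PrimeSpectrum.mem_zeroLocus, SetLike.coe_subset_coe] at this
          exact Ideal.map_le_iff_le_comap.1 h1
        · show P'.1.asIdeal.comap (algebraMap A (Localization.AtPrime q.asIdeal)) ≤ q.asIdeal
          intro x hx
          by_contra hxq
          have hd := ((IsLocalization.isPrime_iff_isPrime_disjoint q.asIdeal.primeCompl
            (Localization.AtPrime q.asIdeal) P'.1.asIdeal).1 P'.1.2).2
          exact Set.disjoint_left.1 hd hxq hx⟩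
    refine Order.krullDim_le_of_strictMono φ ?_
    intro P' Q' hlt
    refine lt_of_le_of_ne ?_ ?_
    · show P'.1.asIdeal.comap _ ≤ Q'.1.asIdeal.comap _
      exact Ideal.comap_mono hlt.le
    · intro heq
      have h1 : P'.1.asIdeal.comap (algebraMap A (Localization.AtPrime q.asIdeal)) =
          Q'.1.asIdeal.comap (algebraMap A (Localization.AtPrime q.asIdeal)) :=
        congrArg (fun t : ↥(Set.Icc p q) => t.1.asIdeal) heq
      have h2 : P'.1.asIdeal = Q'.1.asIdeal :=
        (IsLocalization.map_under q.asIdeal.primeCompl (Localization.AtPrime q.asIdeal) P'.1.asIdeal).symm.trans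
          ((congrArg (Ideal.map (algebraMap A (Localization.AtPrime q.asIdeal))) h1).trans
            (IsLocalization.map_under q.asIdeal.primeCompl (Localization.AtPrime q.asIdeal) Q'.1.asIdeal))
      exact hlt.ne (Subtype.ext (PrimeSpectrum.ext h2))
  · have hdisj : ∀ P : ↥(Set.Icc p q),
        Disjoint (q.asIdeal.primeCompl : Set A) (P.1.asIdeal : Set A) := by
      intro P
      rw [Set.disjoint_left]
      intro x hx hxP
      exact hx (P.2.2 hxP)
    let ψ : ↥(Set.Icc p q) → ↥(PrimeSpectrum.zeroLocus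
        ((p.asIdeal.map (algebraMap A (Localization.AtPrime q.asIdeal)) :
          Ideal (Localization.AtPrime q.asIdeal)) : Set (Localization.AtPrime q.asIdeal))) :=
      fun P => ⟨⟨P.1.asIdeal.map (algebraMap A (Localization.AtPrime q.asIdeal)),
        IsLocalization.isPrime_of_isPrime_disjoint q.asIdeal.primeCompl
          (Localization.AtPrime q.asIdeal) P.1.asIdeal P.1.2 (hdisj P)⟩, by
        rw [PrimeSpectrum.mem_zeroLocus, SetLike.coe_subset_coe]
        exact Ideal.map_mono P.2.1⟩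
    refine Order.krullDim_le_of_strictMono ψ ?_
    intro P Q hlt
    refine lt_of_le_of_ne ?_ ?_
    · show P.1.asIdeal.map _ ≤ Q.1.asIdeal.map _
      exact Ideal.map_mono hlt.le
    · intro heq
      have h1 : P.1.asIdeal.map (algebraMap A (Localization.AtPrime q.asIdeal)) =
          Q.1.asIdeal.map (algebraMap A (Localization.AtPrime q.asIdeal)) :=
        congrArg (fun t : ↥(PrimeSpectrum.zeroLocus
        ((p.asIdeal.map (algebraMap A (Localization.AtPrime q.asIdeal)) :
          Ideal (Localization.AtPrime q.asIdeal)) : Set (Localization.AtPrime q.asIdeal))) =>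
          t.1.asIdeal) heq
      have h2 : P.1.asIdeal = Q.1.asIdeal :=
        (IsLocalization.under_map_of_isPrime_disjoint q.asIdeal.primeCompl
          (Localization.AtPrime q.asIdeal) P.1.2 (hdisj P)).symm.trans
          ((congrArg (Ideal.comap (algebraMap A (Localization.AtPrime q.asIdeal))) h1).trans
            (IsLocalization.under_map_of_isPrime_disjoint q.asIdeal.primeCompl
              (Localization.AtPrime q.asIdeal) Q.1.2 (hdisj Q)))
      exact hlt.ne (Subtype.ext (PrimeSpectrum.ext h2))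

variable [IsNoetherianRing A]

/-- `RΓ_I ∘ RΓ_J ≅ RΓ_{J + I}` on objects -/
theorem nonempty_RgammaI_RgammaI_iso (I J : Ideal A) [DRing.HasRgammaI I] [DRing.HasRgammaI J]
    [DRing.HasRgammaI (J ⊔ I)] (K : Dual.D A) :
    Nonempty ((DRing.RgammaI I).obj ((DRing.RgammaI J).obj K) ≅
      (DRing.RgammaI (J ⊔ I)).obj K) := by
  obtain ⟨E, hE, hinj, ⟨e⟩⟩ := Groth.Agent.H9.RG.exists_rep K
  haveI := isIso_u J E hE
  haveI := isIso_u (J ⊔ I) E hE
  haveI := isIso_u_of_termInj I ((Γc J).obj E) (termInj_Γc J hinj)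
  exact ⟨(DRing.RgammaI I).mapIso ((DRing.RgammaI J).mapIso e ≪≫ (asIso (u J E)).symm) ≪≫
    (asIso (u I ((Γc J).obj E))).symm ≪≫ Q.mapIso (θ J I E) ≪≫ asIso (u (J ⊔ I) E) ≪≫
    (DRing.RgammaI (J ⊔ I)).mapIso e.symm⟩

/-- the extended Čech complex has `I`-power torsion cohomology -/
theorem torsP_Q_extCech (fs : List A) (I : Ideal A) (hI : Ideal.span {x : A | x ∈ fs} = I) :
    TorsP I (Q.obj (DerCA.extCech (ModuleCat.of A A) fs) : Dual.D A) := by
  refine (cohTors_iff I _).1 (fun n x => ?_)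
  let Ann : Ideal A := LinearMap.ker (LinearMap.toSpanSingleton A _ x)
  have hle : I ≤ Ann.radical := by
    rw [← hI, Ideal.span_le]
    intro g hg
    obtain ⟨k, hk⟩ := Groth.Agent.H46.extCech_homology_torsion (ModuleCat.of A A) fs g hg n x
    exact ⟨k, by
      show LinearMap.toSpanSingleton A _ x (g ^ k) = 0
      rw [LinearMap.toSpanSingleton_apply]
      exact hk⟩
  obtain ⟨N, hN⟩ := Ideal.exists_pow_le_of_le_radical_of_fg hle (IsNoetherian.noetherian I)
  refine ⟨N, fun a ha => ?_⟩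
  have := hN ha
  have h1 : LinearMap.toSpanSingleton A _ x a = 0 := this
  rwa [LinearMap.toSpanSingleton_apply] at h1

section RG

variable (I : Ideal A) [DRing.HasRgammaI I] (M : Type u) [AddCommGroup M] [Module A M]

theorem isGE_RgammaI_inD : ((DRing.RgammaI I).obj (Dual.inD A M)).IsGE 0 := by
  rw [DerivedCategory.isGE_iff]
  intro j hj
  obtain ⟨e⟩ := Groth.Agent.H9.RG.nonempty_hd_equiv_hdi I j (Dual.inD A M)
  haveI : (Dual.inD A M).IsGE 0 := inferInstance
  haveI := subsingleton_HX_of_isGE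
    (T := PrimeSpectrum.zeroLocus (I : Set A)) (Dual.inD A M) 0 j hj
  haveI : Subsingleton (Dual2.HDI A I (Dual.inD A M) j) := by
    refine ⟨fun y y' => ?_⟩
    have h1 : ∀ z : Dual2.HDI A I (Dual.inD A M) j, z = 0 := by
      intro z
      have := smul_HDI_eq_zero_of_HX I (1 : A) (Dual.inD A M) j
        (fun x => Subsingleton.elim _ _) z
      rwa [one_smul] at this
    rw [h1 y, h1 y']
  haveI : Subsingleton (Dual.HD A ((DRing.RgammaI I).obj (Dual.inD A M)) j) :=
    e.toEquiv.subsingleton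
  exact ModuleCat.isZero_of_subsingleton _

theorem kill_HD_RgammaI_inD (f : A) (n : ℕ)
    (hf : ∀ i : ℕ, i ≤ n → ∀ x : LocCoh.H I i M, f • x = 0) (j : ℤ) (hj : j ≤ n)
    (x : Dual.HD A ((DRing.RgammaI I).obj (Dual.inD A M)) j) : f • x = 0 := by
  by_cases hj0 : j < 0
  · haveI := isGE_RgammaI_inD I M
    haveI := Groth.Agent.H9.DCF.subsingleton_HD_of_isGE
      ((DRing.RgammaI I).obj (Dual.inD A M)) 0 j hj0
    exact Subsingleton.elim _ _
  · obtain ⟨i, rfl⟩ : ∃ i : ℕ, j = (i : ℤ) := ⟨j.toNat, by omega⟩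
    obtain ⟨e⟩ := Groth.Agent.H9.RG.nonempty_hd_equiv_hdi I (i : ℤ) (Dual.inD A M)
    obtain ⟨e'⟩ := Groth.Agent.H9.LD.nonempty_hdi_inD_equiv_H I i M
    have := hf i (by omega) (e' (e x))
    rw [← map_smul, ← map_smul] at this
    exact e.injective (e'.injective (this.trans ((map_zero e').symm.trans
      (congrArg e' (map_zero e).symm))))

end RG

variable {ω : Dual.D A} (hω : Dual.IsDualizing A ω)

include hω in
/-- **S8793** -/
theorem exists_kill_completion_J (I J : Ideal A) [DRing.HasRgammaI J]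
    [DRing.HasDerivedCompletion I] (M : Type u) [AddCommGroup M] [Module A M]
    [Module.Finite A M] (p : PrimeSpectrum A) (s d : ℕ)
    (h2 : ¬ (J ≤ p.asIdeal ∧ I ≤ p.asIdeal)) (h3 : LocCoh.CdLE A I d)
    (h4 : ∀ p' : PrimeSpectrum A, p' ≤ p → ∀ q : PrimeSpectrum A, p' ≤ q → J ≤ q.asIdeal →
      I ≤ q.asIdeal → (((d + s : ℕ) : ℕ∞) : WithBot ℕ∞) <
        ((LocCoh.depth (Localization.AtPrime p'.asIdeal)
          (LocalizedModule p'.asIdeal.primeCompl M) : ℕ∞) : WithBot ℕ∞) +
        Formal2.dimBetween A p'.asIdeal q.asIdeal) :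
    ∃ f : A, f ∉ p.asIdeal ∧ ∀ i : ℤ, i ≤ s →
      ∀ x : Dual.HD A ((DRing.derivedCompletion I).obj
        ((DRing.RgammaI J).obj (Dual.inD A M))).obj i, f • x = 0 := by
  classical
  have hp : ¬ (J ⊔ I ≤ p.asIdeal) := fun h => h2 ⟨le_sup_left.trans h, le_sup_right.trans h⟩
  obtain ⟨f, hfp, hf⟩ := exists_kill_H_away hω (J ⊔ I) M p hp (d + s) (by
    intro p' q hp'p hq hp'q
    have := h4 p' hp'p q hp'q (le_sup_left.trans hq) (le_sup_right.trans hq)
    rw [dimBetween_eq p' q hp'q] at this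
    exact this)
  haveI := Groth.Agent.H9.RG.hasRgammaI I
  haveI := Groth.Agent.H9.RG.hasRgammaI (J ⊔ I)
  let K : Dual.D A := (DRing.RgammaI J).obj (Dual.inD A M)
  let K₂ : Dual.D A := (DRing.RgammaI I).obj K
  obtain ⟨e₀⟩ := nonempty_RgammaI_RgammaI_iso I J (Dual.inD A M)
  haveI hK₂GE : K₂.IsGE 0 := by
    haveI := isGE_RgammaI_inD (J ⊔ I) M
    exact (DerivedCategory.TStructure.t (C := ModuleCat.{u} A)).isGE_of_iso e₀.symm 0
  have hK₂kill : ∀ j : ℤ, j ≤ ((d + s : ℕ) : ℤ) → ∀ x : Dual.HD A K₂ j, f • x = 0 := by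
    intro j hj x
    let e1 : Dual.HD A K₂ j ≃ₗ[A] Dual.HD A ((DRing.RgammaI (J ⊔ I)).obj (Dual.inD A M)) j :=
      ((homologyFunctor (ModuleCat.{u} A) j).mapIso e₀).toLinearEquiv
    have := kill_HD_RgammaI_inD (J ⊔ I) M f (d + s) hf j hj (e1 x)
    rw [← map_smul] at this
    exact e1.injective (this.trans (map_zero e1).symm)
  -- generators of `I`
  obtain ⟨gs, hgs⟩ : ∃ gs : Finset A, Ideal.span (gs : Set A) = I :=
    (IsNoetherian.noetherian I)
  let fs : List A := 0 :: gs.toList
  have hfs : fs ≠ [] := List.cons_ne_nil _ _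
  have hI : Ideal.span {x : A | x ∈ fs} = I := by
    have : {x : A | x ∈ fs} = insert (0 : A) (gs : Set A) := by
      ext x
      simp [fs]
    rw [this, Ideal.span_insert_zero, hgs]
  let Č : DRing.Cx A := DerCA.extCech (ModuleCat.of A A) fs
  haveI hC : (Q.obj Č : Dual.D A).IsLE ((d : ℕ) : ℤ) := isLE_Q_extCech I d h3 fs hfs hI
  have hCt : TorsP I (Q.obj Č : Dual.D A) := torsP_Q_extCech fs I hI
  obtain ⟨N, hN⟩ := exists_pow_kill_hom f K₂ 0 ((d + s : ℕ) : ℤ) hK₂kill (Q.obj Č) (d : ℤ)
  refine ⟨f ^ N, fun hmem => hfp (p.2.mem_of_pow_mem N hmem), fun i hi x => ?_⟩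
  haveI := Groth.Agent.H9.RH.hasRHomCx Č
  obtain ⟨e1⟩ := Groth.Agent.H9.DC.nonempty_derivedCompletion_iso_RHomCx_extCech fs I hI K
  obtain ⟨e2⟩ := Groth.Agent.H9.RH.nonempty_HD_RHomCx_equiv Č K i
  let e3 : Dual.HD A ((DRing.derivedCompletion I).obj K).obj i ≃ₗ[A]
      Dual.HD A ((DRing.RHomCx Č).obj K) i :=
    ((homologyFunctor (ModuleCat.{u} A) i).mapIso e1).toLinearEquiv
  -- every `α : Q Č ⟶ K[i]` is killed by `f ^ N`
  have hα : ∀ α : (Q.obj Č : Dual.D A) ⟶ K⟦i⟧, f ^ N • α = 0 := by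
    intro α
    let L : Dual.D A := (Q.obj Č : Dual.D A)⟦-i⟧
    have hL : TorsP I L := torsP_shift I _ hCt (-i)
    let e : L⟦i⟧ ≅ (Q.obj Č : Dual.D A) :=
      (shiftFunctorCompIsoId (Dual.D A) (-i) i (by omega)).app _
    obtain ⟨γ, hγ⟩ := (shiftFunctor (Dual.D A) i).map_surjective (e.hom ≫ α)
    obtain ⟨β, hβ⟩ := (bijective_comp_ε I L K hL).2 γ
    dsimp only at hβ
    have h5 := hN i (by push_cast; omega) (e.inv ≫ β⟦i⟧')
    have h6 : α = (e.inv ≫ β⟦i⟧') ≫ ((DRing.RgammaIε I).app K)⟦i⟧' := by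
      rw [Category.assoc, ← Functor.map_comp, hβ, hγ, Iso.inv_hom_id_assoc]
    rw [h6, ← Linear.smul_comp, h5, zero_comp]
  have h4' := hα (e2 (e3 x))
  rw [← map_smul, ← map_smul] at h4'
  exact e3.injective (e2.injective (h4'.trans ((map_zero e2).symm.trans
    (congrArg e2 (map_zero e3).symm))))

end Groth.Agent.H2.HT.CK
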