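import Mathlib
import Groth.Agent.H2.HT.CechDCInd
import Groth.Agent.H2.HT.ComplKillJ
import Groth.Agent.H9.DC.GM

/-!
# `Q(extCech M fs) ≅ RΓ_J(M)` over `M`  (helper2)

Both `π : extCech M fs ⟶ M[0]` and `ε : RΓ_J(M) ⟶ M` are colocalisations of `M[0]` with respect
to the objects with `J`-power torsion cohomology.
-/

set_option autoImplicit false
set_option maxHeartbeats 800000
set_option linter.unusedSectionVars false
set_option linter.style.haveILetI false

universe u

open CategoryTheory CategoryTheory.Limits Pretriangulated DerivedCategory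

attribute [local instance] HasDerivedCategory.standard

namespace Groth.Agent.H2.HT.CDC

open Groth.Agent.H9.DC Groth.Agent.H9.RG Groth.Agent.H9.LD

variable {A : Type u} [CommRing A]

/-- `f` acts invertibly on the termwise localisation at `f` -/
theorem inv_Q_locCx (f : A) (X : DRing.Cx A) :
    Inv f (Q.obj ((DerCA.locCx (Submonoid.powers f)).obj X) : Dual.D A) := by
  show IsIso (f • 𝟙 (Q.obj ((DerCA.locCx (Submonoid.powers f)).obj X) : Dual.D A))
  have h1 : IsIso (f • 𝟙 ((DerCA.locCx (Submonoid.powers f)).obj X)) := by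
    have : ∀ n, IsIso ((f • 𝟙 ((DerCA.locCx (Submonoid.powers f)).obj X) :
        (DerCA.locCx (Submonoid.powers f)).obj X ⟶ _).f n) := by
      intro n
      rw [ConcreteCategory.isIso_iff_bijective]
      have hu : IsUnit ((algebraMap A (Module.End A
          (LocalizedModule (Submonoid.powers f) (X.X n)))) f) :=
        IsLocalizedModule.map_units (LocalizedModule.mkLinearMap (Submonoid.powers f) (X.X n))
          ⟨f, Submonoid.mem_powers f⟩
      exact (Module.End.isUnit_iff _).1 hu
    exact HomologicalComplex.Hom.isIso_of_components _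
  have h2 : Q.map (f • 𝟙 ((DerCA.locCx (Submonoid.powers f)).obj X)) =
      f • 𝟙 (Q.obj ((DerCA.locCx (Submonoid.powers f)).obj X) : Dual.D A) := by
    rw [Functor.map_smul, CategoryTheory.Functor.map_id]
  rw [← h2]
  infer_instance

variable [IsNoetherianRing A]

/-- the extended Čech complex of any module has `J`-power torsion cohomology -/
theorem torsP_Q_extCech' (M : ModuleCat.{u} A) (fs : List A) (J : Ideal A)
    (hJ : Ideal.span {x : A | x ∈ fs} = J) :
    TorsP J (Q.obj (DerCA.extCech M fs) : Dual.D A) := by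
  refine (cohTors_iff J _).1 (fun n x => ?_)
  let Ann : Ideal A := LinearMap.ker (LinearMap.toSpanSingleton A _ x)
  have hle : J ≤ Ann.radical := by
    rw [← hJ, Ideal.span_le]
    intro g hg
    obtain ⟨k, hk⟩ := Groth.Agent.H46.extCech_homology_torsion M fs g hg n x
    exact ⟨k, by
      show LinearMap.toSpanSingleton A _ x (g ^ k) = 0
      rw [LinearMap.toSpanSingleton_apply]
      exact hk⟩
  obtain ⟨N, hN⟩ := Ideal.exists_pow_le_of_le_radical_of_fg hle (IsNoetherian.noetherian J)
  refine ⟨N, fun a ha => ?_⟩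
  have := hN ha
  have h1 : LinearMap.toSpanSingleton A _ x a = 0 := this
  rwa [LinearMap.toSpanSingleton_apply] at h1

section

variable (J : Ideal A) [DRing.HasRgammaI J]

/-- for torsion `G`, maps to the cocone of `X ⟶ X_f` are maps to `X` -/
theorem bijective_comp_fst (f : A) (hf : f ∈ J) (X : DRing.Cx A) (G : Dual.D A)
    (hG : TorsP J G) :
    Function.Bijective (fun a : G ⟶ (Q.obj (CochainComplex.mappingCocone
        (DerCA.locCxUnit (Submonoid.powers f) X)) : Dual.D A) =>
      a ≫ Q.map (CochainComplex.mappingCocone.fst (DerCA.locCxUnit (Submonoid.powers f) X))) := by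
  set lam := DerCA.locCxUnit (Submonoid.powers f) X with hlam
  have hT := DerivedCategory.mappingCocone_triangle_distinguished lam
  have hperp : LPerp f G := lperp_of_torsP J hf G hG
  have hinv : Inv f (Q.obj ((DerCA.locCx (Submonoid.powers f)).obj X) : Dual.D A) :=
    inv_Q_locCx f X
  constructor
  · intro a a' haa'
    have h0 : (a - a') ≫ Q.map (CochainComplex.mappingCocone.fst lam) = 0 := by
      rw [Preadditive.sub_comp, sub_eq_zero]
      exact haa'
    obtain ⟨d, hd⟩ := Triangle.coyoneda_exact₂ _ (inv_rot_of_distTriang _ hT) (a - a') h0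
    have hd0 : d = 0 := hperp _ (hinv.shift (-1)) d
    rw [hd0, zero_comp] at hd
    exact sub_eq_zero.1 hd
  · intro b
    have h0 : b ≫ Q.map lam = 0 := hperp _ hinv _
    obtain ⟨a, ha⟩ := Triangle.coyoneda_exact₂ _ hT b h0
    exact ⟨a, ha.symm⟩

variable (M : ModuleCat.{u} A)

theorem bijective_comp_π : ∀ (fs : List A), (∀ f ∈ fs, f ∈ J) → ∀ (G : Dual.D A), TorsP J G →
    Function.Bijective (fun a : G ⟶ (Q.obj (DerCA.extCech M fs) : Dual.D A) =>
      a ≫ Q.map (π M fs)) := by
  intro fs
  induction fs with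
  | nil =>
    intro _ G _
    have : (fun a : G ⟶ (Q.obj (DerCA.extCech M []) : Dual.D A) => a ≫ Q.map (π M [])) =
        fun a => a := by
      funext a
      show a ≫ Q.map (𝟙 _) = a
      rw [CategoryTheory.Functor.map_id, Category.comp_id]
    rw [this]
    exact Function.bijective_id
  | cons f fs ih =>
    intro hfs G hG
    have h1 := bijective_comp_fst J f (hfs f List.mem_cons_self) (DerCA.extCech M fs) G hG
    have h2 := ih (fun g hg => hfs g (List.mem_cons_of_mem _ hg)) G hG
    have : (fun a : G ⟶ (Q.obj (DerCA.extCech M (f :: fs)) : Dual.D A) =>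
        a ≫ Q.map (π M (f :: fs))) =
        (fun a : G ⟶ (Q.obj (DerCA.extCech M fs) : Dual.D A) => a ≫ Q.map (π M fs)) ∘
        (fun a : G ⟶ (Q.obj (CochainComplex.mappingCocone
          (DerCA.locCxUnit (Submonoid.powers f) (DerCA.extCech M fs))) : Dual.D A) =>
        a ≫ Q.map (CochainComplex.mappingCocone.fst
          (DerCA.locCxUnit (Submonoid.powers f) (DerCA.extCech M fs)))) := by
      funext a
      show a ≫ Q.map (CochainComplex.mappingCocone.fst
        (DerCA.locCxUnit (Submonoid.powers f) (DerCA.extCech M fs)) ≫ π M fs) = _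
      rw [Functor.map_comp, ← Category.assoc]
      rfl
    rw [this]
    exact h2.comp h1

/-- `Q(extCech M fs) ≅ RΓ_J(M[0])`, compatibly with the maps to `M[0]` -/
theorem exists_iso_RgammaI (fs : List A) (hfs : Ideal.span {x : A | x ∈ fs} = J) :
    ∃ e : (Q.obj (DerCA.extCech M fs) : Dual.D A) ≅
        (DRing.RgammaI J).obj (Q.obj (sg.obj M)),
      e.hom ≫ (DRing.RgammaIε J).app (Q.obj (sg.obj M)) = Q.map (π M fs) := by
  have hmem : ∀ f ∈ fs, f ∈ J := fun f hf => by
    rw [← hfs]
    exact Ideal.subset_span hf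
  have hC : TorsP J (Q.obj (DerCA.extCech M fs) : Dual.D A) := torsP_Q_extCech' M fs J hfs
  have hR : TorsP J ((DRing.RgammaI J).obj (Q.obj (sg.obj M))) := torsP_RgammaI J _
  obtain ⟨a, ha⟩ := (bijective_comp_ε J _ (Q.obj (sg.obj M)) hC).2 (Q.map (π M fs))
  obtain ⟨b, hb⟩ := (bijective_comp_π J M fs hmem _ hR).2
    ((DRing.RgammaIε J).app (Q.obj (sg.obj M)))
  have ha' : a ≫ (DRing.RgammaIε J).app (Q.obj (sg.obj M)) = Q.map (π M fs) := ha
  have hb' : b ≫ Q.map (π M fs) = (DRing.RgammaIε J).app (Q.obj (sg.obj M)) := hb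
  refine ⟨⟨a, b, ?_, ?_⟩, ha'⟩
  · apply (bijective_comp_π J M fs hmem _ hC).1
    show (a ≫ b) ≫ Q.map (π M fs) = 𝟙 _ ≫ Q.map (π M fs)
    rw [Category.assoc, hb', ha', Category.id_comp]
  · apply (bijective_comp_ε J _ (Q.obj (sg.obj M)) hR).1
    show (b ≫ a) ≫ (DRing.RgammaIε J).app (Q.obj (sg.obj M)) =
      𝟙 _ ≫ (DRing.RgammaIε J).app (Q.obj (sg.obj M))
    rw [Category.assoc, ha', hb', Category.id_comp]

end

end Groth.Agent.H2.HT.CDC
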