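import Mathlib
import Groth.Agent.H2.HT.CechDCRG
import Groth.Agent.H2.HT.CechDCAlg

/-!
# `H^0` of the derived completion of `RΓ_J(M)` over an `I`-adically complete ring  (helper2)

Assembly for S13497.
-/

set_option autoImplicit false
set_option maxHeartbeats 800000
set_option linter.unusedSectionVars false
set_option linter.style.haveILetI false

universe u

open CategoryTheory CategoryTheory.Limits Pretriangulated DerivedCategory

attribute [local instance] HasDerivedCategory.standard

namespace Groth.Agent.H2.HT.CDC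

open Groth.Agent.H9.DC Groth.Agent.H9.DCF Groth.Agent.H9.RG Groth.Agent.H9.LD

variable {A : Type u} [CommRing A]

section Alg

variable [IsNoetherianRing A] (I : Ideal A) [IsAdicComplete I A]
  (M : Type u) [AddCommGroup M] [Module A M] [Module.Finite A M]

/-- Finite modules over a complete Noetherian ring are complete (as in helper19's `AffSysFF`). -/
theorem isAdicComplete_of_finite : IsAdicComplete I M := by
  haveI : IsHausdorff I M := IsHausdorff.of_le_jacobson I M (IsAdicComplete.le_jacobson_bot I)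
  haveI : IsPrecomplete I M := by
    rw [← AdicCompletion.of_surjective_iff]
    intro y
    obtain ⟨x, rfl⟩ := (AdicCompletion.ofTensorProductEquivOfFiniteNoetherian I M).surjective y
    induction x using TensorProduct.induction_on with
    | zero => exact ⟨0, by rw [map_zero, map_zero]⟩
    | add a b ha hb =>
      obtain ⟨m, hm⟩ := ha
      obtain ⟨m', hm'⟩ := hb
      exact ⟨m + m', by rw [map_add, map_add, hm, hm']⟩
    | tmul r m =>
      obtain ⟨r₀, rfl⟩ := AdicCompletion.of_surjective I A r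
      refine ⟨r₀ • m, ?_⟩
      rw [AdicCompletion.ofTensorProductEquivOfFiniteNoetherian_apply,
        AdicCompletion.ofTensorProduct_tmul, _root_.map_smul]
      have h1 : AdicCompletion.of I A r₀ = algebraMap A (AdicCompletion I A) r₀ := by
        rw [AdicCompletion.algebraMap_apply]
        rfl
      rw [h1, algebraMap_smul]
  exact {}

end Alg

/-- membership in `⋂ I^n N` is invariant under linear equivalences -/
lemma mem_iInf_smul_top_of_linearMap (I : Ideal A) {N N' : Type u} [AddCommGroup N] [Module A N]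
    [AddCommGroup N'] [Module A N'] (τ : N →ₗ[A] N') (z : N)
    (hz : z ∈ (⨅ n : ℕ, (I ^ n • ⊤ : Submodule A N))) :
    τ z ∈ (⨅ n : ℕ, (I ^ n • ⊤ : Submodule A N')) := by
  rw [Submodule.mem_iInf] at hz ⊢
  intro n
  have h1 : τ z ∈ Submodule.map τ (I ^ n • ⊤ : Submodule A N) := Submodule.mem_map_of_mem (hz n)
  rw [Submodule.map_smul''] at h1
  exact Submodule.smul_mono le_rfl le_top h1

lemma mem_iInf_smul_top_iff_of_linearEquiv (I : Ideal A) {N N' : Type u} [AddCommGroup N]
    [Module A N] [AddCommGroup N'] [Module A N'] (τ : N ≃ₗ[A] N') (z : N) :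
    z ∈ (⨅ n : ℕ, (I ^ n • ⊤ : Submodule A N)) ↔
      τ z ∈ (⨅ n : ℕ, (I ^ n • ⊤ : Submodule A N')) := by
  constructor
  · exact mem_iInf_smul_top_of_linearMap I τ.toLinearMap z
  · intro h
    have := mem_iInf_smul_top_of_linearMap I τ.symm.toLinearMap (τ z) h
    simpa using this

section Main

variable [IsNoetherianRing A] (I : Ideal A) [DRing.HasDerivedCompletion I]
  (M : Type u) [AddCommGroup M] [Module A M]

/-- `M ≃ H^0(M[0])` -/
noncomputable def σ₀ : M ≃ₗ[A] Dual.HD A (Dual.inD A M) 0 :=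
  ((singleFunctorCompHomologyFunctorIso (ModuleCat.{u} A) 0).app
    (ModuleCat.of A M)).symm.toLinearEquiv

/-- `M ⟶ H^0((M[0])^∧)` -/
noncomputable def ι₀ : M →ₗ[A] Dual.HD A (Cobj I (Dual.inD A M)) 0 :=
  ((homologyFunctor (ModuleCat.{u} A) 0).map
    (DRing.toDerivedCompletion I (Dual.inD A M))).hom ∘ₗ (σ₀ M).toLinearMap

lemma ι₀_apply (s : M) : ι₀ I M s =
    ((homologyFunctor (ModuleCat.{u} A) 0).map (DRing.toDerivedCompletion I (Dual.inD A M))).hom
      (((singleFunctorCompHomologyFunctorIso (ModuleCat.{u} A) 0).inv.app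
        (ModuleCat.of A M)).hom s) := rfl

theorem ι₀_bijective [IsAdicComplete I A] [Module.Finite A M] :
    Function.Bijective (ι₀ I M) := by
  haveI := isAdicComplete_of_finite I M
  have hPC : PC I (Dual.inD A M) :=
    PC_Q_single I (𝟭 _) flatTensor_id (ModuleCat.of A M)
  obtain ⟨e₀, he₀⟩ := hPC _ _ (isDC_toDerivedCompletion (Dual.inD A M)) 0
  let E := e₀.trans (congrA I (σ₀ M).symm)
  have hE : ∀ s : M, E (ι₀ I M s) = AdicCompletion.of I M s := by
    intro s
    show congrA I (σ₀ M).symm (e₀ _) = _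
    have h1 : e₀ (ι₀ I M s) = AdicCompletion.of I _ (σ₀ M s) := he₀ (σ₀ M s)
    rw [h1, congrA_of, LinearEquiv.symm_apply_apply]
  have hcomp : (E : _ → _) ∘ (ι₀ I M) = AdicCompletion.of I M := funext hE
  have hb : Function.Bijective ((E : _ → _) ∘ (ι₀ I M)) := by
    rw [hcomp]
    exact AdicCompletion.of_bijective I M
  exact (Function.Bijective.of_comp_iff' E.bijective _).1 hb

/-- the complex `(M[0])_f` -/
noncomputable abbrev Xf (f : A) : DRing.Cx A :=
  (DerCA.locCx (Submonoid.powers f)).obj (sg.obj (ModuleCat.of A M))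

/-- the localisation map `M[0] ⟶ (M[0])_f` in `D(A)` -/
noncomputable abbrev lamD (f : A) : Dual.inD A M ⟶ (Q.obj (Xf M f) : Dual.D A) :=
  Q.map (DerCA.locCxUnit (Submonoid.powers f) (sg.obj (ModuleCat.of A M)))

/-- the localisation map on `H^0` -/
noncomputable def loc₀ (f : A) : M →ₗ[A] Dual.HD A (Q.obj (Xf M f) : Dual.D A) 0 :=
  ((homologyFunctor (ModuleCat.{u} A) 0).map (lamD M f)).hom ∘ₗ (σ₀ M).toLinearMap

omit [IsNoetherianRing A] in
theorem isLocalizedModule_loc₀ (f : A) : IsLocalizedModule (Submonoid.powers f) (loc₀ M f) := by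
  set X := sg.obj (ModuleCat.of A M) with hX
  set lam := DerCA.locCxUnit (Submonoid.powers f) X with hlam
  have hnat := DerivedCategory.homologyFunctorFactors_hom_naturality lam 0
  have h2 : loc₀ M f = ((homologyFunctorFactors (ModuleCat.{u} A) 0).inv.app
        ((DerCA.locCx (Submonoid.powers f)).obj X)).hom ∘ₗ
      (HomologicalComplex.homologyMap lam 0).hom ∘ₗ
      (((homologyFunctorFactors (ModuleCat.{u} A) 0).hom.app X).hom ∘ₗ (σ₀ M).toLinearMap) := by
    apply LinearMap.ext
    intro x
    have e1 := congrArg (fun t => t.hom (σ₀ M x)) hnat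
    have e2 := congrArg (fun t => ((homologyFunctorFactors (ModuleCat.{u} A) 0).inv.app
        ((DerCA.locCx (Submonoid.powers f)).obj X)).hom t) e1
    have e3 : ∀ z, ((homologyFunctorFactors (ModuleCat.{u} A) 0).inv.app
        ((DerCA.locCx (Submonoid.powers f)).obj X)).hom
        (((homologyFunctorFactors (ModuleCat.{u} A) 0).hom.app
        ((DerCA.locCx (Submonoid.powers f)).obj X)).hom z) = z := by
      intro z
      have := congrArg (fun t => t.hom z) (Iso.hom_inv_id_app
        (homologyFunctorFactors (ModuleCat.{u} A) 0) ((DerCA.locCx (Submonoid.powers f)).obj X))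
      exact this
    exact (e3 _).symm.trans e2
  rw [h2]
  have hb1 : Function.Bijective ((homologyFunctorFactors (ModuleCat.{u} A) 0).inv.app
      ((DerCA.locCx (Submonoid.powers f)).obj X)).hom :=
    (ConcreteCategory.isIso_iff_bijective _).mp inferInstance
  have hb2 : Function.Bijective
      (((homologyFunctorFactors (ModuleCat.{u} A) 0).hom.app X).hom ∘ₗ (σ₀ M).toLinearMap) := by
    have hb3 : Function.Bijective ((homologyFunctorFactors (ModuleCat.{u} A) 0).hom.app X).hom :=
      (ConcreteCategory.isIso_iff_bijective _).mp inferInstance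
    exact hb3.comp (σ₀ M).bijective
  refine (IsLocalizedModule.comp_iff_of_bijective_left (Submonoid.powers f) _ hb1).mpr ?_
  refine (IsLocalizedModule.comp_iff_of_bijective_right (Submonoid.powers f) _ hb2).mpr ?_
  exact Groth.Agent.H46.isLocalizedModule_homologyMap_locCxUnit (Submonoid.powers f) X 0

/-- the image of `s ∈ M` dies in `H^0` of the completion of `(M[0])_f` iff `s/1 ∈ ⋂ I^n M_f` -/
theorem HC_lamD_ι₀_eq_zero_iff [Module.Finite A M] (f : A) (s : M) :
    HC I 0 (lamD M f) (ι₀ I M s) = 0 ↔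
      LocalizedModule.mkLinearMap (Submonoid.powers f) M s ∈
        (⨅ n : ℕ, (I ^ n • ⊤ : Submodule A (LocalizedModule (Submonoid.powers f) M))) := by
  haveI := isLocalizedModule_loc₀ M f
  -- naturality of the unit
  have hnat : HC I 0 (lamD M f) (ι₀ I M s) =
      ((homologyFunctor (ModuleCat.{u} A) 0).map
        (DRing.toDerivedCompletion I (Q.obj (Xf M f) : Dual.D A))).hom (loc₀ M f s) := by
    have h1 := η_naturality I (lamD M f)
    have h2 := congrArg (fun t => ((homologyFunctor (ModuleCat.{u} A) 0).map t).hom (σ₀ M s)) h1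
    simp only [Functor.map_comp] at h2
    exact h2.symm
  rw [hnat]
  have hPC : PC I (Q.obj (Xf M f) : Dual.D A) :=
    PC_Q_single I (DerCA.locFunctor (Submonoid.powers f)) (flatTensor_loc _) (ModuleCat.of A M)
  obtain ⟨e₁, he₁⟩ := hPC _ _ (isDC_toDerivedCompletion (Q.obj (Xf M f) : Dual.D A)) 0
  have h3 : ((homologyFunctor (ModuleCat.{u} A) 0).map
      (DRing.toDerivedCompletion I (Q.obj (Xf M f) : Dual.D A))).hom (loc₀ M f s) = 0 ↔
      AdicCompletion.of I _ (loc₀ M f s) = 0 := by
    rw [← he₁ (loc₀ M f s)]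
    exact (LinearEquiv.map_eq_zero_iff e₁).symm
  rw [h3, adicCompletion_of_eq_zero_iff]
  let τ := IsLocalizedModule.linearEquiv (Submonoid.powers f) (loc₀ M f)
    (LocalizedModule.mkLinearMap (Submonoid.powers f) M)
  have hτ : τ (loc₀ M f s) = LocalizedModule.mkLinearMap (Submonoid.powers f) M s :=
    IsLocalizedModule.linearEquiv_apply _ _ _ s
  rw [mem_iInf_smul_top_iff_of_linearEquiv I τ, hτ]

omit [IsNoetherianRing A] in
lemma HC_bijective_of_iso {K L : Dual.D A} (e : K ≅ L) (n : ℤ) :
    Function.Bijective (HC I n e.hom) := by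
  refine Function.bijective_iff_has_inverse.2 ⟨HC I n e.inv, fun x => ?_, fun x => ?_⟩
  · rw [← HC_comp, e.hom_inv_id, HC_id]
  · rw [← HC_comp, e.inv_hom_id, HC_id]

/-- **S13497** in the notation of this file -/
theorem main_H0 [IsAdicComplete I A] (J : Ideal A) [DRing.HasRgammaI J] [Module.Finite A M] :
    Function.Injective (HC I 0 ((DRing.RgammaIε J).app (Dual.inD A M))) ∧
    Set.range (HC I 0 ((DRing.RgammaIε J).app (Dual.inD A M))) =
      (ι₀ I M) '' {s : M | ∃ J' : Ideal A, J' ≤ J ∧ J ≤ (J' ⊔ I).radical ∧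
        s ∈ DRing.torsionSub J' M} := by
  classical
  obtain ⟨t, ht⟩ := (IsNoetherian.noetherian J : J.FG)
  have hfs : Ideal.span {x : A | x ∈ t.toList} = J := by
    rw [← ht]
    congr 1
    ext x
    simp
  set fs := t.toList with hfs_def
  obtain ⟨e, he⟩ := exists_iso_RgammaI J (ModuleCat.of A M) fs hfs
  have hε : (DRing.RgammaIε J).app (Dual.inD A M) = e.inv ≫ Q.map (π (ModuleCat.of A M) fs) :=
    (Iso.eq_inv_comp e).2 he
  obtain ⟨-, hinj⟩ := main12' I (ModuleCat.of A M) fs
  have hrange := range3 I (ModuleCat.of A M) fs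
  have hbij : Function.Bijective (HC I 0 e.inv) := HC_bijective_of_iso I e.symm 0
  have hcomp : ∀ y, HC I 0 ((DRing.RgammaIε J).app (Dual.inD A M)) y =
      HC I 0 (Q.map (π (ModuleCat.of A M) fs)) (HC I 0 e.inv y) := by
    intro y
    have h1 : HC I 0 ((DRing.RgammaIε J).app (Dual.inD A M)) y =
        HC I 0 (e.inv ≫ Q.map (π (ModuleCat.of A M) fs)) y := by
      have := congrArg (fun t : (DRing.RgammaI J).obj (Dual.inD A M) ⟶ Dual.inD A M =>
        HC I 0 t y) hε
      exact this
    exact h1.trans (HC_comp I 0 e.inv (Q.map (π (ModuleCat.of A M) fs)) y)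
  constructor
  · intro x y hxy
    rw [hcomp, hcomp] at hxy
    exact hbij.1 (hinj hxy)
  · have hr : Set.range (HC I 0 ((DRing.RgammaIε J).app (Dual.inD A M))) =
        Set.range (HC I 0 (Q.map (π (ModuleCat.of A M) fs))) := by
      ext x
      constructor
      · rintro ⟨y, rfl⟩
        exact ⟨HC I 0 e.inv y, (hcomp y).symm⟩
      · rintro ⟨w, rfl⟩
        obtain ⟨y, rfl⟩ := hbij.2 w
        exact ⟨y, hcomp y⟩
    rw [hr, hrange]
    ext x
    constructor
    · intro hx
      obtain ⟨s, rfl⟩ := (ι₀_bijective I M).2 x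
      refine ⟨s, ?_, rfl⟩
      show ∃ J' : Ideal A, J' ≤ J ∧ J ≤ (J' ⊔ I).radical ∧ s ∈ DRing.torsionSub J' M
      rw [← forall_mk_mem_iInf_iff I J fs hfs M s]
      intro f hf
      exact (HC_lamD_ι₀_eq_zero_iff I M f s).1 (hx f hf)
    · rintro ⟨s, hs, rfl⟩ f hf
      have hs' : ∃ J' : Ideal A, J' ≤ J ∧ J ≤ (J' ⊔ I).radical ∧ s ∈ DRing.torsionSub J' M := hs
      rw [← forall_mk_mem_iInf_iff I J fs hfs M s] at hs'
      exact (HC_lamD_ι₀_eq_zero_iff I M f s).2 (hs' f hf)

end Main

end Groth.Agent.H2.HT.CDC
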