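import Mathlib
import Groth.Agent.H2.HT.FaltingsGeneral
import Groth.Agent.H2.HT.FinIffKill
import Groth.Agent.H9.RG.Restr

/-!
# Faltings' annihilator theorem for complexes, in the form of the statements  (helper2)
-/

set_option autoImplicit false
set_option maxHeartbeats 800000
set_option linter.unusedSectionVars false
set_option linter.style.haveILetI false

universe u v

open CategoryTheory CategoryTheory.Limits Opposite Pretriangulated DerivedCategory IsLocalRing

attribute [local instance] HasDerivedCategory.standard

namespace Groth.Agent.H2.HT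

open Groth.Agent.H2.DualCx Groth.Agent.H26.FlatBCHom Groth.Agent.H26.FlatBCDual

variable {A : Type u} [CommRing A] [IsNoetherianRing A]

theorem locKill_congr_index (q : Ideal A) (g : A) (K : Dual.D A) {i j : ℤ} (h : i = j) :
    LocKill q g (K⟦i⟧) ↔ LocKill q g (K⟦j⟧) := by
  subst h
  rfl

/-- vanishing of `H^i_{pA_p}(K_p)` is the local annihilation condition `LocKill p 1` -/
theorem subsingleton_HDI_LBaseChange_iff (p : PrimeSpectrum A)
    [DRing.HasLBaseChange (algebraMap A (Localization.AtPrime p.asIdeal))] (K : Dual.D A) (i : ℤ) :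
    Subsingleton (Dual2.HDI (Localization.AtPrime p.asIdeal)
      (maximalIdeal (Localization.AtPrime p.asIdeal))
      ((DRing.LBaseChange (algebraMap A (Localization.AtPrime p.asIdeal))).obj K) i) ↔
    LocKill p.asIdeal 1 (K⟦i⟧) := by
  obtain ⟨e⟩ := Groth.Agent.H9.RG.nonempty_hdi_iso_of_iso
    (I := maximalIdeal (Localization.AtPrime p.asIdeal))
    ((lbcIso (A := A) (B := Localization.AtPrime p.asIdeal)).app K) i
  rw [locKill_iff_HDI, ← kill_HDI_LB_iff p K i 1]
  constructor
  · intro h y
    haveI : Subsingleton (Dual2.HDI (Localization.AtPrime p.asIdeal)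
      (maximalIdeal (Localization.AtPrime p.asIdeal))
      ((LB A (Localization.AtPrime p.asIdeal)).obj K) i) :=
      e.toLinearEquiv.symm.toEquiv.subsingleton
    exact Subsingleton.elim _ _
  · intro h
    have h' : ∀ y : Dual2.HDI (Localization.AtPrime p.asIdeal)
        (maximalIdeal (Localization.AtPrime p.asIdeal))
        ((LB A (Localization.AtPrime p.asIdeal)).obj K) i, y = 0 := by
      intro y
      have := h y
      rwa [map_one, one_smul] at this
    haveI : Subsingleton (Dual2.HDI (Localization.AtPrime p.asIdeal)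
      (maximalIdeal (Localization.AtPrime p.asIdeal))
      ((LB A (Localization.AtPrime p.asIdeal)).obj K) i) :=
      ⟨fun x y => by rw [h' x, h' y]⟩
    exact e.toLinearEquiv.toEquiv.subsingleton

/-- **Faltings' annihilator theorem for complexes** (form of the statement S1791, `T ⊆ T'` not
needed). -/
theorem faltings_complex {ω : Dual.D A} (hω : Dual.IsDualizing A ω) (T T' : Set (PrimeSpectrum A))
    (hT : StableUnderSpecialization T) (hT' : StableUnderSpecialization T') (s : ℤ)
    (K : Dual.D A) (a : ℤ) (hKa : ∀ i : ℤ, i < a → Subsingleton (Dual.HD A K i))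
    (hK : ∀ i : ℤ, Module.Finite A (Dual.HD A K i))
    [∀ p : PrimeSpectrum A, DRing.HasLBaseChange (algebraMap A (Localization.AtPrime p.asIdeal))] :
    (∃ J : Ideal A, PrimeSpectrum.zeroLocus (J : Set A) ⊆ T' ∧
      ∀ i : ℤ, i ≤ s → ∀ a ∈ J, ∀ x : HX T (K⟦i⟧), a • x = 0) ↔
    (∀ (p q : PrimeSpectrum A) (hpq : p ≤ q), p ∉ T' → q ∈ T → ∀ h : ℕ,
      Order.height (⟨q, hpq⟩ : Set.Ici p) = h → ∀ i : ℤ, i ≤ s - h →
      Subsingleton (Dual2.HDI (Localization.AtPrime p.asIdeal)
        (maximalIdeal (Localization.AtPrime p.asIdeal))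
        ((DRing.LBaseChange (algebraMap A (Localization.AtPrime p.asIdeal))).obj K) i)) := by
  haveI : K.IsGE a := isGE_of_vanishing K a hKa
  rw [faltings_general hω K a hK T' hT hT' s]
  constructor
  · intro h p q hpq hp hq n hn i hi
    rw [subsingleton_HDI_LBaseChange_iff]
    have hmono := topDeg_mono hω hpq
    have hn' : (n : ℤ) = topDeg hω q - topDeg hω p := by
      rw [height_Ici_eq hω hpq] at hn
      have h1 : (topDeg hω q - topDeg hω p).toNat = n := by exact_mod_cast hn
      omega
    have h2 := h p q hp hq hpq (i + n) (by omega)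
    exact (locKill_congr_index p.asIdeal 1 K (by omega)).1 h2
  · intro h p q hp hq hpq i hi
    have hmono := topDeg_mono hω hpq
    have h2 := h p q hpq hp hq (topDeg hω q - topDeg hω p).toNat (height_Ici_eq hω hpq)
      (i - (topDeg hω q - topDeg hω p)) (by
        have : (((topDeg hω q - topDeg hω p).toNat : ℕ) : ℤ) = topDeg hω q - topDeg hω p := by
          omega
        omega)
    rw [subsingleton_HDI_LBaseChange_iff] at h2
    exact h2

end Groth.Agent.H2.HT
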