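import Mathlib
import Groth.Agent.H2.HT.TorsT

/-!
# The ideal transform `Hom(𝔞, N)` of a `T'`-torsion-free module  (helper2)

Module-level algebra: if `N` has no `T'`-torsion and `𝔞` (with `V(𝔞) ⊆ T'`) "kills `H^1_{T'}(N)`" in the
elementary sense `PP`, then `M'' = Hom_A(𝔞, N)` is the ideal transform: every map `J → M''` with
`V(J) ⊆ T'` is multiplication by an element of `M''`.
-/

set_option autoImplicit false
set_option maxHeartbeats 800000
set_option linter.unusedSectionVars false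
set_option linter.style.haveILetI false

universe u v

namespace Groth.Agent.H2.HT.IT

variable {A : Type u} [CommRing A] (T' : Set (PrimeSpectrum A))
  (N : Type v) [AddCommGroup N] [Module A N]

/-- no `T'`-torsion -/
def TF : Prop := ∀ (J : Ideal A), PrimeSpectrum.zeroLocus (J : Set A) ⊆ T' →
  ∀ n : N, (∀ j ∈ J, j • n = 0) → n = 0

variable {T' N}

theorem tf_of_torsT_eq_bot (h : torsT T' N = ⊥) : TF T' N := by
  intro J hJ n hn
  have h1 : n ∈ torsT T' N := ⟨J, hJ, hn⟩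
  rw [h] at h1
  exact (Submodule.mem_bot A).1 h1

variable (T' N)

/-- the elementary form of "`𝔞` kills `H^1_{T'}(N)`" -/
def PP (𝔞 : Ideal A) : Prop := ∀ (J : Ideal A), PrimeSpectrum.zeroLocus (J : Set A) ⊆ T' →
  ∀ (φ : J →ₗ[A] N) (a : A), a ∈ 𝔞 → ∃ J' : Ideal A, ∃ hJ' : J' ≤ J,
    PrimeSpectrum.zeroLocus (J' : Set A) ⊆ T' ∧ ∃ n : N, ∀ (j : A) (hj : j ∈ J'),
      a • φ ⟨j, hJ' hj⟩ = j • n

variable {T' N}

theorem zeroLocus_inf_subset' {J J' : Ideal A} (h : PrimeSpectrum.zeroLocus (J : Set A) ⊆ T')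
    (h' : PrimeSpectrum.zeroLocus (J' : Set A) ⊆ T') :
    PrimeSpectrum.zeroLocus ((J ⊓ J' : Ideal A) : Set A) ⊆ T' := by
  rw [PrimeSpectrum.zeroLocus_inf]
  exact Set.union_subset h h'

theorem zeroLocus_mul_subset' {J J' : Ideal A} (h : PrimeSpectrum.zeroLocus (J : Set A) ⊆ T')
    (h' : PrimeSpectrum.zeroLocus (J' : Set A) ⊆ T') :
    PrimeSpectrum.zeroLocus ((J * J' : Ideal A) : Set A) ⊆ T' := by
  rw [PrimeSpectrum.zeroLocus_mul]
  exact Set.union_subset h h'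

section Ext

variable (hTF : TF T' N) (𝔞 : Ideal A) (h𝔞 : PrimeSpectrum.zeroLocus (𝔞 : Set A) ⊆ T')
  (hP : PP T' N 𝔞)

include hTF hP in
/-- **extension**: every `φ : J → N` agrees, up to the obvious twist, with a map `𝔞 → N` -/
theorem exists_ext (J : Ideal A) (hJ : PrimeSpectrum.zeroLocus (J : Set A) ⊆ T')
    (φ : J →ₗ[A] N) : ∃ m : 𝔞 →ₗ[A] N, ∀ (a : 𝔞) (j : J), (a : A) • φ j = (j : A) • m a := by
  classical
  -- the relation `K a n`
  let K : A → N → Prop := fun a n => ∃ J' : Ideal A, ∃ hJ' : J' ≤ J,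
    PrimeSpectrum.zeroLocus (J' : Set A) ⊆ T' ∧ ∀ (j : A) (hj : j ∈ J'),
      a • φ ⟨j, hJ' hj⟩ = j • n
  have Kuniq : ∀ a n n', K a n → K a n' → n = n' := by
    rintro a n n' ⟨J₁, hJ₁, hV₁, h₁⟩ ⟨J₂, hJ₂, hV₂, h₂⟩
    have : n - n' = 0 := by
      apply hTF (J₁ ⊓ J₂) (zeroLocus_inf_subset' hV₁ hV₂)
      intro j hj
      rw [smul_sub, ← h₁ j hj.1, ← h₂ j hj.2, sub_self]
    exact sub_eq_zero.mp this
  have Kadd : ∀ a b n n', K a n → K b n' → K (a + b) (n + n') := by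
    rintro a b n n' ⟨J₁, hJ₁, hV₁, h₁⟩ ⟨J₂, hJ₂, hV₂, h₂⟩
    refine ⟨J₁ ⊓ J₂, inf_le_left.trans hJ₁, zeroLocus_inf_subset' hV₁ hV₂, fun j hj => ?_⟩
    rw [add_smul, smul_add, ← h₁ j hj.1, ← h₂ j hj.2]
  have Ksmul : ∀ c a n, K a n → K (c * a) (c • n) := by
    rintro c a n ⟨J₁, hJ₁, hV₁, h₁⟩
    refine ⟨J₁, hJ₁, hV₁, fun j hj => ?_⟩
    rw [mul_smul, h₁ j hj, smul_comm]
  have Kex : ∀ a : 𝔞, ∃ n, K (a : A) n := by
    intro a
    obtain ⟨J', hJ', hV, n, hn⟩ := hP J hJ φ a a.2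
    exact ⟨n, J', hJ', hV, hn⟩
  choose m₀ hm₀ using Kex
  let m : 𝔞 →ₗ[A] N :=
    { toFun := m₀
      map_add' := fun a b => Kuniq _ _ _ (hm₀ (a + b)) (Kadd _ _ _ _ (hm₀ a) (hm₀ b))
      map_smul' := fun c a => Kuniq _ _ _ (hm₀ (c • a)) (Ksmul c _ _ (hm₀ a)) }
  refine ⟨m, fun a j => ?_⟩
  obtain ⟨J', hJ', hV, h⟩ := hm₀ a
  have : (a : A) • φ j - (j : A) • m a = 0 := by
    apply hTF J' hV
    intro j' hj'
    have h1 : j' • φ j = (j : A) • φ ⟨j', hJ' hj'⟩ := by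
      rw [← map_smul, ← map_smul]
      congr 1
      ext
      simp [mul_comm]
    have h2 := h j' hj'
    show j' • ((a : A) • φ j - (j : A) • m₀ a) = 0
    rw [smul_sub, smul_comm j' (a : A), h1, smul_comm (a : A) (j : A), h2, smul_comm (j : A) j',
      sub_self]
  exact sub_eq_zero.mp this

include hTF h𝔞 hP in
/-- **stabilization**: for `J ≤ 𝔞`, every `χ : J → N` is the restriction of a map `𝔞 → N` -/
theorem exists_restrict (J : Ideal A) (hJ : PrimeSpectrum.zeroLocus (J : Set A) ⊆ T')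
    (hJ𝔞 : J ≤ 𝔞) (χ : J →ₗ[A] N) :
    ∃ m : 𝔞 →ₗ[A] N, ∀ j : J, m ⟨j, hJ𝔞 j.2⟩ = χ j := by
  obtain ⟨m, hm⟩ := exists_ext hTF 𝔞 hP J hJ χ
  refine ⟨m, fun j => ?_⟩
  have : m ⟨j, hJ𝔞 j.2⟩ - χ j = 0 := by
    apply hTF 𝔞 h𝔞
    intro a ha
    have h1 : a • χ j = (j : A) • m ⟨a, ha⟩ := hm ⟨a, ha⟩ j
    have h2 : (j : A) • m ⟨a, ha⟩ = a • m ⟨j, hJ𝔞 j.2⟩ := by
      rw [← map_smul, ← map_smul]
      congr 1
      ext
      simp [mul_comm]
    rw [smul_sub, ← h2, ← h1, sub_self]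
  exact (sub_eq_zero.mp this)

end Ext

section Transform

variable (𝔞 : Ideal A)

/-- `N → Hom(𝔞, N)`, `n ↦ (a ↦ a n)` -/
def f₀ (N : Type v) [AddCommGroup N] [Module A N] : N →ₗ[A] (𝔞 →ₗ[A] N) where
  toFun n :=
    { toFun := fun a => (a : A) • n
      map_add' := fun a b => by simp [add_smul]
      map_smul' := fun c a => by simp [mul_smul] }
  map_add' n n' := by
    ext a
    show (a : A) • (n + n') = (a : A) • n + (a : A) • n'
    rw [smul_add]
  map_smul' c n := by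
    ext a
    show (a : A) • (c • n) = c • ((a : A) • n)
    rw [smul_comm]

@[simp] theorem f₀_apply (n : N) (a : 𝔞) : f₀ 𝔞 N n a = (a : A) • n := rfl

variable (hTF : TF T' N) (h𝔞 : PrimeSpectrum.zeroLocus (𝔞 : Set A) ⊆ T')

include hTF h𝔞 in
theorem f₀_injective : Function.Injective (f₀ 𝔞 N) := by
  rw [injective_iff_map_eq_zero]
  intro n hn
  apply hTF 𝔞 h𝔞
  intro a ha
  have := LinearMap.congr_fun hn ⟨a, ha⟩
  simpa using this

include hTF in
/-- `Hom(𝔞, N)` has no `T'`-torsion -/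
theorem tf_hom : TF T' (𝔞 →ₗ[A] N) := by
  intro J hJ g hg
  ext b
  apply hTF J hJ
  intro j hj
  have := LinearMap.congr_fun (hg j hj) b
  simpa using this

/-- `s • g = f₀ (g s)` for `s ∈ 𝔞` -/
theorem smul_eq_f₀ (g : 𝔞 →ₗ[A] N) (s : 𝔞) : (s : A) • g = f₀ 𝔞 N (g s) := by
  ext b
  rw [LinearMap.smul_apply, f₀_apply, ← map_smul, ← map_smul]
  congr 1
  ext
  simp [mul_comm]

variable (hP : PP T' N 𝔞)

include hTF h𝔞 hP in
/-- **the ideal transform is closed**: every `ψ : J → Hom(𝔞, N)` with `V(J) ⊆ T'` is multiplication by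
an element -/
theorem exists_eq_smul (J : Ideal A) (hJ : PrimeSpectrum.zeroLocus (J : Set A) ⊆ T')
    (ψ : J →ₗ[A] (𝔞 →ₗ[A] N)) : ∃ m'' : 𝔞 →ₗ[A] N, ∀ j : J, ψ j = (j : A) • m'' := by
  classical
  have hinj := f₀_injective 𝔞 hTF h𝔞
  have hle : J * 𝔞 ≤ J := Ideal.mul_le_left
  have hle' : J * 𝔞 ≤ 𝔞 := Ideal.mul_le_right
  have hV : PrimeSpectrum.zeroLocus ((J * 𝔞 : Ideal A) : Set A) ⊆ T' :=
    zeroLocus_mul_subset' hJ h𝔞
  -- on `J𝔞`, `ψ` takes values in the range of `f₀`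
  have hrange : ∀ x (hx : x ∈ J * 𝔞), ψ ⟨x, hle hx⟩ ∈ LinearMap.range (f₀ 𝔞 N) := by
    intro x hx
    refine Submodule.mul_induction_on' (C := fun x hx => ψ ⟨x, hle hx⟩ ∈
      LinearMap.range (f₀ 𝔞 N)) ?_ ?_ hx
    · intro j hj a ha
      refine ⟨ψ ⟨j, hj⟩ ⟨a, ha⟩, ?_⟩
      rw [← smul_eq_f₀ 𝔞 (ψ ⟨j, hj⟩) ⟨a, ha⟩, ← map_smul]
      congr 1
      ext
      simp [mul_comm]
    · intro x hx y hy hx' hy'
      have : (⟨x + y, hle (add_mem hx hy)⟩ : J) = ⟨x, hle hx⟩ + ⟨y, hle hy⟩ := rfl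
      rw [this, map_add]
      exact Submodule.add_mem _ hx' hy'
  -- the induced map `χ : J𝔞 → N`
  let e := LinearEquiv.ofInjective (f₀ 𝔞 N) hinj
  let ψ' : ↥(J * 𝔞) →ₗ[A] LinearMap.range (f₀ 𝔞 N) :=
    LinearMap.codRestrict _ (ψ.comp (Submodule.inclusion hle)) (fun x => hrange x.1 x.2)
  let χ : ↥(J * 𝔞) →ₗ[A] N := e.symm.toLinearMap.comp ψ'
  have hχ : ∀ x : ↥(J * 𝔞), f₀ 𝔞 N (χ x) = ψ ⟨x, hle x.2⟩ := by
    intro x
    have h1 : f₀ 𝔞 N (χ x) = ((e (e.symm (ψ' x)) : LinearMap.range (f₀ 𝔞 N)) : 𝔞 →ₗ[A] N) := rfl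
    rw [h1, e.apply_symm_apply]
    rfl
  obtain ⟨m'', hm''⟩ := exists_restrict hTF 𝔞 h𝔞 hP (J * 𝔞) hV hle' χ
  refine ⟨m'', fun j => ?_⟩
  ext b
  have : ψ j b - ((j : A) • m'') b = 0 := by
    apply hTF 𝔞 h𝔞
    intro a ha
    have hx : (j : A) * a ∈ J * 𝔞 := Ideal.mul_mem_mul j.2 ha
    have h1 : ψ ⟨(j : A) * a, hle hx⟩ = a • ψ j := by
      rw [← map_smul]
      congr 1
      ext
      simp [mul_comm]
    have h2 := hχ ⟨(j : A) * a, hx⟩
    have h3 := hm'' ⟨(j : A) * a, hx⟩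
    have h4 : a • ψ j b = (b : A) • χ ⟨(j : A) * a, hx⟩ := by
      have := LinearMap.congr_fun (h2.trans h1) b
      rw [f₀_apply, LinearMap.smul_apply] at this
      exact this.symm
    have h5 : (b : A) • m'' ⟨(j : A) * a, hle' hx⟩ = a • ((j : A) • m'') b := by
      rw [LinearMap.smul_apply, ← map_smul, ← map_smul, ← map_smul]
      congr 1
      ext
      simp only [SetLike.mk_smul_mk, smul_eq_mul, SetLike.val_smul]
      ring
    rw [smul_sub, h4, ← h3, h5, sub_self]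
  exact sub_eq_zero.mp this

end Transform

section Loc

variable {X : Type v} {Y : Type v} [AddCommGroup X] [Module A X] [AddCommGroup Y] [Module A Y]

/-- a map which is an isomorphism up to `S`-torsion localizes to a bijection -/
theorem bijective_map_of_torsion (S : Submonoid A) (g : X →ₗ[A] Y)
    (hk : ∀ x, g x = 0 → ∃ s ∈ S, s • x = 0) (hc : ∀ y, ∃ s ∈ S, ∃ x, g x = s • y) :
    Function.Bijective (LocalizedModule.map S g) := by
  constructor
  · rw [injective_iff_map_eq_zero]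
    intro z hz
    induction z using LocalizedModule.induction_on with
    | h x s =>
      rw [LocalizedModule.map_mk, ← LocalizedModule.zero_mk s, LocalizedModule.mk_eq] at hz
      obtain ⟨u, hu⟩ := hz
      rw [smul_zero, smul_zero] at hu
      have h1 : g (((u : A) * (s : A)) • x) = 0 := by
        rw [map_smul, mul_smul]
        exact hu
      obtain ⟨t, ht, htx⟩ := hk _ h1
      rw [← LocalizedModule.zero_mk s, LocalizedModule.mk_eq]
      refine ⟨⟨t, ht⟩ * u, ?_⟩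
      rw [smul_zero, smul_zero]
      show (t * (u : A)) • ((s : A) • x) = 0
      rw [mul_smul, ← mul_smul (u : A) (s : A) x]
      exact htx
  · intro z
    induction z using LocalizedModule.induction_on with
    | h y s =>
      obtain ⟨t, ht, x, hx⟩ := hc y
      refine ⟨LocalizedModule.mk x (⟨t, ht⟩ * s), ?_⟩
      rw [LocalizedModule.map_mk, LocalizedModule.mk_eq]
      refine ⟨1, ?_⟩
      rw [one_smul, one_smul, hx]
      show (s : A) • t • y = (t * (s : A)) • y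
      rw [mul_smul, smul_comm]

end Loc

end Groth.Agent.H2.HT.IT
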