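import Mathlib
import Groth.Agent.H2.HT.FaltingsModule
import Groth.Agent.H2.HT.IdealTransform
import Groth.Agent.H26.FlatBCDual7

/-!
# Classes of maps `J → N` in `H^1_{T'}(N)` and the depth of the ideal transform  (helper2)
-/

set_option autoImplicit false
set_option maxHeartbeats 800000
set_option linter.unusedSectionVars false
set_option linter.style.haveILetI false

universe u v

open CategoryTheory CategoryTheory.Limits Opposite Pretriangulated DerivedCategory

attribute [local instance] HasDerivedCategory.standard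

namespace Groth.Agent.H2.HT.IT

open Groth.Agent.H2.DualCx Groth.Agent.H2.HT

variable {A : Type u} [CommRing A] [IsNoetherianRing A]

section Class

variable (J : Ideal A)

theorem exactJ : Function.Exact J.subtype J.mkQ := LinearMap.exact_subtype_mkQ J

/-- the short exact sequence `0 → J → A → A/J → 0` -/
noncomputable abbrev SJ : ShortComplex (ModuleCat.{u} A) := sc J.subtype J.mkQ (exactJ J)

theorem SJ_se : (SJ J).ShortExact :=
  sc_shortExact _ _ (Submodule.injective_subtype _) (Submodule.mkQ_surjective _) _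

/-- the distinguished triangle `J → A → A/J → J[1]` -/
noncomputable abbrev TrJ : Triangle (Dual.D A) := (SJ_se J).singleTriangle

theorem TrJ_dist : TrJ J ∈ distTriang (Dual.D A) := (SJ_se J).singleTriangle_distinguished

variable {N : Type u} [AddCommGroup N] [Module A N]

/-- the class of `φ : J → N` in `Hom(A/J, N[1]) = Ext^1(A/J, N)` -/
noncomputable def classOf (φ : J →ₗ[A] N) : sQ J ⟶ (Dual.inD A N)⟦(1 : ℤ)⟧ :=
  (SJ_se J).singleδ ≫
    ((DerivedCategory.singleFunctor (ModuleCat.{u} A) 0).map (ModuleCat.ofHom φ))⟦(1 : ℤ)⟧'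

variable {J}

theorem classOf_smul (a : A) (φ : J →ₗ[A] N) : classOf J (a • φ) = a • classOf J φ := by
  unfold classOf
  have h1 : ModuleCat.ofHom (a • φ) = a • ModuleCat.ofHom φ := rfl
  rw [h1, Functor.map_smul, Functor.map_smul, Linear.comp_smul]

/-- naturality of the class for `J' ≤ J` -/
theorem sqmap_classOf {J' : Ideal A} (h : J' ≤ J) (φ : J →ₗ[A] N) :
    sqmap h ≫ classOf J φ = classOf J' (φ.comp (Submodule.inclusion h)) := by
  let τ : SJ J' ⟶ SJ J :=
    { τ₁ := ModuleCat.ofHom (Submodule.inclusion h)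
      τ₂ := 𝟙 _
      τ₃ := qmap h
      comm₁₂ := rfl
      comm₂₃ := rfl }
  have h3 : (SJ_se J').singleδ ≫
      ((DerivedCategory.singleFunctor (ModuleCat.{u} A) 0).map
        (ModuleCat.ofHom (Submodule.inclusion h)))⟦(1 : ℤ)⟧' = sqmap h ≫ (SJ_se J).singleδ :=
    (ShortComplex.ShortExact.singleTriangle.map (SJ_se J') (SJ_se J) τ).comm₃
  have h4 : ((DerivedCategory.singleFunctor (ModuleCat.{u} A) 0).map
        (ModuleCat.ofHom (φ.comp (Submodule.inclusion h))))⟦(1 : ℤ)⟧' =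
      ((DerivedCategory.singleFunctor (ModuleCat.{u} A) 0).map
        (ModuleCat.ofHom (Submodule.inclusion h)))⟦(1 : ℤ)⟧' ≫
      ((DerivedCategory.singleFunctor (ModuleCat.{u} A) 0).map (ModuleCat.ofHom φ))⟦(1 : ℤ)⟧' := by
    rw [← Functor.map_comp, ← Functor.map_comp]
    rfl
  unfold classOf
  rw [h4, ← Category.assoc, ← Category.assoc]
  exact congrArg (fun t => t ≫
    ((DerivedCategory.singleFunctor (ModuleCat.{u} A) 0).map (ModuleCat.ofHom φ))⟦(1 : ℤ)⟧') h3.symm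

/-- a map `J → N` whose class vanishes is multiplication by an element -/
theorem exists_of_classOf_eq_zero (ψ : J →ₗ[A] N) (h : classOf J ψ = 0) :
    ∃ n : N, ∀ j : J, ψ j = (j : A) • n := by
  have hrot := rot_of_distTriang _ (TrJ_dist J)
  obtain ⟨g, hg⟩ := Triangle.yoneda_exact₃ _ hrot
    (((DerivedCategory.singleFunctor (ModuleCat.{u} A) 0).map (ModuleCat.ofHom ψ))⟦(1 : ℤ)⟧') h
  obtain ⟨g₀, rfl⟩ := (shiftFunctor (Dual.D A) (1 : ℤ)).map_surjective g
  obtain ⟨ℓ, rfl⟩ := (DerivedCategory.singleFunctor (ModuleCat.{u} A) 0).map_surjective g₀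
  have hg' : ((DerivedCategory.singleFunctor (ModuleCat.{u} A) 0).map (ModuleCat.ofHom ψ))⟦(1 : ℤ)⟧' =
      (-(((DerivedCategory.singleFunctor (ModuleCat.{u} A) 0).map (SJ J).f)⟦(1 : ℤ)⟧')) ≫
        ((DerivedCategory.singleFunctor (ModuleCat.{u} A) 0).map ℓ)⟦(1 : ℤ)⟧' := hg
  rw [Preadditive.neg_comp, ← Functor.map_comp, ← Functor.map_comp, ← Functor.map_neg,
    ← Functor.map_neg] at hg'
  have h1 := (DerivedCategory.singleFunctor (ModuleCat.{u} A) 0).map_injective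
    ((shiftFunctor (Dual.D A) (1 : ℤ)).map_injective hg')
  refine ⟨-(ℓ.hom (1 : A)), fun j => ?_⟩
  have h2 := congrArg (fun t => t.hom j) h1
  dsimp at h2
  rw [h2, smul_neg, ← map_smul]
  simp

variable (T' : Set (PrimeSpectrum A))

/-- if `a` kills the class of `φ` in `H^1_{T'}(N)` then `a φ` is, on a smaller ideal, multiplication
by an element -/
theorem exists_of_smul_class_eq_zero (hJ : PrimeSpectrum.zeroLocus (J : Set A) ⊆ T')
    (φ : J →ₗ[A] N) (a : A)
    (h : a • ιI J hJ ((Dual.inD A N)⟦(1 : ℤ)⟧) (classOf J φ) = 0) :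
    ∃ J' : Ideal A, ∃ hJ' : J' ≤ J, PrimeSpectrum.zeroLocus (J' : Set A) ⊆ T' ∧
      ∃ n : N, ∀ (j : A) (hj : j ∈ J'), a • φ ⟨j, hJ' hj⟩ = j • n := by
  rw [← map_smul] at h
  obtain ⟨J', hV, hle, h0⟩ := ιI_eq_zero hJ _ h
  rw [Linear.comp_smul, sqmap_classOf, ← classOf_smul] at h0
  obtain ⟨n, hn⟩ := exists_of_classOf_eq_zero _ h0
  exact ⟨J', hle, hV, n, fun j hj => hn ⟨j, hj⟩⟩

end Class

section Depth

variable (T' : Set (PrimeSpectrum A)) (M'' : Type u) [AddCommGroup M'']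
  [Module A M''] (hTF : TF T' M'')
  (hQ : ∀ (J : Ideal A), PrimeSpectrum.zeroLocus (J : Set A) ⊆ T' → ∀ ψ : J →ₗ[A] M'',
    ∃ m'' : M'', ∀ j : J, ψ j = (j : A) • m'')

include hTF in
theorem hom_sQ_shift_zero_eq_zero (J : Ideal A) (hJ : PrimeSpectrum.zeroLocus (J : Set A) ⊆ T')
    (α : sQ J ⟶ (Dual.inD A M'')⟦(0 : ℤ)⟧) : α = 0 := by
  have hiso : α ≫ ((shiftFunctorZero (Dual.D A) ℤ).app _).hom = 0 := by
    obtain ⟨b, hb⟩ := (DerivedCategory.singleFunctor (ModuleCat.{u} A) 0).map_surjective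
      (α ≫ ((shiftFunctorZero (Dual.D A) ℤ).app (Dual.inD A M'')).hom)
    have hb0 : b = 0 := by
      have hy : b.hom (Submodule.Quotient.mk (1 : A)) = 0 := by
        apply hTF J hJ
        intro j hj
        rw [← map_smul, ← Submodule.Quotient.mk_smul, smul_eq_mul, mul_one,
          (Submodule.Quotient.mk_eq_zero J).2 hj, map_zero]
      apply ModuleCat.hom_ext
      apply LinearMap.ext
      intro x
      obtain ⟨r, rfl⟩ := Submodule.Quotient.mk_surjective _ x
      have : (Submodule.Quotient.mk r : A ⧸ J) = r • Submodule.Quotient.mk (1 : A) := by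
        rw [← Submodule.Quotient.mk_smul, smul_eq_mul, mul_one]
      show b.hom (Submodule.Quotient.mk r) = 0
      rw [this, map_smul, hy, smul_zero]
    rw [← hb, hb0, Functor.map_zero]
  exact (cancel_mono ((shiftFunctorZero (Dual.D A) ℤ).app (Dual.inD A M'')).hom).1
    (hiso.trans zero_comp.symm)

include hQ in
theorem hom_sQ_shift_one_eq_zero (J : Ideal A) (hJ : PrimeSpectrum.zeroLocus (J : Set A) ⊆ T')
    (α : sQ J ⟶ (Dual.inD A M'')⟦(1 : ℤ)⟧) : α = 0 := by
  have h0 : (TrJ J).mor₂ ≫ α = 0 := by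
    haveI : Subsingleton (Dual.HD A (Dual.inD A M'') 1) :=
      Groth.Agent.H9.DCF.subsingleton_HD_inD M'' 1 (by norm_num)
    haveI : Subsingleton (Dual.inD A A ⟶ (Dual.inD A M'')⟦(1 : ℤ)⟧) :=
      (Groth.Agent.H26.FlatBCDual.homSelfEquivHD (Dual.inD A M'') 1).toEquiv.subsingleton
    exact Subsingleton.elim (α := Dual.inD A A ⟶ (Dual.inD A M'')⟦(1 : ℤ)⟧) _ _
  obtain ⟨g, hg⟩ := Triangle.yoneda_exact₃ _ (TrJ_dist J) α h0
  obtain ⟨g₀, rfl⟩ := (shiftFunctor (Dual.D A) (1 : ℤ)).map_surjective g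
  obtain ⟨ψ', rfl⟩ := (DerivedCategory.singleFunctor (ModuleCat.{u} A) 0).map_surjective g₀
  obtain ⟨m'', hm''⟩ := hQ J hJ ψ'.hom
  have h1 : ψ' = (SJ J).f ≫ ModuleCat.ofHom (LinearMap.toSpanSingleton A M'' m'') := by
    ext j
    show ψ'.hom j = (j : A) • m''
    exact hm'' j
  have h2 : (TrJ J).mor₃ ≫ ((TrJ J).mor₁)⟦(1 : ℤ)⟧' = 0 :=
    comp_distTriang_mor_zero₃₁ _ (TrJ_dist J)
  have h3 : (TrJ J).mor₃ ≫
      ((DerivedCategory.singleFunctor (ModuleCat.{u} A) 0).map (SJ J).f)⟦(1 : ℤ)⟧' = 0 := h2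
  have h4 : ((DerivedCategory.singleFunctor (ModuleCat.{u} A) 0).map ψ')⟦(1 : ℤ)⟧' =
      ((DerivedCategory.singleFunctor (ModuleCat.{u} A) 0).map (SJ J).f)⟦(1 : ℤ)⟧' ≫
      ((DerivedCategory.singleFunctor (ModuleCat.{u} A) 0).map
        (ModuleCat.ofHom (LinearMap.toSpanSingleton A M'' m'')))⟦(1 : ℤ)⟧' := by
    rw [h1, Functor.map_comp, Functor.map_comp]
  have h5 : (TrJ J).mor₃ ≫ ((DerivedCategory.singleFunctor (ModuleCat.{u} A) 0).map ψ')⟦(1 : ℤ)⟧' =
      (TrJ J).mor₃ ≫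
      (((DerivedCategory.singleFunctor (ModuleCat.{u} A) 0).map (SJ J).f)⟦(1 : ℤ)⟧' ≫
      ((DerivedCategory.singleFunctor (ModuleCat.{u} A) 0).map
        (ModuleCat.ofHom (LinearMap.toSpanSingleton A M'' m'')))⟦(1 : ℤ)⟧') :=
    congrArg (fun t => (TrJ J).mor₃ ≫ t) h4
  have h6 : (TrJ J).mor₃ ≫
      (((DerivedCategory.singleFunctor (ModuleCat.{u} A) 0).map (SJ J).f)⟦(1 : ℤ)⟧' ≫
      ((DerivedCategory.singleFunctor (ModuleCat.{u} A) 0).map
        (ModuleCat.ofHom (LinearMap.toSpanSingleton A M'' m'')))⟦(1 : ℤ)⟧') = 0 :=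
    ((Category.assoc _ _ _).symm.trans (congrArg (fun t => t ≫
      ((DerivedCategory.singleFunctor (ModuleCat.{u} A) 0).map
        (ModuleCat.ofHom (LinearMap.toSpanSingleton A M'' m'')))⟦(1 : ℤ)⟧') h3)).trans zero_comp
  exact hg.trans (h5.trans h6)

include hTF hQ in
theorem locKill_transform (hT' : StableUnderSpecialization T') (p : PrimeSpectrum A)
    (hp : p ∈ T') (j : ℤ) (hj : j ≤ 1) : LocKill p.asIdeal 1 ((Dual.inD A M'')⟦j⟧) := by
  have hcases : j = 1 ∨ j = 0 ∨ j < 0 := by omega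
  rcases hcases with rfl | rfl | hneg
  · intro k α
    refine ⟨1, fun h => p.2.ne_top ((Ideal.eq_top_iff_one _).mpr h), k, le_refl k, ?_⟩
    rw [hom_sQ_shift_one_eq_zero T' M'' hQ _ (zeroLocus_pow_subset_of_mem hT' p hp k) α,
      comp_zero, smul_zero]
  · intro k α
    refine ⟨1, fun h => p.2.ne_top ((Ideal.eq_top_iff_one _).mpr h), k, le_refl k, ?_⟩
    rw [hom_sQ_shift_zero_eq_zero T' M'' hTF _ (zeroLocus_pow_subset_of_mem hT' p hp k) α,
      comp_zero, smul_zero]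
  · haveI : (Dual.inD A M'').IsGE 0 := inferInstance
    exact locKill_of_isGE (Dual.inD A M'') 0 j hneg p.asIdeal 1

end Depth

end Groth.Agent.H2.HT.IT
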