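import Mathlib
import Groth.Agent.H2.HT.IdealTransformD
import Groth.Agent.H15.Depth

/-!
# Pushing the depth along `T'` up to two by the ideal transform  (helper2)

`exists_map_depth_ge_two`: statement S1738.
-/

set_option autoImplicit false
set_option maxHeartbeats 800000
set_option linter.unusedSectionVars false
set_option linter.style.haveILetI false

universe u

open CategoryTheory CategoryTheory.Limits Opposite Pretriangulated DerivedCategory

attribute [local instance] HasDerivedCategory.standard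

namespace Groth.Agent.H2.HT.IT

open Groth.Agent.H2.DualCx Groth.Agent.H2.HT

variable {A : Type u} [CommRing A] [IsNoetherianRing A]

/-- outside `T'`, an ideal with `V(J) ⊆ T'` contains an element outside `p` -/
theorem exists_mem_notMem {T' : Set (PrimeSpectrum A)} {J : Ideal A}
    (hJ : PrimeSpectrum.zeroLocus (J : Set A) ⊆ T') (p : PrimeSpectrum A) (hp : p ∉ T') :
    ∃ s ∈ J, s ∉ p.asIdeal := by
  by_contra hcon
  push Not at hcon
  exact hp (hJ (show p ∈ PrimeSpectrum.zeroLocus (J : Set A) from fun s hs => hcon s hs))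

/-- depth is invariant under a bijective localized map -/
theorem depth_eq_of_bijective {M N : Type u} [AddCommGroup M] [Module A M] [AddCommGroup N]
    [Module A N] (p : PrimeSpectrum A) (g : M →ₗ[A] N)
    (hg : Function.Bijective (LocalizedModule.map p.asIdeal.primeCompl g)) :
    LocCoh.depth (Localization.AtPrime p.asIdeal) (LocalizedModule p.asIdeal.primeCompl M) =
      LocCoh.depth (Localization.AtPrime p.asIdeal) (LocalizedModule p.asIdeal.primeCompl N) := by
  unfold LocCoh.depth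
  exact Groth.Agent.H15.idealDepth_congr
    (LinearEquiv.ofBijective (LocalizedModule.map p.asIdeal.primeCompl g) hg) _

variable {ω : Dual.D A} (hω : Dual.IsDualizing A ω)

include hω in
theorem exists_map_depth_ge_two (T' : Set (PrimeSpectrum A)) (hT : StableUnderSpecialization T')
    (M : Type u) [AddCommGroup M] [Module A M] [Module.Finite A M]
    (hM : ∀ p q : PrimeSpectrum A, p ⋖ q → q ∈ T' → p ∉ T' →
      1 ≤ LocCoh.depth (Localization.AtPrime p.asIdeal) (LocalizedModule p.asIdeal.primeCompl M)) :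
    ∃ (M'' : Type u) (_ : AddCommGroup M'') (_ : Module A M'') (_ : Module.Finite A M'')
      (f : M →ₗ[A] M''),
      (∀ p : PrimeSpectrum A, p ∉ T' →
        Function.Bijective (LocalizedModule.map p.asIdeal.primeCompl f)) ∧
      ∀ p : PrimeSpectrum A, p ∈ T' →
        2 ≤ LocCoh.depth (Localization.AtPrime p.asIdeal)
          (LocalizedModule p.asIdeal.primeCompl M'') := by
  classical
  -- the torsion-free quotient
  let π : M →ₗ[A] (M ⧸ torsT T' M) := (torsT T' M).mkQ
  have hπsurj : Function.Surjective π := Submodule.mkQ_surjective _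
  have hTFN : TF T' (M ⧸ torsT T' M) := tf_of_torsT_eq_bot (torsT_quotient_eq_bot T' M)
  have hπloc : ∀ p : PrimeSpectrum A, p ∉ T' →
      Function.Bijective (LocalizedModule.map p.asIdeal.primeCompl π) := by
    intro p hp
    apply bijective_map_of_torsion
    · intro x hx
      have hx' : x ∈ torsT T' M := by
        rwa [← Submodule.Quotient.mk_eq_zero]
      obtain ⟨J, hJ, hJx⟩ := hx'
      obtain ⟨s, hsJ, hsp⟩ := exists_mem_notMem hJ p hp
      exact ⟨s, hsp, hJx s hsJ⟩
    · intro y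
      obtain ⟨x, rfl⟩ := hπsurj y
      exact ⟨1, Submonoid.one_mem _, x, (one_smul _ _).symm⟩
  -- Faltings' condition
  have cond : ∀ p q : PrimeSpectrum A, p ∉ T' → q ∈ T' → p ≤ q →
      ((1 : ℕ) : WithBot ℕ∞) < ((LocCoh.depth (Localization.AtPrime p.asIdeal)
        (LocalizedModule p.asIdeal.primeCompl (M ⧸ torsT T' M)) : ℕ∞) : WithBot ℕ∞) +
        Order.krullDim (Set.Icc p q) := by
    intro p q hp hq hpq
    have hne : p ≠ q := fun h => hp (h ▸ hq)
    have hlt : p < q := lt_of_le_of_ne hpq hne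
    rw [krullDim_Icc_eq hω hpq, withBot_lt_iff]
    intro r hr
    by_cases hcov : p ⋖ q
    · have h1 := hM p q hcov hq hp
      rw [depth_eq_of_bijective p π (hπloc p hp), hr] at h1
      have h2 : 1 ≤ r := by exact_mod_cast h1
      have h3 := topDeg_lt hω hlt
      omega
    · rw [not_covBy_iff hlt] at hcov
      obtain ⟨c, hpc, hcq⟩ := hcov
      have h3 := topDeg_lt hω hpc
      have h4 := topDeg_lt hω hcq
      omega
  obtain ⟨𝔞, h𝔞, hkill⟩ := (faltings_module hω T' T' hT hT 1 (M ⧸ torsT T' M)).2 cond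
  have hkill' := (kill_HT_iff_kill_HX (T := T') (M ⧸ torsT T' M) 𝔞 1).1 hkill
  have hP : PP T' (M ⧸ torsT T' M) 𝔞 := by
    intro J hJ φ a ha
    exact exists_of_smul_class_eq_zero T' hJ φ a (hkill' (1 : ℤ) (by norm_num) a ha _)
  have hTF'' : TF T' (𝔞 →ₗ[A] (M ⧸ torsT T' M)) := tf_hom 𝔞 hTFN
  have hQ : ∀ (J : Ideal A), PrimeSpectrum.zeroLocus (J : Set A) ⊆ T' →
      ∀ ψ : J →ₗ[A] (𝔞 →ₗ[A] (M ⧸ torsT T' M)),
      ∃ m'' : 𝔞 →ₗ[A] (M ⧸ torsT T' M), ∀ j : J, ψ j = (j : A) • m'' :=
    fun J hJ ψ => exists_eq_smul 𝔞 hTFN h𝔞 hP J hJ ψ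
  haveI : IsNoetherian A (M ⧸ torsT T' M) := inferInstance
  haveI hfin : Module.Finite A (𝔞 →ₗ[A] (M ⧸ torsT T' M)) := by
    haveI : IsNoetherian A (𝔞 →ₗ[A] (M ⧸ torsT T' M)) := isNoetherian_linearMap _ _ _
    infer_instance
  refine ⟨𝔞 →ₗ[A] (M ⧸ torsT T' M), inferInstance, inferInstance, hfin,
    (f₀ 𝔞 (M ⧸ torsT T' M)).comp π, ?_, ?_⟩
  · intro p hp
    apply bijective_map_of_torsion
    · intro x hx
      have hx0 : π x = 0 := f₀_injective 𝔞 hTFN h𝔞 (hx.trans (map_zero _).symm)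
      have hx' : x ∈ torsT T' M := by
        rwa [← Submodule.Quotient.mk_eq_zero]
      obtain ⟨J, hJ, hJx⟩ := hx'
      obtain ⟨s, hsJ, hsp⟩ := exists_mem_notMem hJ p hp
      exact ⟨s, hsp, hJx s hsJ⟩
    · intro g
      obtain ⟨s, hs𝔞, hsp⟩ := exists_mem_notMem h𝔞 p hp
      obtain ⟨x, hx⟩ := hπsurj (g ⟨s, hs𝔞⟩)
      refine ⟨s, hsp, x, ?_⟩
      rw [LinearMap.comp_apply, hx]
      exact (smul_eq_f₀ 𝔞 g ⟨s, hs𝔞⟩).symm
  · intro p hp
    have h1 := (locKill_inD_iff_depth hω p (𝔞 →ₗ[A] (M ⧸ torsT T' M)) 1).1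
      (fun j hj => locKill_transform T' _ hTF'' hQ hT p hp j hj)
    by_contra hcon
    push Not at hcon
    obtain ⟨r, hr⟩ := ENat.ne_top_iff_exists.mp (ne_top_of_lt hcon)
    have h2 := h1 r hr.symm
    rw [← hr] at hcon
    have h3 : r < 2 := by exact_mod_cast hcon
    omega

end Groth.Agent.H2.HT.IT
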