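import Mathlib
import Groth.Agent.H2.HT.ComplKillJ
import Groth.Agent.H58.LCFaltings
import Groth.Agent.H58.LCCompare
import Groth.Agent.H81.FaltingsReg

/-!
# Stabilization of `H^i_{J'}(M)` over the ideals `J'` with `V(J') ∩ V(I) = V(J) ∩ V(I)`  (helper2)

Statements S8790, S8791, S8792.
-/

set_option autoImplicit false
set_option maxHeartbeats 800000
set_option linter.unusedSectionVars false
set_option linter.style.haveILetI false

universe u

open CategoryTheory CategoryTheory.Limits Opposite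

attribute [local instance] HasDerivedCategory.standard

namespace Groth.Agent.H2.HT.Stab

open Groth.Agent.H2.DualCx Groth.Agent.H2.HT Groth.Agent.H2.HT.CK IsLocalRing

variable {A : Type u} [CommRing A] [IsNoetherianRing A]

/-! ### generic lemmas -/

/-- depth form of `(s : WithBot ℕ∞) < depth + 0` -/
theorem lt_depth_of_withBot {s : ℕ} {dp : ℕ∞}
    (h : ∀ r : ℕ, dp = r → (s : ℤ) - ((0 : ℕ) : ℤ) < r) : (s : ℕ∞) < dp := by
  induction dp using ENat.recTopCoe with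
  | top => exact ENat.natCast_lt_top s
  | coe r =>
    have := h r rfl
    have h1 : s < r := by omega
    exact_mod_cast h1

/-- an ideal cutting out the components of `V(𝔞)` lying in `T` -/
theorem exists_ideal_T (𝔞 : Ideal A) (T : Set (PrimeSpectrum A))
    (hTs : StableUnderSpecialization T) :
    ∃ J₁ : Ideal A, PrimeSpectrum.zeroLocus (J₁ : Set A) ⊆ T ∧
      ∀ P : PrimeSpectrum A, P.asIdeal ∈ 𝔞.minimalPrimes → P ∈ T → J₁ ≤ P.asIdeal := by
  classical
  have hfin : (𝔞.minimalPrimes).Finite := Ideal.finite_minimalPrimes_of_isNoetherianRing A 𝔞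
  let F : Finset (Ideal A) := hfin.toFinset.filter
    (fun P => ∃ hP : P.IsPrime, (⟨P, hP⟩ : PrimeSpectrum A) ∈ T)
  refine ⟨F.inf id, ?_, ?_⟩
  · refine zeroLocus_finset_inf_subset F id (fun P hP => ?_)
    rw [Finset.mem_filter] at hP
    obtain ⟨-, hPp, hPT⟩ := hP
    intro q hq
    rw [PrimeSpectrum.mem_zeroLocus, SetLike.coe_subset_coe] at hq
    have hle : (⟨P, hPp⟩ : PrimeSpectrum A) ≤ q := hq
    exact hTs ((PrimeSpectrum.le_iff_specializes _ _).mp hle) hPT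
  · intro P hP hPT
    have hmem : P.asIdeal ∈ F := by
      rw [Finset.mem_filter]
      exact ⟨hfin.mem_toFinset.mpr hP, P.2, hPT⟩
    exact Finset.inf_le (f := id) hmem

/-- bijectivity of the comparison maps from depth conditions -/
theorem bijective_HmapOfLE_of_depth (J' J₀ : Ideal A) (h : J' ≤ J₀) (M : Type u)
    [AddCommGroup M] [Module A M] [Module.Finite A M] (s : ℕ)
    (hd : ∀ p : PrimeSpectrum A, J' ≤ p.asIdeal → ¬ J₀ ≤ p.asIdeal →
      (s : ℕ∞) < LocCoh.depth (Localization.AtPrime p.asIdeal)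
        (LocalizedModule p.asIdeal.primeCompl M)) (i : ℕ) (hi : i ≤ s) :
    Function.Bijective ((Dual2.HmapOfLE h i).app (ModuleCat.of A M)).hom := by
  have hcmp := Groth.Agent.H58.LC.comparison J' J₀ h M i
  have hlt : ∀ (j : ℕ), j ≤ s → ∀ p : PrimeSpectrum A, J' ≤ p.asIdeal → ¬ J₀ ≤ p.asIdeal →
      Subsingleton (LocCoh.H (IsLocalRing.maximalIdeal (Localization.AtPrime p.asIdeal)) j
        (LocalizedModule p.asIdeal.primeCompl M)) := by
    intro j hj p h1 h2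
    refine Groth.Agent.H81.FaltingsReg.subsingleton_H_local M p j
      (lt_of_le_of_lt ?_ (hd p h1 h2))
    exact_mod_cast hj
  exact ⟨hcmp.2 (fun p h1 h2 j hj => hlt j (by omega) p h1 h2),
    hcmp.1 (fun p h1 h2 => hlt i hi p h1 h2)⟩

variable {ω : Dual.D A} (hω : Dual.IsDualizing A ω)

include hω in
/-- annihilation of `H^i_𝔟(M)` by a power of `𝔠` from Faltings' condition -/
theorem exists_pow_kill_H (𝔟 𝔠 : Ideal A) (M : Type u) [AddCommGroup M] [Module A M]
    [Module.Finite A M] (s : ℕ)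
    (h : ∀ p q : PrimeSpectrum A, ¬ 𝔠 ≤ p.asIdeal → 𝔟 ≤ q.asIdeal → p ≤ q →
      (s : WithBot ℕ∞) < ((LocCoh.depth (Localization.AtPrime p.asIdeal)
        (LocalizedModule p.asIdeal.primeCompl M) : ℕ∞) : WithBot ℕ∞) +
        Order.krullDim (Set.Icc p q)) :
    ∃ n : ℕ, ∀ a ∈ 𝔠 ^ n, ∀ i : ℕ, i ≤ s → ∀ x : LocCoh.H 𝔟 i M, a • x = 0 := by
  let T₁ : Set (PrimeSpectrum A) := PrimeSpectrum.zeroLocus (𝔟 : Set A)
  let T₂ : Set (PrimeSpectrum A) := PrimeSpectrum.zeroLocus (𝔠 : Set A)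
  have hT₁ : StableUnderSpecialization T₁ :=
    (PrimeSpectrum.isClosed_zeroLocus _).stableUnderSpecialization
  have hT₂ : StableUnderSpecialization T₂ :=
    (PrimeSpectrum.isClosed_zeroLocus _).stableUnderSpecialization
  obtain ⟨J₂, hJ₂V, hJ₂⟩ := (faltings_module hω T₁ T₂ hT₁ hT₂ s M).2 (by
    intro p q hp hq hpq
    refine h p q (fun hle => hp ?_) ?_ hpq
    · rw [PrimeSpectrum.mem_zeroLocus, SetLike.coe_subset_coe]
      exact hle
    · rwa [PrimeSpectrum.mem_zeroLocus, SetLike.coe_subset_coe] at hq)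
  have hrad : 𝔠 ≤ J₂.radical := (PrimeSpectrum.zeroLocus_subset_zeroLocus_iff J₂ 𝔠).mp hJ₂V
  obtain ⟨n, hn⟩ := Ideal.exists_pow_le_of_le_radical_of_fg hrad (IsNoetherian.noetherian 𝔠)
  refine ⟨n, fun a ha i hi x => ?_⟩
  have h1 := (kill_HT_iff_kill_HX (T := T₁) M J₂ s).1 hJ₂ (i : ℤ) (by omega) a (hn ha)
  have h2 := smul_HDI_eq_zero_of_HX 𝔟 a (Dual.inD A M) (i : ℤ) h1
  obtain ⟨e⟩ := Groth.Agent.H9.LD.nonempty_hdi_inD_equiv_H 𝔟 i M
  have := h2 (e.symm x)
  rw [← map_smul] at this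
  exact e.symm.injective (this.trans (map_zero _).symm)

include hω in
/-- finiteness of `H^i_𝔟(M)` from Faltings' condition -/
theorem finite_H_of_cond (𝔟 : Ideal A) (M : Type u) [AddCommGroup M] [Module A M]
    [Module.Finite A M] (s : ℕ)
    (h : ∀ p q : PrimeSpectrum A, ¬ 𝔟 ≤ p.asIdeal → 𝔟 ≤ q.asIdeal → p ≤ q →
      (s : WithBot ℕ∞) < ((LocCoh.depth (Localization.AtPrime p.asIdeal)
        (LocalizedModule p.asIdeal.primeCompl M) : ℕ∞) : WithBot ℕ∞) +
        Order.krullDim (Set.Icc p q)) (i : ℕ) (hi : i ≤ s) :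
    Module.Finite A (LocCoh.H 𝔟 i M) := by
  obtain ⟨n, hn⟩ := exists_pow_kill_H hω 𝔟 𝔟 M s h
  refine Groth.Agent.H58.LC.finite_H_of_radKills (I := 𝔟) s M (fun j hj => ?_) i hi
  intro r hr
  exact ⟨n, fun x => hn _ (Ideal.pow_mem_pow hr n) j hj x⟩

/-! ### the situation of S8790 -/

section Situation

variable (I J : Ideal A) (M : Type u) [AddCommGroup M] [Module A M] [Module.Finite A M]
  (s d : ℕ) (T : Set (PrimeSpectrum A))
  (hT : ∀ p : PrimeSpectrum A, p ∈ T ↔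
    ∀ q : PrimeSpectrum A, p ≤ q → I ≤ q.asIdeal → J ≤ q.asIdeal)
  (h3 : ∀ p : PrimeSpectrum A, ¬ I ≤ p.asIdeal → p ∈ T → ∃ q : PrimeSpectrum A, p ≤ q ∧
    J ≤ q.asIdeal ∧ I ≤ q.asIdeal ∧
    Formal2.dimBetween A p.asIdeal q.asIdeal ≤ ((d : ℕ∞) : WithBot ℕ∞))
  (h4 : ∀ p : PrimeSpectrum A, ¬ I ≤ p.asIdeal → p ∉ T → ∀ q : PrimeSpectrum A, p ≤ q →
    J ≤ q.asIdeal → I ≤ q.asIdeal →
    (s : ℕ∞) ≤ LocCoh.depth (Localization.AtPrime p.asIdeal)
      (LocalizedModule p.asIdeal.primeCompl M) ∨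
    (((d + s : ℕ) : ℕ∞) : WithBot ℕ∞) <
      ((LocCoh.depth (Localization.AtPrime p.asIdeal)
        (LocalizedModule p.asIdeal.primeCompl M) : ℕ∞) : WithBot ℕ∞) +
      Formal2.dimBetween A p.asIdeal q.asIdeal)

include hT in
theorem stable_T : StableUnderSpecialization T := by
  intro p p' hpp' hp
  rw [hT] at hp ⊢
  intro q hq
  exact hp q (((PrimeSpectrum.le_iff_specializes p p').mpr hpp').trans hq)

include hT in
theorem J_le_of_mem_T {p : PrimeSpectrum A} (hp : p ∈ T) (hI : I ≤ p.asIdeal) :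
    J ≤ p.asIdeal := (hT p).1 hp p le_rfl hI

include hT in
theorem mem_T_of_J_le {p : PrimeSpectrum A} (hJ : J ≤ p.asIdeal) : p ∈ T := by
  rw [hT]
  intro q hq _
  exact hJ.trans hq

include hω hT h3 h4 in
/-- condition (C): Faltings' condition for `p ∉ T ∪ V(I)` and `q ∈ T` -/
theorem cond_C (p q : PrimeSpectrum A) (hpT : p ∉ T) (hpI : ¬ I ≤ p.asIdeal) (hq : q ∈ T)
    (hpq : p ≤ q) :
    (s : WithBot ℕ∞) < ((LocCoh.depth (Localization.AtPrime p.asIdeal)
      (LocalizedModule p.asIdeal.primeCompl M) : ℕ∞) : WithBot ℕ∞) +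
      Order.krullDim (Set.Icc p q) := by
  have hne : p ≠ q := fun h => hpT (h ▸ hq)
  have hlt : p < q := lt_of_le_of_ne hpq hne
  have htd := topDeg_lt hω hlt
  rw [krullDim_Icc_eq hω hpq, withBot_lt_iff]
  intro r hr
  -- the two alternatives of (4) for a prime `q' ⊇ q` in `V(J) ∩ V(I)` with `dim ≤ d`
  have key : ∀ q' : PrimeSpectrum A, q ≤ q' → J ≤ q'.asIdeal → I ≤ q'.asIdeal →
      (topDeg hω q' - topDeg hω q).toNat ≤ d →
      (s : ℤ) - ((topDeg hω q - topDeg hω p).toNat : ℕ) < r := by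
    intro q' hqq' hJq' hIq' hdim
    have hm1 := topDeg_mono hω hqq'
    rcases h4 p hpI hpT q' (hpq.trans hqq') hJq' hIq' with h | h
    · rw [hr] at h
      have : s ≤ r := by exact_mod_cast h
      omega
    · rw [dimBetween_eq p q' (hpq.trans hqq'), krullDim_Icc_eq hω (hpq.trans hqq')] at h
      have h' : ((d + s : ℕ) : WithBot ℕ∞) <
          ((LocCoh.depth (Localization.AtPrime p.asIdeal)
            (LocalizedModule p.asIdeal.primeCompl M) : ℕ∞) : WithBot ℕ∞) +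
          (((topDeg hω q' - topDeg hω p).toNat : ℕ) : WithBot ℕ∞) := h
      rw [withBot_lt_iff] at h'
      have := h' r hr
      push_cast at this
      omega
  by_cases hIq : I ≤ q.asIdeal
  · exact key q le_rfl (J_le_of_mem_T I J T hT hq hIq) hIq (by simp)
  · obtain ⟨q', hqq', hJq', hIq', hdim⟩ := h3 q hIq hq
    rw [dimBetween_eq q q' hqq', krullDim_Icc_eq hω hqq'] at hdim
    have hdim' : ((topDeg hω q' - topDeg hω q).toNat : ℕ∞) ≤ (d : ℕ∞) := by
      have h1 : ((((topDeg hω q' - topDeg hω q).toNat : ℕ) : ℕ∞) : WithBot ℕ∞) ≤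
          ((d : ℕ∞) : WithBot ℕ∞) := hdim
      exact WithBot.coe_le_coe.mp h1
    exact key q' hqq' hJq' hIq' (by exact_mod_cast hdim')

include hω hT h3 h4 in
/-- **the main construction**: the ideal `J₀` -/
theorem exists_J0 :
    ∃ J₀ : Ideal A, J₀ ≤ J ∧ PrimeSpectrum.zeroLocus (J₀ : Set A) ⊆ T ∧
      ∀ p : PrimeSpectrum A, p ∈ T → ¬ J₀ ≤ p.asIdeal →
        (s : ℕ∞) < LocCoh.depth (Localization.AtPrime p.asIdeal)
          (LocalizedModule p.asIdeal.primeCompl M) := by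
  have hTs := stable_T I J T hT
  let T'' : Set (PrimeSpectrum A) := T ∪ PrimeSpectrum.zeroLocus (I : Set A)
  have hT''s : StableUnderSpecialization T'' := by
    intro x y hxy hx
    rcases hx with hx | hx
    · exact Or.inl (hTs hxy hx)
    · exact Or.inr ((PrimeSpectrum.isClosed_zeroLocus _).stableUnderSpecialization hxy hx)
  obtain ⟨𝔞, h𝔞V, h𝔞⟩ := (faltings_module hω T T'' hTs hT''s s M).2 (by
    intro p q hp hq hpq
    have hpT : p ∉ T := fun h => hp (Or.inl h)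
    have hpI : ¬ I ≤ p.asIdeal := fun h => hp (Or.inr (by
      rw [PrimeSpectrum.mem_zeroLocus, SetLike.coe_subset_coe]
      exact h))
    exact cond_C hω I J M s d T hT h3 h4 p q hpT hpI hq hpq)
  -- depth at the points of `T ∖ V(𝔞)`
  have hV𝔞s : StableUnderSpecialization (PrimeSpectrum.zeroLocus (𝔞 : Set A)) :=
    (PrimeSpectrum.isClosed_zeroLocus _).stableUnderSpecialization
  have hD : ∀ p : PrimeSpectrum A, p ∈ T → ¬ 𝔞 ≤ p.asIdeal →
      (s : ℕ∞) < LocCoh.depth (Localization.AtPrime p.asIdeal)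
        (LocalizedModule p.asIdeal.primeCompl M) := by
    intro p hpT hp𝔞
    have h1 := (faltings_module hω T (PrimeSpectrum.zeroLocus (𝔞 : Set A)) hTs hV𝔞s s M).1
      ⟨𝔞, subset_rfl, h𝔞⟩ p p (fun h => hp𝔞 (by
        rwa [PrimeSpectrum.mem_zeroLocus, SetLike.coe_subset_coe] at h)) hpT le_rfl
    rw [krullDim_Icc_eq hω (le_refl p), withBot_lt_iff] at h1
    apply lt_depth_of_withBot
    intro r hr
    have := h1 r hr
    simpa using this
  obtain ⟨J₁, hJ₁T, hJ₁⟩ := exists_ideal_T 𝔞 T hTs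
  refine ⟨J₁ ⊓ J, inf_le_right, ?_, ?_⟩
  · rw [PrimeSpectrum.zeroLocus_inf]
    refine Set.union_subset hJ₁T (fun p hp => ?_)
    rw [PrimeSpectrum.mem_zeroLocus, SetLike.coe_subset_coe] at hp
    exact mem_T_of_J_le I J T hT hp
  · intro p hpT hpJ₀
    apply hD p hpT
    intro h𝔞p
    obtain ⟨P, hPmin, hPp⟩ := Ideal.exists_minimalPrimes_le h𝔞p
    haveI hPprime : P.IsPrime := hPmin.1.1
    let P' : PrimeSpectrum A := ⟨P, hPprime⟩
    by_cases hPT : P' ∈ T
    · exact hpJ₀ ((inf_le_left.trans (hJ₁ P' hPmin hPT)).trans hPp)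
    · have hP𝔞 : P' ∈ PrimeSpectrum.zeroLocus (𝔞 : Set A) := by
        rw [PrimeSpectrum.mem_zeroLocus, SetLike.coe_subset_coe]
        exact hPmin.1.2
      rcases h𝔞V hP𝔞 with h | h
      · exact hPT h
      · rw [PrimeSpectrum.mem_zeroLocus, SetLike.coe_subset_coe] at h
        have hIp : I ≤ p.asIdeal := h.trans hPp
        exact hpJ₀ (inf_le_right.trans (J_le_of_mem_T I J T hT hpT hIp))

include hT in
/-- `V(J') ⊆ T` for the ideals `J'` of the statement -/
theorem zeroLocus_subset_T (J' : Ideal A)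
    (h : PrimeSpectrum.zeroLocus (J' : Set A) ∩ PrimeSpectrum.zeroLocus (I : Set A) =
      PrimeSpectrum.zeroLocus (J : Set A) ∩ PrimeSpectrum.zeroLocus (I : Set A)) :
    PrimeSpectrum.zeroLocus (J' : Set A) ⊆ T := by
  intro p hp
  rw [hT]
  intro q hpq hIq
  have hq : q ∈ PrimeSpectrum.zeroLocus (J' : Set A) ∩ PrimeSpectrum.zeroLocus (I : Set A) := by
    constructor
    · rw [PrimeSpectrum.mem_zeroLocus, SetLike.coe_subset_coe] at hp ⊢
      exact hp.trans hpq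
    · rw [PrimeSpectrum.mem_zeroLocus, SetLike.coe_subset_coe]
      exact hIq
  rw [h] at hq
  have := hq.1
  rwa [PrimeSpectrum.mem_zeroLocus, SetLike.coe_subset_coe] at this

include hT in
/-- the locus condition for `J₀` -/
theorem zeroLocus_inter_eq (J₀ : Ideal A) (hJ₀J : J₀ ≤ J)
    (hJ₀T : PrimeSpectrum.zeroLocus (J₀ : Set A) ⊆ T) :
    PrimeSpectrum.zeroLocus (J₀ : Set A) ∩ PrimeSpectrum.zeroLocus (I : Set A) =
      PrimeSpectrum.zeroLocus (J : Set A) ∩ PrimeSpectrum.zeroLocus (I : Set A) := by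
  ext p
  constructor
  · rintro ⟨h1, h2⟩
    refine ⟨?_, h2⟩
    rw [PrimeSpectrum.mem_zeroLocus, SetLike.coe_subset_coe] at h2 ⊢
    exact J_le_of_mem_T I J T hT (hJ₀T h1) h2
  · rintro ⟨h1, h2⟩
    refine ⟨?_, h2⟩
    rw [PrimeSpectrum.mem_zeroLocus, SetLike.coe_subset_coe] at h1 ⊢
    exact hJ₀J.trans h1

end Situation

end Groth.Agent.H2.HT.Stab
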