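import Mathlib
import Groth.Agent.H2.HT.Stabilize

/-!
# Statements S8790, S8791, S8792 in helper form  (helper2)
-/

set_option autoImplicit false
set_option maxHeartbeats 800000
set_option linter.unusedSectionVars false
set_option linter.style.haveILetI false

universe u

open CategoryTheory CategoryTheory.Limits Opposite

attribute [local instance] HasDerivedCategory.standard

namespace Groth.Agent.H2.HT.Stab

open Groth.Agent.H2.DualCx Groth.Agent.H2.HT Groth.Agent.H2.HT.CK IsLocalRing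

variable {A : Type u} [CommRing A] [IsNoetherianRing A]
variable {ω : Dual.D A} (hω : Dual.IsDualizing A ω)

include hω in
/-- `s < depth` gives Faltings' inequality -/
theorem lt_add_krullDim_of_lt_depth {M : Type u} [AddCommGroup M] [Module A M] {s : ℕ}
    (p q : PrimeSpectrum A) (hpq : p ≤ q)
    (h : (s : ℕ∞) < LocCoh.depth (Localization.AtPrime p.asIdeal)
      (LocalizedModule p.asIdeal.primeCompl M)) :
    (s : WithBot ℕ∞) < ((LocCoh.depth (Localization.AtPrime p.asIdeal)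
      (LocalizedModule p.asIdeal.primeCompl M) : ℕ∞) : WithBot ℕ∞) +
      Order.krullDim (Set.Icc p q) := by
  rw [krullDim_Icc_eq hω hpq, withBot_lt_iff]
  intro r hr
  rw [hr] at h
  have h1 : s < r := by exact_mod_cast h
  omega

section Situation

variable (I J : Ideal A) (M : Type u) [AddCommGroup M] [Module A M] [Module.Finite A M]
  (s d : ℕ) (T : Set (PrimeSpectrum A))
  (hT : ∀ p : PrimeSpectrum A, p ∈ T ↔
    ∀ q : PrimeSpectrum A, p ≤ q → I ≤ q.asIdeal → J ≤ q.asIdeal)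
  (h3 : ∀ p : PrimeSpectrum A, ¬ I ≤ p.asIdeal → p ∈ T → ∃ q : PrimeSpectrum A, p ≤ q ∧
    J ≤ q.asIdeal ∧ I ≤ q.asIdeal ∧
    Formal2.dimBetween A p.asIdeal q.asIdeal ≤ ((d : ℕ∞) : WithBot ℕ∞))
  (h4 : ∀ p : PrimeSpectrum A, ¬ I ≤ p.asIdeal → p ∉ T → ∀ q : PrimeSpectrum A, p ≤ q →
    J ≤ q.asIdeal → I ≤ q.asIdeal →
    (s : ℕ∞) ≤ LocCoh.depth (Localization.AtPrime p.asIdeal)
      (LocalizedModule p.asIdeal.primeCompl M) ∨
    (((d + s : ℕ) : ℕ∞) : WithBot ℕ∞) <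
      ((LocCoh.depth (Localization.AtPrime p.asIdeal)
        (LocalizedModule p.asIdeal.primeCompl M) : ℕ∞) : WithBot ℕ∞) +
      Formal2.dimBetween A p.asIdeal q.asIdeal)

include hω hT h3 h4 in
/-- the common core of S8790, S8791, S8792 -/
theorem core :
    ∃ J₀ : Ideal A, (J₀ ≤ J ∧ PrimeSpectrum.zeroLocus (J₀ : Set A) ⊆ T ∧
      (∀ p : PrimeSpectrum A, p ∈ T → ¬ J₀ ≤ p.asIdeal →
        (s : ℕ∞) < LocCoh.depth (Localization.AtPrime p.asIdeal)
          (LocalizedModule p.asIdeal.primeCompl M))) ∧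
      (J₀ ≤ J ∧ PrimeSpectrum.zeroLocus ((J₀ : Ideal A) : Set A) ∩
          PrimeSpectrum.zeroLocus ((I : Ideal A) : Set A) =
        PrimeSpectrum.zeroLocus ((J : Ideal A) : Set A) ∩
          PrimeSpectrum.zeroLocus ((I : Ideal A) : Set A) ∧
      (∀ (J' : Ideal A) (hJ' : J' ≤ J₀),
        PrimeSpectrum.zeroLocus ((J' : Ideal A) : Set A) ∩
            PrimeSpectrum.zeroLocus ((I : Ideal A) : Set A) =
          PrimeSpectrum.zeroLocus ((J : Ideal A) : Set A) ∩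
            PrimeSpectrum.zeroLocus ((I : Ideal A) : Set A) →
        ∀ i : ℕ, i ≤ s →
          Function.Bijective ((Dual2.HmapOfLE hJ' i).app (ModuleCat.of A M)).hom) ∧
      (∃ n : ℕ, ∀ a ∈ (J₀ * I) ^ n, ∀ i : ℕ, i ≤ s → ∀ x : LocCoh.H J₀ i M, a • x = 0)) := by
  obtain ⟨J₀, hJ₀J, hJ₀T, hD⟩ := exists_J0 hω I J M s d T hT h3 h4
  refine ⟨J₀, ⟨hJ₀J, hJ₀T, hD⟩, hJ₀J, zeroLocus_inter_eq I J T hT J₀ hJ₀J hJ₀T, ?_, ?_⟩
  · intro J' hJ' hV i hi
    have hJ'T := zeroLocus_subset_T I J T hT J' hV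
    refine bijective_HmapOfLE_of_depth J' J₀ hJ' M s (fun p h1 h2 => hD p (hJ'T ?_) h2) i hi
    rw [PrimeSpectrum.mem_zeroLocus, SetLike.coe_subset_coe]
    exact h1
  · refine exists_pow_kill_H hω J₀ (J₀ * I) M s ?_
    intro p q hp hq hpq
    have hpJ₀ : ¬ J₀ ≤ p.asIdeal := fun h => hp (Ideal.mul_le_left.trans h)
    have hpI : ¬ I ≤ p.asIdeal := fun h => hp (Ideal.mul_le_right.trans h)
    have hqT : q ∈ T := hJ₀T (by
      rw [PrimeSpectrum.mem_zeroLocus, SetLike.coe_subset_coe]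
      exact hq)
    by_cases hpT : p ∈ T
    · exact lt_add_krullDim_of_lt_depth hω p q hpq (hD p hpT hpJ₀)
    · exact cond_C hω I J M s d T hT h3 h4 p q hpT hpI hqT hpq

include hω hT h3 h4 in
/-- finiteness under (2') -/
theorem finite_of_h2 (J₀ : Ideal A) (hJ₀J : J₀ ≤ J)
    (hJ₀T : PrimeSpectrum.zeroLocus (J₀ : Set A) ⊆ T)
    (hD : ∀ p : PrimeSpectrum A, p ∈ T → ¬ J₀ ≤ p.asIdeal →
        (s : ℕ∞) < LocCoh.depth (Localization.AtPrime p.asIdeal)
          (LocalizedModule p.asIdeal.primeCompl M))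
    (h2 : ∀ p : PrimeSpectrum A, I ≤ p.asIdeal → ¬ J ≤ p.asIdeal → ∀ q : PrimeSpectrum A,
      p ≤ q → J ≤ q.asIdeal → I ≤ q.asIdeal → ((s : ℕ∞) : WithBot ℕ∞) <
        ((LocCoh.depth (Localization.AtPrime p.asIdeal)
          (LocalizedModule p.asIdeal.primeCompl M) : ℕ∞) : WithBot ℕ∞) +
        Formal2.dimBetween A p.asIdeal q.asIdeal) (i : ℕ) (hi : i ≤ s) :
    Module.Finite A (LocCoh.H J₀ i M) := by
  refine finite_H_of_cond hω J₀ M s ?_ i hi
  intro p q hp hq hpq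
  have hqT : q ∈ T := hJ₀T (by
    rw [PrimeSpectrum.mem_zeroLocus, SetLike.coe_subset_coe]
    exact hq)
  by_cases hpI : I ≤ p.asIdeal
  · have hpJ : ¬ J ≤ p.asIdeal := fun h => hp (hJ₀J.trans h)
    have hIq : I ≤ q.asIdeal := hpI.trans hpq
    have hJq : J ≤ q.asIdeal := J_le_of_mem_T I J T hT hqT hIq
    have := h2 p hpI hpJ q hpq hJq hIq
    rw [dimBetween_eq p q hpq] at this
    exact this
  · by_cases hpT : p ∈ T
    · exact lt_add_krullDim_of_lt_depth hω p q hpq (hD p hpT hp)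
    · exact cond_C hω I J M s d T hT h3 h4 p q hpT hpI hqT hpq

include hω hT h3 h4 in
/-- the additional comparisons under (6) -/
theorem extra_of_h6 (J₀ : Ideal A) (hJ₀ : J₀ ≤ J)
    (hJ₀T : PrimeSpectrum.zeroLocus (J₀ : Set A) ⊆ T)
    (h6 : ∀ p : PrimeSpectrum A, ¬ I ≤ p.asIdeal → p ∈ T →
      (s : ℕ∞) < LocCoh.depth (Localization.AtPrime p.asIdeal)
        (LocalizedModule p.asIdeal.primeCompl M)) :
    (∀ i : ℕ, i ≤ s →
      Function.Bijective ((Dual2.HmapOfLE hJ₀ i).app (ModuleCat.of A M)).hom ∧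
      Function.Bijective ((Dual2.HmapOfLE (le_sup_left : J ≤ J ⊔ I) i).app
        (ModuleCat.of A M)).hom) ∧
    ∃ n : ℕ, ∀ a ∈ I ^ n, ∀ i : ℕ, i ≤ s → ∀ x : LocCoh.H J i M, a • x = 0 := by
  refine ⟨fun i hi => ⟨?_, ?_⟩, ?_⟩
  · refine bijective_HmapOfLE_of_depth J₀ J hJ₀ M s (fun p h1 h2 => ?_) i hi
    have hpT : p ∈ T := hJ₀T (by
      rw [PrimeSpectrum.mem_zeroLocus, SetLike.coe_subset_coe]
      exact h1)
    exact h6 p (fun hI => h2 (J_le_of_mem_T I J T hT hpT hI)) hpT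
  · refine bijective_HmapOfLE_of_depth J (J ⊔ I) le_sup_left M s (fun p h1 h2 => ?_) i hi
    have hpT : p ∈ T := mem_T_of_J_le I J T hT h1
    exact h6 p (fun hI => h2 (sup_le h1 hI)) hpT
  · refine exists_pow_kill_H hω J I M s ?_
    intro p q hpI hq hpq
    have hqT : q ∈ T := mem_T_of_J_le I J T hT hq
    by_cases hpT : p ∈ T
    · exact lt_add_krullDim_of_lt_depth hω p q hpq (h6 p hpI hpT)
    · exact cond_C hω I J M s d T hT h3 h4 p q hpT hpI hqT hpq

end Situation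

end Groth.Agent.H2.HT.Stab
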